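import Cfsg.Agent.H20.BlockApps
import Cfsg.Agent.H22.SectionOrth
import Cfsg.Agent.H22.ValueMod
import Cfsg.Agent.H20.CoprimePart
import Cfsg.Agent.H60.PLengthRestrict
import Cfsg.Agent.H85.AbTwo.Basic

/-!
A constant difference `χ(1) - χ(u)` on the nontrivial characters of the principal 2-block: the
first consequences for the 2-elements (helper85).
-/

set_option autoImplicit false
set_option linter.style.haveILetI false
set_option linter.unusedSectionVars false

open Cfsg Finset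
open scoped ComplexConjugate

namespace H85.ConstDiff

universe u

variable {G : Type u} [Group G] [Fintype G] {M : Ideal AlgInt} [hMp : M.IsPrime]

/-- The nontrivial members of the principal block. -/
noncomputable def nt (M : Ideal AlgInt) (G : Type u) [Group G] [Fintype G] :
    Finset (IrrCharacter G) :=
  letI := Classical.decEq (IrrCharacter G)
  (H22.blockFinset (principalBlock M G)).erase (H12.oneIrr G)

theorem mem_nt {χ : IrrCharacter G} :
    χ ∈ nt M G ↔ χ ≠ H12.oneIrr G ∧ χ ∈ principalBlock M G := by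
  classical
  simp [nt, H22.mem_blockFinset]

theorem sum_block_eq {A : Type*} [AddCommMonoid A] (f : IrrCharacter G → A) :
    (∑ χ ∈ H22.blockFinset (principalBlock M G), f χ) = f (H12.oneIrr G) + ∑ χ ∈ nt M G, f χ := by
  classical
  haveI := hMp
  have h1 : H12.oneIrr G ∈ H22.blockFinset (principalBlock M G) :=
    H22.mem_blockFinset.2 (show H12.oneIrr G ∈ principalBlock M G from
      H20.mem_blockOf_self (M := M) (H12.oneIrr G))
  rw [nt]
  convert (Finset.add_sum_erase (H22.blockFinset (principalBlock M G)) f h1).symm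

/-- The degree as an integer. -/
noncomputable def dg (χ : IrrCharacter G) : ℤ := (charDegree (χ : G → ℂ) : ℤ)

theorem dg_eq (χ : IrrCharacter G) : (χ : G → ℂ) 1 = (dg χ : ℂ) := by
  rw [dg, H22.irr_one_eq_charDegree χ, Int.cast_natCast]

theorem dg_pos (χ : IrrCharacter G) : 0 < dg χ := by
  have h : (χ : G → ℂ) 1 ≠ 0 := H12.irr_apply_one_ne_zero χ
  rw [H22.irr_one_eq_charDegree χ, Nat.cast_ne_zero] at h
  rw [dg]
  exact_mod_cast Nat.pos_of_ne_zero h

/-- Orthogonality between distinct 2-sections in the principal block. -/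
theorem orth (hM : IsPModular 2 M) {g h : G}
    (hne : ¬ IsConj (H20.pPart 2 g) (H20.pPart 2 h)) :
    ∑ χ ∈ H22.blockFinset (principalBlock M G), (χ : G → ℂ) g * (χ : G → ℂ) h⁻¹ = 0 := by
  rw [← H22.finsum_mem_block]
  exact H20.block_orthogonality hM hne H20.isPBlock_principalBlock

theorem pPart_one' : H20.pPart 2 (1 : G) = 1 := by
  haveI : Fact (Nat.Prime 2) := ⟨Nat.prime_two⟩
  exact H20.pPart_eq_one_iff.2 (by rw [orderOf_one]; omega)

/-- The character difference is constant. -/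
structure Hyp (M : Ideal AlgInt) (u : G) (K : ℤ) : Prop where
  core : pPrimeCore 2 G = ⊥
  ne : u ≠ 1
  eq : ∀ χ ∈ nt M G, (χ : G → ℂ) u = ((dg χ - K : ℤ) : ℂ)

theorem intCast_even (hM : IsPModular 2 M) {a : ℤ} (h : MemLocalIdeal M (a : ℂ)) : 2 ∣ a :=
  (H20.intCast_memIdeal_iff hM a).1 h

/-- A sum over the block against a 2-element is congruent to the sum of the degrees. -/
theorem sum_congr_one (hM : IsPModular 2 M) {w : G} (hw : ∃ j : ℕ, orderOf w = 2 ^ j)
    (s : Finset (IrrCharacter G)) (c : IrrCharacter G → ℤ)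
    (h0 : ∑ χ ∈ s, (c χ : ℂ) * (χ : G → ℂ) w = 0) : 2 ∣ ∑ χ ∈ s, c χ * dg χ := by
  obtain ⟨j, hj⟩ := hw
  apply intCast_even hM
  have h : MemLocalIdeal M (∑ χ ∈ s, (c χ : ℂ) * ((χ : G → ℂ) w - (χ : G → ℂ) 1)) :=
    Finset.sum_induction _ (MemLocalIdeal M) (fun _ _ => H20.memIdeal_add) H20.memIdeal_zero
      fun χ _ => H20.memIdeal_mul (H20.memRing_intCast _)
        (H22.memIdeal_apply_sub_one hM (H12.isCharacter_irr χ) hj)
  simp only [mul_sub, Finset.sum_sub_distrib, h0, zero_sub] at h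
  have h2 := H20.memIdeal_mul (H20.memRing_intCast (-1)) h
  push_cast
  simp only [← dg_eq]
  simpa using h2

theorem two_dvd_sq_sub (a : ℤ) : 2 ∣ a * a - a := by
  obtain ⟨c, hc⟩ := Int.even_mul_pred_self a
  exact ⟨c, by linarith⟩

theorem dvd_sum_sq_sub (s : Finset (IrrCharacter G)) (f : IrrCharacter G → ℤ) :
    2 ∣ ∑ χ ∈ s, f χ * f χ - ∑ χ ∈ s, f χ := by
  rw [← Finset.sum_sub_distrib]
  exact Finset.dvd_sum fun χ _ => two_dvd_sq_sub (f χ)

/-- The sum of the nontrivial degrees. -/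
noncomputable def T (M : Ideal AlgInt) (G : Type u) [Group G] [Fintype G] : ℤ :=
  ∑ χ ∈ nt M G, dg χ

/-- The sum of the squared nontrivial degrees. -/
noncomputable def S (M : Ideal AlgInt) (G : Type u) [Group G] [Fintype G] : ℤ :=
  ∑ χ ∈ nt M G, dg χ * dg χ

theorem odd_T_of_two_elt (hM : IsPModular 2 M) {w : G} (hw : ∃ j : ℕ, orderOf w = 2 ^ j)
    (hw1 : w ≠ 1) : 2 ∣ T M G + 1 := by
  haveI : Fact (Nat.Prime 2) := ⟨Nat.prime_two⟩
  have h := orth (M := M) hM (g := (1 : G)) (h := w⁻¹) (by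
    rw [pPart_one', H20.pPart_inv, H20.pPart_eq_self hw]
    intro hc
    exact hw1 (inv_eq_one.1 (isConj_one_right.1 hc)))
  rw [inv_inv] at h
  have h' : ∑ χ ∈ H22.blockFinset (principalBlock M G), (dg χ : ℂ) * (χ : G → ℂ) w = 0 :=
    (Finset.sum_congr rfl fun χ _ => by rw [dg_eq]).trans h
  have h2 := sum_congr_one hM hw _ _ h'
  rw [sum_block_eq] at h2
  have h3 := dvd_sum_sq_sub (nt M G) dg
  have h1 : dg (H12.oneIrr G) = 1 := by
    have := dg_eq (H12.oneIrr G)
    rw [H12.oneIrr_apply] at this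
    exact_mod_cast this.symm
  rw [h1, one_mul] at h2
  have h4 := dvd_sub h2 h3
  rw [T]
  omega

variable {v : G} {K : ℤ}

namespace Hyp

variable (h : Hyp M v K)
include h

theorem K_ne (hM : IsPModular 2 M) : K ≠ 0 := by
  intro hK
  haveI : Fact (Nat.Prime 2) := ⟨Nat.prime_two⟩
  apply h.ne
  rw [← Subgroup.mem_bot, ← h.core]
  refine H60.PLenRestrict.mem_pPrimeCore_of_kernel hM fun χ hχ => ?_
  by_cases h1 : χ = H12.oneIrr G
  · rw [h1, H12.oneIrr_apply, H12.oneIrr_apply]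
  · rw [h.eq χ (mem_nt.2 ⟨h1, hχ⟩), hK, sub_zero, dg_eq]

/-- Every nontrivial 2-element is conjugate to the 2-part. -/
theorem isConj_two (hM : IsPModular 2 M) {w : G} (hw : ∃ j : ℕ, orderOf w = 2 ^ j) (hw1 : w ≠ 1) :
    IsConj (H20.pPart 2 v) w := by
  haveI : Fact (Nat.Prime 2) := ⟨Nat.prime_two⟩
  by_contra hne
  have hA := orth (M := M) hM (g := v) (h := w) (by rwa [H20.pPart_eq_self hw])
  have hB := orth (M := M) hM (g := (1 : G)) (h := w) (by
    rw [pPart_one', H20.pPart_eq_self hw]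
    intro hc
    exact hw1 (isConj_one_right.1 hc))
  rw [sum_block_eq, H12.oneIrr_apply, H12.oneIrr_apply, one_mul] at hA hB
  have hsub : ∑ χ ∈ nt M G, (K : ℂ) * (χ : G → ℂ) w⁻¹ = 0 := by
    have e : ∑ χ ∈ nt M G, (K : ℂ) * (χ : G → ℂ) w⁻¹ =
        ∑ χ ∈ nt M G, (χ : G → ℂ) 1 * (χ : G → ℂ) w⁻¹ -
          ∑ χ ∈ nt M G, (χ : G → ℂ) v * (χ : G → ℂ) w⁻¹ := by
      rw [← Finset.sum_sub_distrib]
      refine Finset.sum_congr rfl fun χ hχ => ?_
      rw [h.eq χ hχ, dg_eq]
      push_cast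
      ring
    rw [e]
    linear_combination hB - hA
  rw [← Finset.mul_sum, mul_eq_zero] at hsub
  have h0 := hsub.resolve_left (by exact_mod_cast h.K_ne hM)
  have hw' : ∃ j : ℕ, orderOf w⁻¹ = 2 ^ j := by rwa [orderOf_inv]
  have hT : 2 ∣ T M G := by
    have := sum_congr_one hM hw' (nt M G) (fun _ => 1) (by simpa using h0)
    simpa [T] using this
  have hT' := odd_T_of_two_elt hM hw' (inv_ne_one.2 hw1) (M := M)
  omega

theorem pPart_ne_one (hM : IsPModular 2 M) : H20.pPart 2 v ≠ 1 := by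
  haveI : Fact (Nat.Prime 2) := ⟨Nat.prime_two⟩
  intro h1
  by_cases h2 : 2 ∣ Nat.card G
  · obtain ⟨w, hw⟩ := exists_prime_orderOf_dvd_card' 2 h2
    have hw1 : w ≠ 1 := fun e => by rw [e, orderOf_one] at hw; norm_num at hw
    have hc := h.isConj_two hM ⟨1, by rw [hw, pow_one]⟩ hw1
    rw [h1, isConj_one_right] at hc
    exact hw1 hc
  · apply h.ne
    have htop : (⊤ : Subgroup G) ≤ pPrimeCore 2 G := le_sSup ⟨inferInstance, by
      rw [Subgroup.card_top]; exact ((Nat.prime_two.coprime_iff_not_dvd).2 h2).symm⟩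
    rw [h.core] at htop
    exact Subgroup.mem_bot.1 (htop (Subgroup.mem_top v))

/-- The 2-part is an involution. -/
theorem orderOf_pPart (hM : IsPModular 2 M) : orderOf (H20.pPart 2 v) = 2 := by
  haveI : Fact (Nat.Prime 2) := ⟨Nat.prime_two⟩
  obtain ⟨j, hj⟩ := H20.exists_orderOf_pPart (p := 2) v
  have hj0 : j ≠ 0 := fun e => h.pPart_ne_one hM (orderOf_eq_one_iff.1 (by rw [hj, e, pow_zero]))
  have hG : 2 ∣ Nat.card G := (dvd_pow_self 2 hj0).trans (hj ▸ orderOf_dvd_natCard _)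
  obtain ⟨w, hw⟩ := exists_prime_orderOf_dvd_card' 2 hG
  have hw1 : w ≠ 1 := fun e => by rw [e, orderOf_one] at hw; norm_num at hw
  obtain ⟨c, hc⟩ := _root_.isConj_iff.1 (h.isConj_two hM ⟨1, by rw [hw, pow_one]⟩ hw1)
  rw [← H20.orderOf_conj' c (H20.pPart 2 v), hc, hw]

theorem orderOf_two (hM : IsPModular 2 M) {w : G} (hw : ∃ j : ℕ, orderOf w = 2 ^ j)
    (hw1 : w ≠ 1) : orderOf w = 2 := by
  obtain ⟨c, hc⟩ := _root_.isConj_iff.1 (h.isConj_two hM hw hw1)
  rw [← hc, H20.orderOf_conj', h.orderOf_pPart hM]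

theorem sq_one (hM : IsPModular 2 M) (P : Sylow 2 G) {x : G} (hx : x ∈ (P : Subgroup G)) :
    x * x = 1 := by
  haveI : Fact (Nat.Prime 2) := ⟨Nat.prime_two⟩
  rcases eq_or_ne x 1 with rfl | hx1
  · rw [mul_one]
  · rw [← pow_two, ← h.orderOf_two hM (H20.FreeSylow.orderOf_eq_pow hx) hx1]
    exact pow_orderOf_eq_one x

theorem comm (hM : IsPModular 2 M) (P : Sylow 2 G) : IsMulCommutative P := by
  have hinv : ∀ x : G, x ∈ (P : Subgroup G) → x⁻¹ = x := fun x hx =>
    inv_eq_of_mul_eq_one_right (h.sq_one hM P hx)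
  refine ⟨⟨fun a b => Subtype.ext ?_⟩⟩
  show (a : G) * b = b * a
  rw [← hinv _ (mul_mem a.2 b.2), mul_inv_rev, hinv _ a.2, hinv _ b.2]

/-- The normalizer of a Sylow subgroup is transitive on its involutions. -/
theorem exists_norm (hM : IsPModular 2 M) (P : Sylow 2 G) {x y : G} (hx : x ∈ (P : Subgroup G))
    (hy : y ∈ (P : Subgroup G)) (hx1 : x ≠ 1) (hy1 : y ≠ 1) :
    ∃ n ∈ Subgroup.normalizer ((P : Subgroup G) : Set G), n * x * n⁻¹ = y := by
  haveI : Fact (Nat.Prime 2) := ⟨Nat.prime_two⟩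
  haveI := h.comm hM P
  have hc := ((h.isConj_two hM (H20.FreeSylow.orderOf_eq_pow hx) hx1).symm.trans
    (h.isConj_two hM (H20.FreeSylow.orderOf_eq_pow hy) hy1))
  obtain ⟨g, hg⟩ := _root_.isConj_iff.1 hc
  obtain ⟨n, hn, hn'⟩ := H5.control_of_commutative P x hx g (hg ▸ hy)
  exact ⟨n, hn, hn'.trans hg⟩

/-- Orthogonality with the identity. -/
theorem one_add_S (hM : IsPModular 2 M) : 1 + S M G = K * T M G := by
  have hA := orth (M := M) hM (g := v) (h := (1 : G)) (by
    rw [pPart_one']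
    exact fun hc => h.pPart_ne_one hM (isConj_one_left.1 hc))
  rw [sum_block_eq, H12.oneIrr_apply, inv_one, H12.oneIrr_apply, one_mul] at hA
  have e : ∑ χ ∈ nt M G, (χ : G → ℂ) v * (χ : G → ℂ) 1 = ((S M G - K * T M G : ℤ) : ℂ) := by
    rw [S, T, Finset.mul_sum, ← Finset.sum_sub_distrib, Int.cast_sum]
    refine Finset.sum_congr rfl fun χ hχ => ?_
    rw [h.eq χ hχ, dg_eq]
    push_cast
    ring
  rw [e] at hA
  have : ((1 + (S M G - K * T M G) : ℤ) : ℂ) = 0 := by push_cast at hA ⊢; exact hA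
  have h2 : 1 + (S M G - K * T M G) = 0 := by exact_mod_cast this
  linarith

theorem odd_T (hM : IsPModular 2 M) : 2 ∣ T M G + 1 :=
  odd_T_of_two_elt hM (H20.exists_orderOf_pPart v) (h.pPart_ne_one hM)

theorem T_pos (hM : IsPModular 2 M) : 0 < T M G := by
  have h0 : 0 ≤ T M G := Finset.sum_nonneg fun χ _ => (dg_pos χ).le
  have := h.odd_T hM
  omega

theorem K_pos (hM : IsPModular 2 M) : 0 < K := by
  have h1 := h.one_add_S hM
  have h0 : 0 ≤ S M G := Finset.sum_nonneg fun χ _ => mul_self_nonneg _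
  have h2 := h.T_pos hM
  nlinarith

theorem even_K (hM : IsPModular 2 M) : 2 ∣ K := by
  have h1 := h.one_add_S hM
  have h2 := h.odd_T hM
  have h3 : 2 ∣ S M G - T M G := dvd_sum_sq_sub (nt M G) dg
  have h4 : 2 ∣ K * T M G := by rw [← h1]; omega
  exact (Int.prime_two.dvd_or_dvd h4).resolve_right fun h5 => by omega

/-- The value at the element, with the trivial character. -/
theorem norm_sum (hM : IsPModular 2 M) :
    ∑ χ ∈ H22.blockFinset (principalBlock M G), (χ : G → ℂ) v * conj ((χ : G → ℂ) v) =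
      ((K * (K * (nt M G).card - T M G) : ℤ) : ℂ) := by
  rw [sum_block_eq, H12.oneIrr_apply, map_one, mul_one]
  have e : K * (K * ((nt M G).card : ℤ) - T M G) =
      1 + ∑ χ ∈ nt M G, (dg χ - K) * (dg χ - K) := by
    have e1 : ∑ χ ∈ nt M G, (dg χ - K) * (dg χ - K) =
        S M G - 2 * K * T M G + K * K * (nt M G).card := by
      have : ∀ χ ∈ nt M G, (dg χ - K) * (dg χ - K) = dg χ * dg χ - 2 * K * dg χ + K * K :=
        fun χ _ => by ring
      rw [S, T, Finset.mul_sum, ← Finset.sum_sub_distrib, Finset.sum_congr rfl this,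
        Finset.sum_add_distrib, Finset.sum_const, nsmul_eq_mul]
      ring
    rw [e1]
    linear_combination -h.one_add_S hM
  rw [e]
  push_cast
  refine congrArg _ (Finset.sum_congr rfl fun χ hχ => ?_)
  rw [h.eq χ hχ, map_intCast]
  push_cast
  ring

/-- The sum of the nontrivial values at the element is negative. -/
theorem defect_pos (hM : IsPModular 2 M) : 0 < K * (nt M G).card - T M G := by
  have h1 := h.norm_sum hM
  rw [sum_block_eq, H12.oneIrr_apply, map_one, mul_one] at h1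
  have e : ∀ χ ∈ nt M G, (χ : G → ℂ) v * conj ((χ : G → ℂ) v) =
      (((dg χ - K) * (dg χ - K) : ℤ) : ℂ) := fun χ hχ => by
    rw [h.eq χ hχ, map_intCast]; push_cast; ring
  rw [Finset.sum_congr rfl e, ← Int.cast_sum, ← Int.cast_one, ← Int.cast_add] at h1
  have h2 : 1 + ∑ χ ∈ nt M G, (dg χ - K) * (dg χ - K) = K * (K * (nt M G).card - T M G) := by
    exact_mod_cast h1
  have h3 : 0 ≤ ∑ χ ∈ nt M G, (dg χ - K) * (dg χ - K) :=
    Finset.sum_nonneg fun χ _ => mul_self_nonneg _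
  have h4 := h.K_pos hM
  nlinarith

/-- The constant divides the order of a Sylow subgroup. -/
theorem K_dvd (hM : IsPModular 2 M) : K ∣ (2 ^ (Nat.card G).factorization 2 : ℕ) := by
  classical
  haveI : Fact (Nat.Prime 2) := ⟨Nat.prime_two⟩
  set a := (Nat.card G).factorization 2 with ha
  set n := 2 ^ a with hn
  set m := Nat.card G / n with hm
  have hmn : Nat.card G = n * m := (Nat.mul_div_cancel' (Nat.ordProj_dvd _ 2)).symm
  have hcop : Nat.Coprime n m :=
    Nat.Coprime.pow_left _ ((Nat.prime_two.coprime_iff_not_dvd).2 H22.ordCompl_not_dvd)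
  obtain ⟨e, he1, he0⟩ := Nat.chineseRemainder hcop 1 0
  have he0' : m ∣ e := Nat.modEq_zero_iff_dvd.1 he0
  let P' : G → ℂ := fun y => ∑ χ ∈ H22.blockFinset (principalBlock M G),
    (χ : G → ℂ) 1 * (χ : G → ℂ) y⁻¹
  have hreg : ∀ y : G, IsConj (y ^ e) 1 ↔ ¬ 2 ∣ orderOf y := by
    intro y
    rw [isConj_one_left]
    constructor
    · intro hy hd
      have h1 : orderOf y ∣ e := orderOf_dvd_of_pow_eq_one hy
      have h2 : 2 ∣ n := by
        have : 2 ∣ Nat.card G := hd.trans (orderOf_dvd_natCard y)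
        rw [hn]
        exact dvd_pow_self 2 (Nat.Prime.factorization_pos_of_dvd Nat.prime_two Nat.card_pos.ne'
          this).ne'
      have h3 : e ≡ 1 [MOD 2] := he1.of_dvd h2
      have h4 : 2 ∣ e := hd.trans h1
      rw [Nat.ModEq] at h3
      omega
    · intro hy
      apply orderOf_dvd_iff_pow_eq_one.1
      refine dvd_trans ?_ he0'
      refine ((Nat.prime_two.coprime_iff_not_dvd).2 hy).pow_left a |>.symm.dvd_of_dvd_mul_left ?_
      rw [← hn, ← hmn]
      exact orderOf_dvd_natCard y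
  have hvals : ∀ y : G, P' y = if ¬ 2 ∣ orderOf y then
      (K : ℂ) * ∑ χ ∈ nt M G, (χ : G → ℂ) y⁻¹ else 0 := by
    intro y
    by_cases hy : 2 ∣ orderOf y
    swap
    · rw [if_pos hy]
      have hA := orth (M := M) hM (g := v) (h := y) (by
        rw [H20.pPart_eq_one_iff.2 hy]
        exact fun hc => h.pPart_ne_one hM (isConj_one_left.1 hc))
      simp only [P']
      rw [sum_block_eq, H12.oneIrr_apply, H12.oneIrr_apply, one_mul] at hA ⊢
      have e : ∑ χ ∈ nt M G, (χ : G → ℂ) v * (χ : G → ℂ) y⁻¹ =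
          ∑ χ ∈ nt M G, (χ : G → ℂ) 1 * (χ : G → ℂ) y⁻¹ -
            (K : ℂ) * ∑ χ ∈ nt M G, (χ : G → ℂ) y⁻¹ := by
        rw [Finset.mul_sum, ← Finset.sum_sub_distrib]
        refine Finset.sum_congr rfl fun χ hχ => ?_
        rw [h.eq χ hχ, dg_eq]
        push_cast
        ring
      rw [e] at hA
      linear_combination hA
    · rw [if_neg (not_not_intro hy)]
      refine orth hM fun hc => ?_
      rw [pPart_one'] at hc
      exact H20.pPart_eq_one_iff.1 (isConj_one_right.1 hc) hy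
  have hcard : ∑ y : G, P' y = (Nat.card G : ℂ) := by
    simp only [P']
    rw [Finset.sum_comm]
    simp only [← Finset.mul_sum, H12.irr_inv]
    rw [sum_block_eq]
    have horth : ∀ χ : IrrCharacter G, ∑ y : G, conj ((χ : G → ℂ) y) =
        (Nat.card G : ℂ) * classInner (H12.oneIrr G : G → ℂ) (χ : G → ℂ) := fun χ => by
      rw [← H12.sum_mul_conj_eq_card_mul]
      simp [H12.oneIrr_apply]
    have hz : ∑ χ ∈ nt M G, (χ : G → ℂ) 1 * ∑ y : G, conj ((χ : G → ℂ) y) = 0 := by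
      refine Finset.sum_eq_zero fun χ hχ => ?_
      rw [horth χ, H12.classInner_irr_ne (Ne.symm (mem_nt.1 hχ).1), mul_zero, mul_zero]
    rw [hz, add_zero, horth, H12.classInner_irr_self, H12.oneIrr_apply, one_mul, mul_one]
  have hint : IsIntegral ℤ (∑ χ ∈ nt M G, classInner (H20.partFun e n (1 : G)) (χ : G → ℂ)) :=
    IsIntegral.sum _ fun χ _ => H20.isIntegral_classInner_partFun hmn hcop he1 he0' 1 χ
  have hval : ∑ χ ∈ nt M G, classInner (H20.partFun e n (1 : G)) (χ : G → ℂ) = (n : ℂ) / K := by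
    have hK : (K : ℂ) ≠ 0 := by exact_mod_cast h.K_ne hM
    rw [eq_div_iff hK, Finset.sum_mul]
    simp only [classInner]
    have e1 : ∀ χ : IrrCharacter G, (Nat.card G : ℂ)⁻¹ *
        (∑ y, H20.partFun e n 1 y * conj ((χ : G → ℂ) y)) * (K : ℂ) =
        (Nat.card G : ℂ)⁻¹ * (n : ℂ) *
          ∑ y, if ¬ 2 ∣ orderOf y then (K : ℂ) * (χ : G → ℂ) y⁻¹ else 0 := fun χ => by
      rw [mul_assoc, mul_assoc, Finset.sum_mul, Finset.mul_sum (a := (n : ℂ))]
      refine congrArg _ (Finset.sum_congr rfl fun y _ => ?_)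
      rw [H20.partFun, ← H12.irr_inv]
      by_cases hy : ¬ 2 ∣ orderOf y
      · rw [if_pos ((hreg y).2 hy), if_pos hy]; ring
      · rw [if_neg (mt (hreg y).1 hy), if_neg hy]; ring
    simp only [e1]
    rw [← Finset.mul_sum, Finset.sum_comm]
    have e2 : ∀ y : G, (∑ χ ∈ nt M G,
        if ¬ 2 ∣ orderOf y then (K : ℂ) * (χ : G → ℂ) y⁻¹ else 0) = P' y := fun y => by
      rw [hvals y]
      by_cases hy : 2 ∣ orderOf y
      · simp [hy]
      · simp [hy, Finset.mul_sum]
    simp only [e2]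
    rw [hcard]
    have := H12.card_ne_zero' (G := G)
    field_simp
  rw [hval] at hint
  obtain ⟨Kn, rfl⟩ : ∃ Kn : ℕ, K = (Kn : ℤ) := ⟨K.toNat, by have := h.K_pos hM; omega⟩
  rw [Int.cast_natCast] at hint
  exact_mod_cast H12.nat_dvd_of_isIntegral_div (by exact_mod_cast h.K_ne hM) hint

end Hyp

end H85.ConstDiff
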