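import Cfsg.Agent.H85.AbTwo.Central
import Cfsg.Agent.H85.ConstDiff.Basic
import Cfsg.Agent.H17.CharTools
import Cfsg.Agent.H14.DetChar

/-!
The principal block of a group with a central involution and an elementary abelian Sylow
2-subgroup of order eight with three classes outside the involution (helper85).
-/

set_option autoImplicit false
set_option linter.style.haveILetI false
set_option linter.unusedSectionVars false

open Cfsg Finset
open scoped ComplexConjugate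

namespace H85.ConstDiff

universe u

variable {C : Type u} [Group C] [Fintype C] {M : Ideal AlgInt} [hMp : M.IsPrime]

/-- The data of a central involution `z` and a regular `t`. -/
structure Central8 (M : Ideal AlgInt) (Q : Sylow 2 C) (z t : C) : Prop where
  comm : IsMulCommutative Q
  sq : ∀ w ∈ (Q : Subgroup C), w * w = 1
  card : Nat.card (Q : Subgroup C) = 8
  zQ : z ∈ (Q : Subgroup C)
  z2 : orderOf z = 2
  zc : z ∈ Subgroup.center C
  tQ : t ∈ (Q : Subgroup C)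
  t2 : orderOf t = 2
  tz : t ≠ z
  reg : ∀ w ∈ (Q : Subgroup C), w ≠ 1 → w ≠ z → H85.AbTwo.Reg (Q : Subgroup C) w
  trans : ∀ w ∈ (Q : Subgroup C), w ≠ 1 → w ≠ z → ∃ n : C, n * t * n⁻¹ = w ∨ n * t * n⁻¹ = w * z

/-- Members of the block with `z` in the kernel. -/
noncomputable def Bp (M : Ideal AlgInt) (z : C) : Finset (IrrCharacter C) :=
  letI := Classical.decPred (fun ψ : IrrCharacter C => (ψ : C → ℂ) z = (ψ : C → ℂ) 1)
  (H22.blockFinset (principalBlock M C)).filter fun ψ => (ψ : C → ℂ) z = (ψ : C → ℂ) 1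

theorem mem_Bp {z : C} {ψ : IrrCharacter C} :
    ψ ∈ Bp M z ↔ ψ ∈ principalBlock M C ∧ (ψ : C → ℂ) z = (ψ : C → ℂ) 1 := by
  classical
  simp [Bp, H22.mem_blockFinset]

/-- A twist of an irreducible character by a linear one of 2-power order stays in the block. -/
theorem exists_twist (hM : IsPModular 2 M) (l : C →* ℂˣ) {j : ℕ} (hl : ∀ g, l g ^ (2 ^ j) = 1)
    (ψ : IrrCharacter C) : ∃ ψ' : IrrCharacter C, (∀ g, (ψ' : C → ℂ) g = (l g : ℂ) * (ψ : C → ℂ) g) ∧
      (ψ ∈ principalBlock M C → ψ' ∈ principalBlock M C) := by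
  haveI : Fact (Nat.Prime 2) := ⟨Nat.prime_two⟩
  obtain ⟨d, ρ, hρ, hρψ⟩ := ψ.2
  haveI := hρ
  haveI := H14.twistRep_isIrreducible l ρ
  have hval : ∀ g, (H14.twistRep l ρ).character g = (l g : ℂ) * (ψ : C → ℂ) g := fun g => by
    rw [H14.twistRep_character, Pi.mul_apply, hρψ]
  refine ⟨⟨(H14.twistRep l ρ).character, H12.isIrrCharacter_character _⟩, hval, fun hψ g => ?_⟩
  have hmem : MemLocalIdeal M ((l g : ℂ) - 1) := by
    have hw : (l g : ℂ) ^ 2 ^ j = 1 := by rw [← Units.val_pow_eq_pow_val, hl, Units.val_one]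
    have hR : MemLocalRing M (l g : ℂ) := H20.memRing_of_pow_eq_one (by positivity) hw
    have h := H20.red_eq_one_of_pow_p_pow hM (w := (⟨(l g : ℂ), hR⟩ : H20.O M)) (j := j)
      (Subtype.ext (by simpa using hw))
    rw [← map_one (H20.red M), H20.red_eq_red_iff] at h
    exact h
  have h1 : MemLocalIdeal M (centralChar (fun _ : C => (1 : ℂ)) g - centralChar (ψ : C → ℂ) g) :=
    hψ g
  have h2 : MemLocalRing M (centralChar (ψ : C → ℂ) g) :=
    H20.memRing_of_isIntegral (H20.isIntegral_centralChar ψ g)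
  have e : centralChar (fun _ : C => (1 : ℂ)) g - centralChar (H14.twistRep l ρ).character g =
      (centralChar (fun _ : C => (1 : ℂ)) g - centralChar (ψ : C → ℂ) g) +
        centralChar (ψ : C → ℂ) g * (-1 * ((l g : ℂ) - 1)) := by
    simp only [centralChar, hval, map_one, Units.val_one, one_mul]
    ring
  show MemLocalIdeal M
    (centralChar (fun _ : C => (1 : ℂ)) g - centralChar (H14.twistRep l ρ).character g)
  rw [e]
  exact H20.memIdeal_add h1 (H20.memIdeal_mul h2 (H20.memIdeal_mul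
    (by simpa using H20.memRing_intCast (M := M) (-1)) hmem))

namespace Central8

variable {Q : Sylow 2 C} {z t : C} (D : Central8 M Q z t)
include D

theorem tz_ne_one : t * z ≠ 1 := fun e => D.tz (by
  rw [mul_eq_one_iff_eq_inv] at e
  rw [e, inv_eq_of_mul_eq_one_right (D.sq z D.zQ)])

theorem sign (ψ : IrrCharacter C) : ((ψ : C → ℂ) z = (ψ : C → ℂ) 1 ∨
    (ψ : C → ℂ) z = -(ψ : C → ℂ) 1) ∧
    ∀ g, (ψ : C → ℂ) (z * g) * (ψ : C → ℂ) 1 = (ψ : C → ℂ) z * (ψ : C → ℂ) g := by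
  obtain ⟨ω, hω⟩ := H17.exists_central_char ψ.2 (Subgroup.center C) le_rfl
  have hzz : (⟨z, D.zc⟩ : Subgroup.center C) * ⟨z, D.zc⟩ = 1 := Subtype.ext (D.sq z D.zQ)
  have hw : (ω ⟨z, D.zc⟩ : ℂ) * (ω ⟨z, D.zc⟩ : ℂ) = 1 := by
    rw [← Units.val_mul, ← map_mul, hzz, map_one, Units.val_one]
  have h1 : (ψ : C → ℂ) z = (ω ⟨z, D.zc⟩ : ℂ) * (ψ : C → ℂ) 1 := by
    have := hω ⟨z, D.zc⟩ 1
    rwa [mul_one] at this
  refine ⟨?_, fun g => ?_⟩
  · rcases mul_self_eq_one_iff.1 hw with h | h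
    · exact Or.inl (by rw [h1, h, one_mul])
    · exact Or.inr (by rw [h1, h, neg_one_mul])
  · rw [show (ψ : C → ℂ) (z * g) = (ω ⟨z, D.zc⟩ : ℂ) * (ψ : C → ℂ) g from hω ⟨z, D.zc⟩ g, h1]
    ring

theorem mul_z {ψ : IrrCharacter C} (hψ : (ψ : C → ℂ) z = (ψ : C → ℂ) 1) (g : C) :
    (ψ : C → ℂ) (g * z) = (ψ : C → ℂ) g := by
  rw [Subgroup.mem_center_iff.1 D.zc g]
  have h := (D.sign ψ).2 g
  rw [hψ, mul_comm ((ψ : C → ℂ) 1)] at h
  exact mul_right_cancel₀ (H12.irr_apply_one_ne_zero ψ) h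

theorem card_block (hM : IsPModular 2 M) :
    (H22.blockFinset (principalBlock M C)).card = 8 := by
  haveI := D.comm
  have ht1 : t ≠ 1 := fun e => by have := D.t2; rw [e, orderOf_one] at this; norm_num at this
  have hreg := D.reg t D.tQ ht1 D.tz
  rw [(H85.AbTwo.column_data Q hM D.tQ D.t2 hreg).2.1]
  exact H85.AbTwo.card_of_central_eight Q hM D.tQ D.t2 hreg D.zc D.z2 D.zQ D.card

/-- The values at `t` are signs. -/
theorem value_sq (hM : IsPModular 2 M) {ψ : IrrCharacter C} (hψ : ψ ∈ principalBlock M C) :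
    H85.AbTwo.dv t ψ * H85.AbTwo.dv t ψ = 1 := by
  haveI := D.comm
  have ht1 : t ≠ 1 := fun e => by have := D.t2; rw [e, orderOf_one] at this; norm_num at this
  obtain ⟨-, -, hne, hsum⟩ := H85.AbTwo.column_data Q hM D.tQ D.t2 (D.reg t D.tQ ht1 D.tz)
  rw [D.card] at hsum
  have hge : ∀ χ ∈ H22.blockFinset (principalBlock M C), (1 : ℤ) ≤ H85.AbTwo.dv t χ ^ 2 :=
    fun χ hχ => by
      have := mul_self_pos.2 (hne χ hχ)
      rw [pow_two]; omega
  have heq : ∑ χ ∈ H22.blockFinset (principalBlock M C), (1 : ℤ) =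
      ∑ χ ∈ H22.blockFinset (principalBlock M C), H85.AbTwo.dv t χ ^ 2 := by
    rw [hsum, Finset.sum_const, D.card_block hM]; norm_num
  have := (Finset.sum_eq_sum_iff_of_le hge).1 heq ψ (H22.mem_blockFinset.2 hψ)
  rw [this, pow_two]

/-- Regular elements: the signed relation on the half. -/
theorem relation (hM : IsPModular 2 M) {y : C} (hy : ¬ 2 ∣ orderOf y) :
    ∑ ψ ∈ Bp M z, (H85.AbTwo.dv t ψ : ℂ) * (ψ : C → ℂ) y = 0 := by
  classical
  haveI : Fact (Nat.Prime 2) := ⟨Nat.prime_two⟩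
  have hy' : H20.pPart 2 y⁻¹ = 1 := H20.pPart_eq_one_iff.2 (by rwa [orderOf_inv])
  have ht1 : t ≠ 1 := fun e => by have := D.t2; rw [e, orderOf_one] at this; norm_num at this
  have hA := orth (M := M) hM (g := t) (h := y⁻¹) (by
    rw [hy', H20.pPart_eq_self ⟨1, by rw [D.t2, pow_one]⟩]
    exact fun hc => ht1 (isConj_one_left.1 hc))
  have hB := orth (M := M) hM (g := t * z) (h := y⁻¹) (by
    rw [hy', H20.pPart_eq_self (H20.FreeSylow.orderOf_eq_pow (mul_mem D.tQ D.zQ))]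
    exact fun hc => D.tz_ne_one (isConj_one_left.1 hc))
  rw [inv_inv] at hA hB
  have h2 : ∀ ψ ∈ H22.blockFinset (principalBlock M C),
      (ψ : C → ℂ) t * (ψ : C → ℂ) y + (ψ : C → ℂ) (t * z) * (ψ : C → ℂ) y =
        if (ψ : C → ℂ) z = (ψ : C → ℂ) 1 then 2 * ((H85.AbTwo.dv t ψ : ℂ) * (ψ : C → ℂ) y)
        else 0 := by
    intro ψ _
    have h0 := H12.irr_apply_one_ne_zero ψ
    have h := (D.sign ψ).2 t
    rw [← Subgroup.mem_center_iff.1 D.zc t] at h
    split_ifs with hz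
    · rw [D.mul_z hz, H85.AbTwo.dv_eq D.t2]; ring
    · rw [(D.sign ψ).1.resolve_left hz] at h
      have h' : (ψ : C → ℂ) (t * z) = -(ψ : C → ℂ) t := mul_right_cancel₀ h0 (h.trans (by ring))
      rw [h']; ring
  have h3 := congrArg₂ (· + ·) hA hB
  simp only [← Finset.sum_add_distrib, add_zero] at h3
  rw [Finset.sum_congr rfl h2, ← Finset.sum_filter, ← Finset.mul_sum, mul_eq_zero] at h3
  rw [Bp]
  convert h3.resolve_left two_ne_zero using 2

/-- The values on `Bp` away from the sections of `1` and `z` are the signs. -/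
theorem value_singular (hM : IsPModular 2 M) {ψ : IrrCharacter C} (hψ : ψ ∈ Bp M z) {g : C}
    (hg1 : H20.pPart 2 g ≠ 1) (hgz : H20.pPart 2 g ≠ z) :
    (ψ : C → ℂ) g = (H85.AbTwo.dv t ψ : ℂ) := by
  haveI : Fact (Nat.Prime 2) := ⟨Nat.prime_two⟩
  haveI := D.comm
  obtain ⟨hψB, hψz⟩ := mem_Bp.1 hψ
  obtain ⟨w, hw, hcw⟩ := H20.FreeSylow.exists_isConj_mem (P := Q)
    (H20.exists_orderOf_pPart (p := 2) g)
  have hcz : ∀ {a : C}, IsConj a z → a = z := fun {a} ha => by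
    obtain ⟨c, hc⟩ := _root_.isConj_iff.1 ha.symm
    rw [← hc, Subgroup.mem_center_iff.1 D.zc c, mul_inv_cancel_right]
  have hw1 : w ≠ 1 := fun e => hg1 (isConj_one_left.1 (e ▸ hcw))
  have hwz : w ≠ z := fun e => hgz (hcz (e ▸ hcw))
  rw [H85.AbTwo.apply_of_pPart hM Q hw (H85.AbTwo.complement_of_reg Q hw (D.reg w hw hw1 hwz)) hψB
    hcw, ← H85.AbTwo.dv_eq D.t2]
  obtain ⟨n, hn | hn⟩ := D.trans w hw hw1 hwz
  · rw [← hn, H12.irr_isClassFunction ψ t n]
  · rw [← D.mul_z hψz w, ← hn, H12.irr_isClassFunction ψ t n]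

/-- Independence on the regular elements. -/
theorem indep (hM : IsPModular 2 M) [DecidableEq (IrrCharacter C)] (a : IrrCharacter C → ℂ)
    (h : ∀ y : C, ¬ 2 ∣ orderOf y →
      ∑ ψ ∈ (Bp M z).erase (H12.oneIrr C), a ψ * (ψ : C → ℂ) y = 0) :
    ∀ ψ ∈ (Bp M z).erase (H12.oneIrr C), a ψ = 0 := by
  classical
  haveI : Fact (Nat.Prime 2) := ⟨Nat.prime_two⟩
  set T := (Bp M z).erase (H12.oneIrr C) with hT
  set κ := ∑ ψ ∈ T, a ψ * (H85.AbTwo.dv t ψ : ℂ) with hκ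
  have hval : ∀ g, ∑ ψ ∈ T, a ψ * (ψ : C → ℂ) g =
      if H20.pPart 2 g = 1 ∨ H20.pPart 2 g = z then 0 else κ := by
    intro g
    split_ifs with hg
    · rcases hg with hg | hg
      · exact h g (H20.pPart_eq_one_iff.1 hg)
      · rw [← h (H20.qPart 2 g) (H20.not_dvd_orderOf_qPart g)]
        refine Finset.sum_congr rfl fun ψ hψ => ?_
        obtain ⟨-, hψz⟩ := mem_Bp.1 (Finset.mem_of_mem_erase hψ)
        conv_lhs => rw [← H20.pPart_mul_qPart (p := 2) g, (H20.commute_pPart_qPart (p := 2) g).eq,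
          hg, D.mul_z hψz]
    · push Not at hg
      exact Finset.sum_congr rfl fun ψ hψ => by
        rw [D.value_singular hM (Finset.mem_of_mem_erase hψ) hg.1 hg.2]
  have hκ0 : κ = 0 := by
    have h1 : ∑ g : C, ∑ ψ ∈ T, a ψ * (ψ : C → ℂ) g = 0 := by
      rw [Finset.sum_comm]
      refine Finset.sum_eq_zero fun ψ hψ => ?_
      rw [← Finset.mul_sum]
      have := H12.sum_mul_conj_eq_card_mul (ψ : C → ℂ) (H12.oneIrr C : C → ℂ)
      rw [H12.classInner_irr_ne (Finset.ne_of_mem_erase hψ), mul_zero] at this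
      simp only [H12.oneIrr_apply, map_one, mul_one] at this
      rw [this, mul_zero]
    simp only [hval] at h1
    rw [Finset.sum_ite, Finset.sum_const_zero, zero_add, Finset.sum_const, nsmul_eq_mul,
      mul_eq_zero] at h1
    refine h1.resolve_left (Nat.cast_ne_zero.2 (Finset.card_ne_zero.2 ⟨t, ?_⟩))
    have ht : H20.pPart 2 t = t := H20.pPart_eq_self ⟨1, by rw [D.t2, pow_one]⟩
    simp only [Finset.mem_filter, Finset.mem_univ, true_and, ht, not_or]
    exact ⟨fun e => by have := D.t2; rw [e, orderOf_one] at this; norm_num at this, D.tz⟩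
  intro ψ hψ
  have h2 : ∑ g : C, (∑ φ ∈ T, a φ * (φ : C → ℂ) g) * conj ((ψ : C → ℂ) g) = 0 :=
    Finset.sum_eq_zero fun g _ => by rw [hval g, hκ0, ite_self, zero_mul]
  simp only [Finset.sum_mul, mul_assoc] at h2
  rw [Finset.sum_comm] at h2
  simp only [← Finset.mul_sum, H12.sum_mul_conj_eq_card_mul] at h2
  rw [Finset.sum_eq_single ψ (fun φ _ hne => by
      rw [H12.classInner_irr_ne hne, mul_zero, mul_zero]) (fun hn => absurd hψ hn),
    H12.classInner_irr_self, mul_one, mul_eq_zero] at h2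
  exact h2.resolve_right H12.card_ne_zero'

/-- The two halves agree on the regular elements. -/
theorem halves (hM : IsPModular 2 M) : (Bp M z).card = 4 ∧
    ∃ τ : IrrCharacter C → IrrCharacter C, ∀ (f : IrrCharacter C → ℂ),
      ∑ ψ ∈ H22.blockFinset (principalBlock M C), f ψ = ∑ ψ ∈ Bp M z, (f ψ + f (τ ψ)) ∧
      ∀ ψ : IrrCharacter C, ∀ y : C, ¬ 2 ∣ orderOf y → (τ ψ : C → ℂ) y = (ψ : C → ℂ) y := by
  classical
  haveI := D.comm
  obtain ⟨l, j, hlj, hlz⟩ := H85.AbTwo.exists_linear_central Q D.zc D.z2 D.zQ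
  choose τ hτ hτB using exists_twist (M := M) hM l hlj
  obtain ⟨σ, hσ, hσB⟩ : ∃ σ : IrrCharacter C → IrrCharacter C,
      (∀ ψ g, (σ ψ : C → ℂ) g = (l g : ℂ)⁻¹ * (ψ : C → ℂ) g) ∧
      ∀ ψ, ψ ∈ principalBlock M C → σ ψ ∈ principalBlock M C := by
    choose σ hσ hσB using exists_twist (M := M) hM l⁻¹ (j := j) (fun g => by
      rw [MonoidHom.inv_apply, inv_pow, hlj, inv_one])
    exact ⟨σ, fun ψ g => by rw [hσ, MonoidHom.inv_apply, Units.val_inv_eq_inv_val], hσB⟩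
  set B := H22.blockFinset (principalBlock M C) with hB
  have hne : ∀ ψ : IrrCharacter C, (ψ : C → ℂ) 1 ≠ -(ψ : C → ℂ) 1 := fun ψ e =>
    H12.irr_apply_one_ne_zero ψ (by linear_combination e / 2)
  have hflip : ∀ (κ : IrrCharacter C → IrrCharacter C) (c : ℂ), c = -1 →
      (∀ ψ, (κ ψ : C → ℂ) z = c * (ψ : C → ℂ) z ∧ (κ ψ : C → ℂ) 1 = (ψ : C → ℂ) 1) →
      ∀ ψ, (κ ψ : C → ℂ) z = (κ ψ : C → ℂ) 1 ↔ ¬ (ψ : C → ℂ) z = (ψ : C → ℂ) 1 := by
    intro κ c hc hκ ψ
    rw [(hκ ψ).1, (hκ ψ).2, hc, neg_one_mul]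
    rcases (D.sign ψ).1 with h | h
    · rw [h]
      exact ⟨fun e => absurd e.symm (hne ψ), fun e => absurd rfl e⟩
    · rw [h, neg_neg]
      exact ⟨fun _ e => hne ψ e.symm, fun _ => rfl⟩
  have hfτ := hflip τ (l z : ℂ) hlz fun ψ => ⟨hτ ψ z, by rw [hτ, map_one, Units.val_one, one_mul]⟩
  have hfσ := hflip σ (l z : ℂ)⁻¹ (by rw [hlz]; norm_num) fun ψ =>
    ⟨hσ ψ z, by rw [hσ, map_one, Units.val_one, inv_one, one_mul]⟩
  have hcancel : ∀ g : C, (l g : ℂ) ≠ 0 := fun g => Units.ne_zero _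
  have hbij : ∀ f : IrrCharacter C → ℂ,
      ∑ ψ ∈ B.filter (fun ψ : IrrCharacter C => ¬ (ψ : C → ℂ) z = (ψ : C → ℂ) 1), f ψ =
        ∑ ψ ∈ Bp M z, f (τ ψ) := by
    intro f
    refine Finset.sum_nbij' σ τ (fun ψ hψ => ?_) (fun ψ hψ => ?_) (fun ψ _ => ?_) (fun ψ _ => ?_)
      (fun ψ hψ => ?_)
    · rw [Finset.mem_filter, hB, H22.mem_blockFinset] at hψ
      exact mem_Bp.2 ⟨hσB ψ hψ.1, (hfσ ψ).2 hψ.2⟩
    · obtain ⟨h1, h2⟩ := mem_Bp.1 hψ
      rw [Finset.mem_filter, hB, H22.mem_blockFinset]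
      exact ⟨hτB ψ h1, fun e => (hfτ ψ).1 e h2⟩
    · refine Subtype.ext (funext fun g => ?_)
      rw [hτ, hσ, ← mul_assoc, mul_inv_cancel₀ (hcancel g), one_mul]
    · refine Subtype.ext (funext fun g => ?_)
      rw [hσ, hτ, ← mul_assoc, inv_mul_cancel₀ (hcancel g), one_mul]
    · congr 1
      refine Subtype.ext (funext fun g => ?_)
      rw [hτ, hσ, ← mul_assoc, mul_inv_cancel₀ (hcancel g), one_mul]
  have hsplit : ∀ f : IrrCharacter C → ℂ, ∑ ψ ∈ B, f ψ = ∑ ψ ∈ Bp M z, (f ψ + f (τ ψ)) := by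
    intro f
    rw [Finset.sum_add_distrib, ← hbij f, ← Finset.sum_filter_add_sum_filter_not B
      (fun ψ : IrrCharacter C => (ψ : C → ℂ) z = (ψ : C → ℂ) 1) f]
    congr 1
  refine ⟨?_, τ, fun f => ⟨hsplit f, fun ψ y hy => ?_⟩⟩
  · have h := hsplit fun _ => 1
    simp only [Finset.sum_const, nsmul_eq_mul, mul_one] at h
    rw [hB, D.card_block hM] at h
    have h' : (8 : ℕ) = (Bp M z).card * 2 := by
      have h2 : ((8 : ℕ) : ℂ) = (((Bp M z).card * 2 : ℕ) : ℂ) := by rw [h]; push_cast; ring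
      exact_mod_cast h2
    omega
  · rw [hτ]
    have h1 : orderOf (l y) ∣ 2 ^ j := orderOf_dvd_of_pow_eq_one (hlj y)
    have h2 : orderOf (l y) ∣ orderOf y := orderOf_map_dvd l y
    have h3 : orderOf (l y) = 1 := Nat.eq_one_of_dvd_coprimes
      (Nat.Coprime.pow_left j ((Nat.prime_two.coprime_iff_not_dvd).2 hy)) h1 h2
    rw [orderOf_eq_one_iff.1 h3, Units.val_one, one_mul]

end Central8

end H85.ConstDiff
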