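import Cfsg.Agent.H85.ConstDiff.Regular

/-!
A constant difference `χ(1) - χ(u)`: the centralizers of the involutions are the Sylow subgroups
(helper85).
-/

set_option autoImplicit false
set_option linter.style.haveILetI false
set_option linter.unusedSectionVars false

open Cfsg Finset

namespace H85.ConstDiff

universe u

local notation "C[" x "]" => (Subgroup.centralizer ({x} : Set _))

variable {G : Type u} [Group G] [Fintype G] {M : Ideal AlgInt} [hMp : M.IsPrime]
  {P : Sylow 2 G} {v s r : G} {K : ℤ}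

theorem averageMap_eq {V : Type*} [AddCommGroup V] [Module ℂ V] [FiniteDimensional ℂ V]
    (ρ : Representation ℂ G V) (B : Subgroup G) [Fintype B] [Invertible (Fintype.card B : ℂ)] :
    Representation.averageMap (ρ.comp B.subtype : Representation ℂ B V) =
      (Nat.card B : ℂ)⁻¹ • ∑ b : B, ρ b := by
  ext v
  simp [Representation.averageMap, GroupAlgebra.average, Nat.card_eq_fintype_card, map_sum,
    invOf_eq_inv]

/-- The fixed space of a subgroup has dimension the average of the character. -/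
theorem finrank_fixed {V : Type*} [AddCommGroup V] [Module ℂ V] [FiniteDimensional ℂ V]
    (ρ : Representation ℂ G V) (B : Subgroup G) [Fintype B] :
    ∑ b : B, ρ.character b =
      (Nat.card B : ℂ) * (Module.finrank ℂ (Representation.invariants
        (ρ.comp B.subtype : Representation ℂ B V)) : ℂ) := by
  haveI : Invertible (Fintype.card B : ℂ) :=
    invertibleOfNonzero (by exact_mod_cast Fintype.card_ne_zero)
  have h := (Representation.isProj_averageMap (ρ.comp B.subtype : Representation ℂ B V)).trace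
  rw [averageMap_eq, map_smul, map_sum, smul_eq_mul] at h
  rw [← h, ← mul_assoc, mul_inv_cancel₀ (Nat.cast_ne_zero.2 Nat.card_pos.ne'), one_mul]
  rfl

/-- An element acting trivially on the fixed space of `B` does not change the sum over `B`. -/
theorem sum_coset_eq {V : Type*} [AddCommGroup V] [Module ℂ V] [FiniteDimensional ℂ V]
    (ρ : Representation ℂ G V) (B : Subgroup G) [Fintype B] (k : G)
    (hk : ∀ w ∈ Representation.invariants (ρ.comp B.subtype : Representation ℂ B V), ρ k w = w) :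
    ∑ b : B, ρ.character (k * b) = ∑ b : B, ρ.character b := by
  haveI : Invertible (Fintype.card B : ℂ) :=
    invertibleOfNonzero (by exact_mod_cast Fintype.card_ne_zero)
  set A := Representation.averageMap (ρ.comp B.subtype : Representation ℂ B V) with hA
  have hc : ρ k * A = A := LinearMap.ext fun w => hk _ (Representation.averageMap_invariant _ w)
  rw [hA, averageMap_eq, mul_smul_comm, Finset.mul_sum] at hc
  have h := congrArg (LinearMap.trace ℂ V) hc
  simp only [map_smul, map_sum, ← map_mul, smul_eq_mul] at h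
  exact mul_left_cancel₀ (inv_ne_zero (Nat.cast_ne_zero.2 Nat.card_pos.ne')) h

namespace Setup

variable (S : Setup M P v s r K)
include S

theorem two_le_card (hM : IsPModular 2 M) : 2 ≤ Nat.card (P : Subgroup G) := by
  have h1 := S.h.K_two_le hM
  rw [S.K_eq hM] at h1
  exact_mod_cast h1

theorem centralizer_eq (hM : IsPModular 2 M) {x : G} (hx : x ∈ (P : Subgroup G)) (hx1 : x ≠ 1) :
    (C[x] : Subgroup G) = (P : Subgroup G) := by
  classical
  haveI : Fact (Nat.Prime 2) := ⟨Nat.prime_two⟩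
  haveI hc := S.h.comm hM P
  obtain ⟨χ, hχ, hdeg, hdv⟩ := (S.h.main_degree S.sP S.two hM).2.2
  obtain ⟨hχ1, hχB⟩ := mem_nt.1 hχ
  obtain ⟨n, ρ, hρ, hρχ⟩ := χ.2
  have hq2 := S.two_le_card hM
  have hK := S.K_eq hM
  set q := Nat.card (P : Subgroup G) with hq
  have hval : ∀ y ∈ (P : Subgroup G), y ≠ 1 → (χ : G → ℂ) y = -1 := fun y hy hy1 => by
    rw [S.h.apply_of_mem S.sP S.two hM χ hy hy1, hdv]; norm_num
  have hone : (χ : G → ℂ) 1 = (q : ℂ) - 1 := by
    rw [dg_eq, hdeg, hK]; push_cast; ring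
  -- faithful
  have hker : ∀ g, g ∈ ρ.ker ↔ (χ : G → ℂ) g = (χ : G → ℂ) 1 := fun g => by
    rw [MonoidHom.mem_ker, Module.End.one_eq_id, ← H12.character_eq_finrank_iff, ← hρχ,
      Representation.char_one]
  have hfaith : ∀ g, (χ : G → ℂ) g = (χ : G → ℂ) 1 → g = 1 := by
    have hodd : ¬ 2 ∣ Nat.card ρ.ker := by
      intro h2
      obtain ⟨i, hi⟩ := exists_prime_orderOf_dvd_card' 2 h2
      rw [← Subgroup.orderOf_coe] at hi
      obtain ⟨y, hy, hyc⟩ := H20.FreeSylow.exists_isConj_mem (P := P) (y := (i : G))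
        ⟨1, by rw [hi, pow_one]⟩
      obtain ⟨c, hc⟩ := _root_.isConj_iff.1 hyc
      have hy1 : y ≠ 1 := fun e => by
        rw [← H20.orderOf_conj' c (i : G), hc, e, orderOf_one] at hi
        norm_num at hi
      have h1 : (χ : G → ℂ) y = (χ : G → ℂ) 1 := by
        rw [← hc, H12.irr_isClassFunction χ (i : G) c]; exact (hker _).1 i.2
      rw [hval y hy hy1, hone] at h1
      have : ((q : ℕ) : ℂ) = 0 := by linear_combination -h1
      rw [Nat.cast_eq_zero] at this
      omega
    have hbot : ρ.ker = ⊥ := le_bot_iff.1 (S.h.core ▸ H1.le_pPrimeCore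
      ((Nat.prime_two.coprime_iff_not_dvd).2 hodd).symm)
    exact fun g hg => Subgroup.mem_bot.1 (hbot ▸ (hker g).2 hg)
  have hshift : ∀ (k : G), ¬ 2 ∣ orderOf k → ∀ b ∈ (P : Subgroup G), b ≠ 1 → k * b = b * k →
      (χ : G → ℂ) (k * b) = (χ : G → ℂ) b := by
    intro k hk b hb hb1 hkb
    rw [hkb]
    exact H85.AbTwo.apply_shift hM P hb (H85.AbTwo.complement_of_reg P hb (S.reg hM hb hb1)) hχB
      hkb hk
  have hkey : ∀ (B : Subgroup G), B ≤ (P : Subgroup G) → ∀ k : G, ¬ 2 ∣ orderOf k →
      (∀ b ∈ B, k * b = b * k) →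
      (∀ w ∈ Representation.invariants (ρ.comp B.subtype), ρ k w = w) → k = 1 := by
    intro B hB k hk hkB hw
    haveI : Fintype B := Fintype.ofFinite _
    refine hfaith k ?_
    have h := sum_coset_eq ρ B k hw
    rw [hρχ, ← Finset.add_sum_erase _ _ (Finset.mem_univ (1 : B)),
      ← Finset.add_sum_erase _ (fun b : B => (χ : G → ℂ) b) (Finset.mem_univ (1 : B)),
      OneMemClass.coe_one, mul_one,
      Finset.sum_congr rfl fun (b : B) hb => hshift k hk b (hB b.2)
        (fun e => (Finset.mem_erase.1 hb).1 (Subtype.ext e)) (hkB b b.2)] at h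
    exact add_right_cancel h
  have hsumB : ∀ (B : Subgroup G) [Fintype B], B ≤ (P : Subgroup G) →
      ∑ b : B, ρ.character b = (q : ℂ) - (Nat.card B : ℂ) := by
    intro B _ hB
    rw [hρχ, ← Finset.add_sum_erase _ _ (Finset.mem_univ (1 : B)), OneMemClass.coe_one, hone,
      Finset.sum_congr rfl fun (b : B) hb => hval b (hB b.2)
        (fun e => (Finset.mem_erase.1 hb).1 (Subtype.ext e)),
      Finset.sum_const, Finset.card_erase_of_mem (Finset.mem_univ _), Finset.card_univ,
      ← Nat.card_eq_fintype_card, nsmul_eq_mul, Nat.cast_sub Nat.card_pos]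
    push_cast
    ring
  -- the odd core of the centralizer is trivial
  have hth : ∀ k ∈ centralizerPPrimeCore 2 x, k = 1 := by
    by_contra hcon
    push Not at hcon
    obtain ⟨k₀, hk₀, hk₀1⟩ := hcon
    set T : Set (Subgroup G) := {B | B ≤ (P : Subgroup G) ∧ x ∈ B ∧
      ∃ k ∈ centralizerPPrimeCore 2 x, k ≠ 1 ∧ ∀ b ∈ B, k * b = b * k} with hT
    have hTne : T.Nonempty := by
      refine ⟨Subgroup.zpowers x, Subgroup.zpowers_le.2 hx, Subgroup.mem_zpowers x, k₀, hk₀, hk₀1,
        fun b hb => ?_⟩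
      obtain ⟨i, rfl⟩ := Subgroup.mem_zpowers_iff.1 hb
      exact (show Commute k₀ x from
        Subgroup.mem_centralizer_singleton_iff.1 (H85.AbTwo.th_le x hk₀)).zpow_right i
    obtain ⟨B, ⟨hBP, hxB, k, hk, hk1, hkB⟩, hmax⟩ := Set.Finite.exists_maximal (Set.toFinite T) hTne
    set K' := centralizerPPrimeCore 2 x ⊓ Subgroup.centralizer (B : Set G) with hK'
    have hodd : ∀ w ∈ K', ¬ 2 ∣ orderOf w := fun w hw => H85.AbTwo.odd_of_mem_th hw.1
    have hconj : ∀ t ∈ (P : Subgroup G), ∀ w ∈ K', t * w * t⁻¹ ∈ K' := by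
      intro t ht w hw
      refine ⟨?_, fun b hb => ?_⟩
      · have h1 := norm_mem_th (n := t) (a := x) hw.1
        rwa [show t * x * t⁻¹ = x by
          rw [show t * x = x * t from congrArg Subtype.val (hc.is_comm.comm ⟨t, ht⟩ ⟨x, hx⟩),
            mul_inv_cancel_right]] at h1
      · have htb : Commute b t := congrArg Subtype.val (hc.is_comm.comm ⟨b, hBP hb⟩ ⟨t, ht⟩)
        have hwb : Commute b w := hw.2 b hb
        exact ((htb.mul_right hwb).mul_right htb.inv_right).eq
    have hkK : k ∈ K' := ⟨hk, fun b hb => (hkB b hb).symm⟩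
    have hBne : B ≠ (P : Subgroup G) := by
      intro h
      refine hk1 (hkey B hBP k (hodd k hkK) hkB fun w hw => ?_)
      haveI : Fintype B := Fintype.ofFinite _
      have h1 := finrank_fixed ρ B
      rw [hsumB B hBP, h, hq, sub_self, eq_comm, mul_eq_zero, Nat.cast_eq_zero, Nat.cast_eq_zero]
        at h1
      have h2 := Submodule.finrank_eq_zero.1 (h1.resolve_left Nat.card_pos.ne')
      rw [← h] at h2
      rw [h2, Submodule.mem_bot] at hw
      rw [hw, map_zero]
    have hinv : ∀ t ∈ (P : Subgroup G), t ∉ B → ∀ w ∈ K', t * w * t⁻¹ = w⁻¹ := by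
      intro t ht htB w hw
      have htt : t * t = 1 := S.h.sq_one hM P ht
      have hti : t⁻¹ = t := inv_eq_of_mul_eq_one_right htt
      have hfpf : ∀ a ∈ K', t * a * t⁻¹ = a → a = 1 := by
        intro a ha hat
        by_contra ha1
        have hle : B ⊔ Subgroup.zpowers t ∈ T := by
          refine ⟨sup_le hBP (Subgroup.zpowers_le.2 ht), Subgroup.mem_sup_left hxB, a, ha.1, ha1,
            fun b hb => ?_⟩
          have hle' : B ⊔ Subgroup.zpowers t ≤ (C[a] : Subgroup G) := sup_le
            (fun b hb => Subgroup.mem_centralizer_singleton_iff.2 (ha.2 b hb))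
            (Subgroup.zpowers_le.2 (Subgroup.mem_centralizer_singleton_iff.2
              (mul_inv_eq_iff_eq_mul.1 hat)))
          exact (Subgroup.mem_centralizer_singleton_iff.1 (hle' hb)).symm
        exact htB (hmax hle le_sup_left (Subgroup.mem_sup_right (Subgroup.mem_zpowers t)))
      let φ : K' → K' := fun a => ⟨(a : G)⁻¹ * (t * a * t⁻¹), mul_mem (inv_mem a.2) (hconj t ht a a.2)⟩
      have hinj : Function.Injective φ := by
        intro a b hab
        have e : (a : G)⁻¹ * (t * a * t⁻¹) = (b : G)⁻¹ * (t * b * t⁻¹) := congrArg Subtype.val hab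
        have h1 : t * ((b : G) * (a : G)⁻¹) * t⁻¹ = (b : G) * (a : G)⁻¹ := by
          calc t * ((b : G) * (a : G)⁻¹) * t⁻¹ =
                (b : G) * ((b : G)⁻¹ * (t * b * t⁻¹)) * (t * a * t⁻¹)⁻¹ := by group
            _ = (b : G) * ((a : G)⁻¹ * (t * a * t⁻¹)) * (t * a * t⁻¹)⁻¹ := by rw [e]
            _ = _ := by group
        exact Subtype.ext (mul_inv_eq_one.1 (hfpf _ (mul_mem b.2 (inv_mem a.2)) h1)).symm
      obtain ⟨a, ha⟩ := Finite.injective_iff_surjective.1 hinj ⟨w, hw⟩
      have e : (a : G)⁻¹ * (t * a * t⁻¹) = w := congrArg Subtype.val ha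
      rw [← e, hti]
      calc t * ((a : G)⁻¹ * (t * a * t)) * t = t * (a : G)⁻¹ * t * a * (t * t) := by group
        _ = ((a : G)⁻¹ * (t⁻¹ * a * t⁻¹))⁻¹ := by rw [htt]; group
        _ = ((a : G)⁻¹ * (t * a * t))⁻¹ := by rw [hti]
    obtain ⟨t, ht, htB⟩ := SetLike.exists_of_lt (lt_of_le_of_ne hBP hBne)
    have htwo : ∀ w ∈ (P : Subgroup G), w ∉ B → t * w ∈ B := by
      intro w hw hwB
      by_contra htw
      have h1 := hinv _ (mul_mem ht hw) htw k hkK
      have h2 : t * w * k * (t * w)⁻¹ = k := by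
        calc t * w * k * (t * w)⁻¹ = t * (w * k * w⁻¹) * t⁻¹ := by group
          _ = t * k⁻¹ * t⁻¹ := by rw [hinv w hw hwB k hkK]
          _ = (t * k * t⁻¹)⁻¹ := by group
          _ = k := by rw [hinv t ht htB k hkK, inv_inv]
      rw [h2] at h1
      have h3 : orderOf k ∣ 2 := orderOf_dvd_of_pow_eq_one (by rw [pow_two]; nth_rewrite 1 [h1]; rw [inv_mul_cancel])
      rcases (Nat.dvd_prime Nat.prime_two).1 h3 with h4 | h4
      · exact hk1 (orderOf_eq_one_iff.1 h4)
      · exact hodd k hkK (h4 ▸ dvd_rfl)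
    have hcard : q = 2 * Nat.card B := by
      have hsub : (B : Set G) ⊆ ((P : Subgroup G) : Set G) := hBP
      have h3 := Set.ncard_sdiff_add_ncard_of_subset hsub
      simp only [← Nat.card_coe_set_eq] at h3
      have h4 : Nat.card (((P : Subgroup G) : Set G) \ (B : Set G) : Set G) = Nat.card B := by
        refine Nat.card_congr ⟨fun w => ⟨t * w.1, htwo _ w.2.1 w.2.2⟩,
          fun b => ⟨t⁻¹ * b.1, mul_mem (inv_mem ht) (hBP b.2), fun h => htB ?_⟩,
          fun w => Subtype.ext (inv_mul_cancel_left t w.1),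
          fun b => Subtype.ext (mul_inv_cancel_left t b.1)⟩
        have h5 := mul_mem h (inv_mem b.2)
        rw [mul_inv_cancel_right] at h5
        simpa using inv_mem h5
      rw [h4] at h3
      rw [hq]
      exact h3.symm.trans (two_mul _).symm
    refine hk1 (hkey B hBP k (hodd k hkK) hkB fun w hw => ?_)
    haveI : Fintype B := Fintype.ofFinite _
    have h1 := finrank_fixed ρ B
    rw [hsumB B hBP, hcard, Nat.cast_mul, Nat.cast_two, two_mul, add_sub_cancel_right] at h1
    have hfr : Module.finrank ℂ (Representation.invariants (ρ.comp B.subtype)) = 1 := by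
      have h2 : ((1 : ℕ) : ℂ) = (Module.finrank ℂ (Representation.invariants (ρ.comp B.subtype)) : ℂ) :=
        mul_left_cancel₀ (Nat.cast_ne_zero.2 (Nat.card_pos (α := B)).ne')
          (by rw [Nat.cast_one, mul_one]; exact h1)
      exact (Nat.cast_injective h2).symm
    obtain ⟨w₀, hw₀, hspan⟩ := (finrank_eq_one_iff' (K := ℂ)).1 hfr
    have hmem : ∀ g : G, (∀ b ∈ B, g * b = b * g) →
        ∃ c : ℂ, ρ g (w₀ : Fin n → ℂ) = c • (w₀ : Fin n → ℂ) := by
      intro g hg
      have hin : ρ g (w₀ : Fin n → ℂ) ∈ Representation.invariants (ρ.comp B.subtype) := fun b => by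
        show ρ (b : G) (ρ g (w₀ : Fin n → ℂ)) = _
        rw [← Module.End.mul_apply, ← map_mul, ← hg b b.2, map_mul, Module.End.mul_apply]
        exact congrArg (ρ g) (w₀.2 b)
      obtain ⟨c, hc⟩ := hspan ⟨_, hin⟩
      exact ⟨c, (congrArg Subtype.val hc).symm⟩
    obtain ⟨l, hl⟩ := hmem k hkB
    obtain ⟨μ, hμ⟩ := hmem t fun b hb =>
      congrArg Subtype.val (hc.is_comm.comm ⟨t, ht⟩ ⟨b, hBP hb⟩)
    have hw0 : (w₀ : Fin n → ℂ) ≠ 0 := fun e => hw₀ (Subtype.ext e)
    have hpow : ∀ (j : ℕ), ρ (k ^ j) (w₀ : Fin n → ℂ) = l ^ j • (w₀ : Fin n → ℂ) := by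
      intro j
      induction j with
      | zero => simp
      | succ j ih => rw [pow_succ', map_mul, Module.End.mul_apply, ih, map_smul, hl, smul_smul, pow_succ]
    have hlo : l ^ orderOf k = 1 := by
      have h := hpow (orderOf k)
      rw [pow_orderOf_eq_one, map_one, Module.End.one_apply] at h
      exact smul_left_injective ℂ hw0 (h.symm.trans (one_smul ℂ _).symm)
    have hl2 : l ^ 2 = 1 := by
      have htk : t * k = k⁻¹ * t := by
        rw [← hinv t ht htB k hkK, inv_mul_cancel_right]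
      have h1 : ρ k (ρ t (ρ k (w₀ : Fin n → ℂ))) = ρ t (w₀ : Fin n → ℂ) := by
        rw [← Module.End.mul_apply, ← map_mul, ← Module.End.mul_apply, ← map_mul, mul_assoc k t k, htk,
          mul_inv_cancel_left]
      rw [hl, map_smul, hμ, smul_smul, map_smul, hl, smul_smul] at h1
      have hμ0 : μ ≠ 0 := by
        intro h0
        rw [h0, zero_smul] at hμ
        apply hw0
        have h2 := congrArg (ρ t⁻¹) hμ
        rwa [map_zero, ← Module.End.mul_apply, ← map_mul, inv_mul_cancel, map_one,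
          Module.End.one_apply] at h2
      have h2 := smul_left_injective ℂ hw0 h1
      apply mul_left_cancel₀ hμ0
      linear_combination h2
    have hl1 : l = 1 := by
      have hd : orderOf l ∣ 1 := by
        rw [← ((Nat.prime_two.coprime_iff_not_dvd).2 (hodd k hkK)).gcd_eq_one]
        exact Nat.dvd_gcd (orderOf_dvd_of_pow_eq_one hl2) (orderOf_dvd_of_pow_eq_one hlo)
      exact orderOf_eq_one_iff.1 (Nat.dvd_one.1 hd)
    obtain ⟨c, hc'⟩ := hspan ⟨w, hw⟩
    have e : w = c • (w₀ : Fin n → ℂ) := (congrArg Subtype.val hc').symm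
    rw [e, map_smul, hl, hl1, one_smul]
  refine le_antisymm (fun g hg => ?_) (H85.AbTwo.le_cent P hx)
  obtain ⟨k, hk, w, hw, rfl⟩ := H85.AbTwo.th_factor P hx (S.reg hM hx hx1) hg
  rw [hth k hk, one_mul]
  exact hw

theorem sq_v (hM : IsPModular 2 M) : v ^ 2 = 1 := by
  haveI : Fact (Nat.Prime 2) := ⟨Nat.prime_two⟩
  have h : r ∈ (P : Subgroup G) := by
    rw [← S.centralizer_eq hM S.sP S.ne_one]
    exact Subgroup.mem_centralizer_singleton_iff.2 S.cm
  have hr : r = 1 := by
    obtain ⟨j, hj⟩ := H20.FreeSylow.orderOf_eq_pow h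
    rcases j with _ | j
    · exact orderOf_eq_one_iff.1 (by rw [hj, pow_zero])
    · exact absurd (hj ▸ dvd_pow_self 2 (Nat.succ_ne_zero j)) S.odd
  rw [← S.eq, hr, mul_one, pow_two]
  exact S.h.sq_one hM P S.sP

end Setup

end H85.ConstDiff
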