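import Mathlib

/-!
The numerical part of the regularity argument (helper85).
-/

set_option autoImplicit false

namespace H85.ConstDiff

open Finset

theorem power_bound {r m : ℕ} (hr : 3 ≤ r) (hm : 1 ≤ m) :
    2 ^ m + r * m * (2 ^ m - 1) ^ 2 ≤ 2 ^ (r * m) := by
  obtain ⟨d, rfl⟩ : ∃ d, r = d + 3 := ⟨r - 3, by omega⟩
  obtain ⟨e, he⟩ : ∃ e, 2 ^ m = e + 1 := ⟨2 ^ m - 1, by have := Nat.two_pow_pos m; omega⟩
  have hm2 : m + 1 ≤ e + 1 := he ▸ Nat.lt_two_pow_self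
  have hm3 : 3 * m ≤ e + 3 := by
    have key : ∀ k : ℕ, 3 * k ≤ 2 ^ k + 2 := fun k => by
      induction k with
      | zero => norm_num
      | succ k ih =>
        rw [pow_succ]
        rcases k with _ | _ | k
        · norm_num
        · norm_num
        · have h0 := Nat.one_le_two_pow (n := k)
          rw [pow_succ, pow_succ] at ih ⊢
          omega
    have := key m
    omega
  rw [mul_comm (d + 3) m, pow_mul, he, Nat.add_sub_cancel]
  clear he hr
  induction d with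
  | zero => simp only [zero_add]; nlinarith [Nat.mul_le_mul (le_refl (e * e)) hm3, Nat.zero_le e]
  | succ d ih =>
    have h1 : (e + 1) ^ (d + 1 + 3) = (e + 1) * (e + 1) ^ (d + 3) := by
      rw [show d + 1 + 3 = (d + 3) + 1 by ring, pow_succ']
    rw [h1]
    have h2 : 1 ≤ e := by omega
    have h3 : (e + 1) + m * (d + 3) * e ^ 2 ≤ (e + 1) ^ (d + 3) := by
      linarith [ih]
    nlinarith [Nat.mul_le_mul h2 h3, Nat.zero_le ((d + 3) * m * e ^ 2), Nat.zero_le (m * e ^ 2)]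

/-- The sum bound. -/
theorem count_bound {ι : Type*} (s : Finset ι) (d : ι → ℤ) {f q A : ℤ}
    (hge : ∀ i ∈ s, -1 ≤ d i) (hsum : ∑ i ∈ s, d i = -f) (hsq : ∑ i ∈ s, d i * d i = q * f - 1)
    (hneg : ((s.filter fun i => d i = -1).card : ℤ) ≤ A) (hfA : f ≤ A) :
    q * f - 1 ≤ A + (A - f) ^ 2 := by
  set n : ℤ := ((s.filter fun i => d i = -1).card : ℤ) with hn
  set F := s.filter fun i => ¬ d i = -1 with hF
  have hnn : ∀ i ∈ F, 0 ≤ d i := fun i hi => by
    obtain ⟨h1, h2⟩ := Finset.mem_filter.1 hi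
    have := hge i h1
    omega
  have h1 : ∑ i ∈ F, d i = n - f := by
    have h := Finset.sum_filter_add_sum_filter_not s (fun i => d i = -1) d
    rw [hsum, ← hF, Finset.sum_congr rfl (fun i hi => (Finset.mem_filter.1 hi).2),
      Finset.sum_const, nsmul_eq_mul] at h
    rw [hn]; linarith
  have h2 : ∑ i ∈ F, d i * d i = q * f - 1 - n := by
    have h := Finset.sum_filter_add_sum_filter_not s (fun i => d i = -1) fun i => d i * d i
    rw [hsq, ← hF, Finset.sum_congr rfl (g := fun _ => (1 : ℤ))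
      (fun i hi => by rw [(Finset.mem_filter.1 hi).2]; norm_num), Finset.sum_const, nsmul_eq_mul,
      mul_one] at h
    rw [hn]; linarith
  have h3 : ∑ i ∈ F, (d i) ^ 2 ≤ (∑ i ∈ F, d i) ^ 2 := Finset.sum_sq_le_sq_sum_of_nonneg hnn
  simp only [pow_two] at h3 ⊢
  rw [h1, h2] at h3
  have h4 : 0 ≤ n - f := h1 ▸ Finset.sum_nonneg hnn
  nlinarith

theorem count_absurd {r m f : ℕ} (hr : 3 ≤ r) (hm : 1 ≤ m) (hf : 0 < f) (hfn : f ≤ r * m)
    (h : ((2 ^ (r * m) : ℕ) : ℤ) * f - 1 ≤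
      (((2 ^ m : ℕ) : ℤ) * f - 1) + ((((2 ^ m : ℕ) : ℤ) * f - 1) - f) ^ 2) : False := by
  have hb := power_bound hr hm
  set Q : ℕ := 2 ^ (r * m) with hQ
  obtain ⟨e, he⟩ : ∃ e, 2 ^ m = e + 1 := ⟨2 ^ m - 1, by have := Nat.two_pow_pos m; omega⟩
  rw [he, Nat.add_sub_cancel] at hb
  rw [he] at h
  push_cast at h
  have h1 : ((e : ℤ) + 1) + (f : ℤ) * (e : ℤ) ^ 2 ≤ (Q : ℤ) := by
    have : e + 1 + f * e ^ 2 ≤ Q := le_trans (Nat.add_le_add_left (Nat.mul_le_mul_right _ hfn) _) hb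
    exact_mod_cast this
  have he1 : 1 ≤ e := by
    have : 2 ≤ 2 ^ m := Nat.le_self_pow (by omega) 2
    omega
  have hf' : (1 : ℤ) ≤ f := by exact_mod_cast hf
  have he' : (1 : ℤ) ≤ e := by exact_mod_cast he1
  have h5 : 1 ≤ (f : ℤ) * e := by nlinarith
  nlinarith [mul_le_mul_of_nonneg_left h1 (show (0 : ℤ) ≤ f by linarith)]

end H85.ConstDiff
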