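import Cfsg.Agent.H85.ConstDiff.Basic
import Cfsg.Agent.H85.AbTwo.Column
import Cfsg.Agent.H16.OddOrder
import Cfsg.Agent.H21.Inflation
import Cfsg.Agent.H27.ClassBasic

/-!
A constant difference `χ(1) - χ(u)`: no odd quotient, and the constant is the order of a Sylow
subgroup (helper85).
-/

set_option autoImplicit false
set_option linter.style.haveILetI false
set_option linter.unusedSectionVars false

open Cfsg Finset
open scoped ComplexConjugate

namespace H85.ConstDiff

universe u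

variable {G : Type u} [Group G] [Fintype G] {M : Ideal AlgInt} [hMp : M.IsPrime]

/-- An element with class size prime to `2` has a conjugate centralizing the Sylow subgroup. -/
theorem exists_conj_mem_centralizer (P : Sylow 2 G) {g : G}
    (hg : ¬ 2 ∣ (Subgroup.centralizer ({g} : Set G)).index) :
    ∃ c : G, c * g * c⁻¹ ∈ Subgroup.centralizer ((P : Subgroup G) : Set G) := by
  haveI : Fact (Nat.Prime 2) := ⟨Nat.prime_two⟩
  obtain ⟨Q, hQ⟩ := H27.exists_sylow_le_of_not_dvd_index hg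
  obtain ⟨c, hc⟩ := MulAction.exists_smul_eq G Q P
  refine ⟨c, fun w hw => ?_⟩
  rw [← hc, Sylow.coe_subgroup_smul] at hw
  obtain ⟨x, hx, rfl⟩ := hw
  have hxg := Subgroup.mem_centralizer_singleton_iff.1 (hQ hx)
  show c * x * c⁻¹ * (c * g * c⁻¹) = c * g * c⁻¹ * (c * x * c⁻¹)
  calc c * x * c⁻¹ * (c * g * c⁻¹) = c * (x * g) * c⁻¹ := by group
    _ = c * (g * x) * c⁻¹ := by rw [hxg]
    _ = _ := by group

variable {v : G} {K : ℤ}

namespace Hyp

variable (h : Hyp M v K) (P : Sylow 2 G)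
include h

theorem le_centralizer (hM : IsPModular 2 M) :
    (P : Subgroup G) ≤ Subgroup.centralizer ((P : Subgroup G) : Set G) := fun a ha b hb =>
  congrArg Subtype.val ((h.comm hM P).is_comm.comm ⟨b, hb⟩ ⟨a, ha⟩)

theorem K_two_le (hM : IsPModular 2 M) : 2 ≤ K := by
  have h1 := h.K_pos hM
  have h2 := h.even_K hM
  omega

/-- No proper normal subgroup contains the centralizer of a Sylow subgroup. -/
theorem eq_top_of_centralizer_le (hM : IsPModular 2 M) (R : Subgroup G) [R.Normal]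
    (hR : Subgroup.centralizer ((P : Subgroup G) : Set G) ≤ R) : R = ⊤ := by
  classical
  haveI : Fact (Nat.Prime 2) := ⟨Nat.prime_two⟩
  by_contra hne
  have hodd : Odd (Nat.card (G ⧸ R)) := by
    refine (H85.AbTwo.odd_index P).of_dvd_nat ?_
    exact Subgroup.index_dvd_of_le ((h.le_centralizer P hM).trans hR)
  haveI := H16.FT.oddOrder hodd
  haveI : Nontrivial (G ⧸ R) := QuotientGroup.nontrivial_iff.2 hne
  have hcard : 1 < Nat.card ((G ⧸ R) →* ℂˣ) := by
    rw [H12.card_monoidHom_units]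
    refine lt_of_le_of_ne (Nat.pos_of_ne_zero Subgroup.index_ne_zero_of_finite) fun e => ?_
    exact (IsSolvable.commutator_lt_top_of_nontrivial (G ⧸ R)).ne (Subgroup.index_eq_one.1 e.symm)
  haveI := Finite.one_lt_card_iff_nontrivial.1 hcard
  obtain ⟨μ, hμ⟩ := exists_ne (1 : (G ⧸ R) →* ℂˣ)
  set l : G →* ℂˣ := μ.comp (QuotientGroup.mk' R) with hl
  have hlR : ∀ g ∈ R, l g = 1 := fun g hg => by
    rw [hl, MonoidHom.comp_apply, QuotientGroup.mk'_apply, (QuotientGroup.eq_one_iff g).2 hg,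
      map_one]
  have hlpow : ∀ g, l g ^ Nat.card (G ⧸ R) = 1 := fun g => by
    rw [hl, MonoidHom.comp_apply, ← map_pow, pow_card_eq_one', map_one]
  have hmem : H12.linIrr l ∈ principalBlock M G := by
    intro g
    have e : centralChar (fun _ : G => (1 : ℂ)) g - centralChar (H12.linIrr l : G → ℂ) g =
        (1 - (l g : ℂ)) * ((Subgroup.centralizer ({g} : Set G)).index : ℂ) := by
      simp only [centralChar, H12.linIrr_apply, map_one, Units.val_one, div_one]
      ring
    rw [e]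
    by_cases hg : 2 ∣ (Subgroup.centralizer ({g} : Set G)).index
    · refine H20.memIdeal_mul ?_ ((H20.natCast_memIdeal_iff hM _).2 hg)
      have h1 : MemLocalRing M (l g : ℂ) :=
        H20.memRing_of_pow_eq_one hodd.pos (by rw [← Units.val_pow_eq_pow_val, hlpow, Units.val_one])
      simpa [sub_eq_add_neg] using H20.memRing_add (H20.memRing_natCast 1) (H20.memRing_neg h1)
    · obtain ⟨c, hc⟩ := exists_conj_mem_centralizer P hg
      have h1 := hlR _ (hR hc)
      rw [map_mul, map_mul, map_inv, mul_comm (l c), mul_assoc, mul_inv_cancel, mul_one] at h1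
      rw [h1, Units.val_one, sub_self, zero_mul]
      exact H20.memIdeal_zero
  have hne1 : H12.linIrr l ≠ H12.oneIrr G := fun e => hμ (MonoidHom.ext fun q => by
    obtain ⟨g, rfl⟩ := QuotientGroup.mk'_surjective R q
    have := congrArg (fun χ : IrrCharacter G => (χ : G → ℂ) g) e
    simp only [H12.linIrr_apply, H12.oneIrr_apply] at this
    exact Units.ext this)
  have hv := h.eq _ (mem_nt.2 ⟨hne1, hmem⟩)
  have hd : dg (H12.linIrr l) = 1 := by
    have := dg_eq (H12.linIrr l)
    simp only [H12.linIrr_apply, map_one, Units.val_one] at this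
    exact_mod_cast this.symm
  rw [hd, H12.linIrr_apply] at hv
  have hnorm : ‖(l v : ℂ)‖ = 1 := H12.norm_eq_one_of_pow_eq_one hodd.pos.ne'
    (by rw [← Units.val_pow_eq_pow_val, hlpow, Units.val_one])
  rw [hv, Complex.norm_intCast] at hnorm
  have h2 := h.K_two_le hM
  have hK : K = 2 := by
    have : |1 - K| = 1 := by exact_mod_cast hnorm
    rw [abs_of_nonpos (by omega)] at this
    omega
  have h3 := congrArg (fun w : ℂˣ => (w : ℂ)) (hlpow v)
  simp only [Units.val_pow_eq_pow_val, hv, hK, Units.val_one] at h3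
  rw [show ((1 - 2 : ℤ) : ℂ) = -1 by norm_num, hodd.neg_one_pow] at h3
  norm_num at h3

variable {P} {s : G} (hs : s ∈ (P : Subgroup G)) (hs2 : orderOf s = 2)
include hs hs2

theorem apply_of_mem (hM : IsPModular 2 M) (χ : IrrCharacter G) {x : G}
    (hx : x ∈ (P : Subgroup G)) (hx1 : x ≠ 1) :
    (χ : G → ℂ) x = (H85.AbTwo.dv s χ : ℂ) := by
  have hs1 : s ≠ 1 := fun e => by rw [e, orderOf_one] at hs2; norm_num at hs2
  obtain ⟨n, -, hn⟩ := h.exists_norm hM P hs hx hs1 hx1
  rw [← hn, H12.irr_isClassFunction χ s n, H85.AbTwo.dv_eq hs2]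

theorem sum_sylow [Fintype (P : Subgroup G)] (hM : IsPModular 2 M) (χ : IrrCharacter G) :
    ∑ x : (P : Subgroup G), (χ : G → ℂ) x =
      ((dg χ + ((Nat.card (P : Subgroup G) : ℤ) - 1) * H85.AbTwo.dv s χ : ℤ) : ℂ) := by
  classical
  rw [← Finset.add_sum_erase Finset.univ _ (Finset.mem_univ (1 : (P : Subgroup G))),
    Finset.sum_congr rfl fun x hx => h.apply_of_mem hs hs2 hM χ x.2 fun e =>
      (Finset.mem_erase.1 hx).1 (Subtype.ext e),
    Finset.sum_const, Finset.card_erase_of_mem (Finset.mem_univ _), Finset.card_univ,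
    ← Nat.card_eq_fintype_card, OneMemClass.coe_one, dg_eq, nsmul_eq_mul,
    Nat.cast_sub Nat.card_pos]
  push_cast
  ring

/-- The multiplicity of the trivial character on the Sylow subgroup. -/
theorem exists_mult (hM : IsPModular 2 M) (χ : IrrCharacter G) : ∃ c : ℕ,
    dg χ + ((Nat.card (P : Subgroup G) : ℤ) - 1) * H85.AbTwo.dv s χ =
      (Nat.card (P : Subgroup G) : ℤ) * c := by
  classical
  haveI : Fintype (P : Subgroup G) := Fintype.ofFinite _
  obtain ⟨c, hc⟩ := H12.IsCharacter.classInner_nat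
    (H12.IsCharacter.res (H12.isCharacter_irr χ) (P : Subgroup G)) H12.isCharacter_one
  refine ⟨c, ?_⟩
  have h1 := H12.sum_mul_conj_eq_card_mul (fun x : (P : Subgroup G) => (χ : G → ℂ) x)
    (fun _ : (P : Subgroup G) => (1 : ℂ))
  simp only [map_one, mul_one] at h1
  rw [hc, h.sum_sylow hs hs2 hM χ] at h1
  exact_mod_cast h1

/-- A nontrivial member of the principal block does not have the Sylow subgroup in its kernel. -/
theorem dv_ne_dg (hM : IsPModular 2 M) {χ : IrrCharacter G} (hχ : χ ∈ nt M G) :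
    H85.AbTwo.dv s χ ≠ dg χ := by
  classical
  haveI : Fact (Nat.Prime 2) := ⟨Nat.prime_two⟩
  intro heq
  obtain ⟨hχ1, hχB⟩ := mem_nt.1 hχ
  obtain ⟨n, ρ, hρ, hρχ⟩ := χ.2
  set X := ρ.ker with hX
  have hker : ∀ g, g ∈ X ↔ (χ : G → ℂ) g = (χ : G → ℂ) 1 := fun g => by
    rw [hX, MonoidHom.mem_ker, Module.End.one_eq_id, ← H12.character_eq_finrank_iff, ← hρχ,
      Representation.char_one]
  have hPX : (P : Subgroup G) ≤ X := fun x hx => by
    rw [hker]
    rcases eq_or_ne x 1 with rfl | hx1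
    · rfl
    · rw [h.apply_of_mem hs hs2 hM χ hx hx1, heq, dg_eq]
  set C := Subgroup.centralizer ((P : Subgroup G) : Set G) with hC
  haveI : (X ⊔ C).Normal := by
    have hsub : ∀ g ∈ Subgroup.normalizer ((P : Subgroup G) : Set G), ∀ w ∈ X ⊔ C,
        g * w * g⁻¹ ∈ X ⊔ C := by
      intro g hg w hw
      obtain ⟨x, hx, c, hc, rfl⟩ := Subgroup.mem_sup_of_normal_left.1 hw
      rw [show g * (x * c) * g⁻¹ = (g * x * g⁻¹) * (g * c * g⁻¹) by group]
      refine mul_mem (Subgroup.mem_sup_left (Subgroup.Normal.conj_mem inferInstance x hx g))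
        (Subgroup.mem_sup_right fun z hz => ?_)
      have hz' : g⁻¹ * z * g ∈ (P : Subgroup G) := by
        simpa using (Subgroup.mem_normalizer_iff.1 (inv_mem hg) z).1 hz
      have e := hc _ hz'
      show z * (g * c * g⁻¹) = g * c * g⁻¹ * z
      calc z * (g * c * g⁻¹) = g * ((g⁻¹ * z * g) * c) * g⁻¹ := by group
        _ = g * (c * (g⁻¹ * z * g)) * g⁻¹ := by rw [e]
        _ = _ := by group
    rw [← Subgroup.normalizer_eq_top_iff, eq_top_iff, ← Sylow.normalizer_sup_eq_top' P hPX]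
    refine sup_le (fun g hg => ?_) (le_sup_left.trans Subgroup.le_normalizer)
    rw [Subgroup.mem_normalizer_iff]
    refine fun w => ⟨hsub g hg w, fun hw => ?_⟩
    have := hsub g⁻¹ (inv_mem hg) _ hw
    simpa [mul_assoc] using this
  have htop := h.eq_top_of_centralizer_le P hM (X ⊔ C) le_sup_right
  have hcong : ∀ g : G, MemLocalIdeal M ((χ : G → ℂ) g - (χ : G → ℂ) 1) := by
    intro g
    obtain ⟨x, hx, c, hc, rfl⟩ := Subgroup.mem_sup_of_normal_left.1 (htop ▸ Subgroup.mem_top g)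
    have e : (χ : G → ℂ) (x * c) = (χ : G → ℂ) c := by
      rw [← hρχ]
      simp only [Representation.character]
      rw [map_mul, MonoidHom.mem_ker.1 hx, one_mul]
    rw [e]
    have hodd : ¬ 2 ∣ (Subgroup.centralizer ({c} : Set G)).index := by
      refine fun hd => P.not_dvd_index (hd.trans (Subgroup.index_dvd_of_le fun w hw => ?_))
      exact Subgroup.mem_centralizer_singleton_iff.2 (hc w hw)
    have hb := (show SameBlock M (H12.oneIrr G : G → ℂ) (χ : G → ℂ) from hχB) c
    simp only [centralChar, H12.oneIrr_apply, mul_one, div_one] at hb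
    have h1 := H20.memIdeal_mul (H20.memRing_mul
      (H20.memRing_neg (H20.inv_natCast_memRing hM hodd))
      (H20.memRing_intCast (dg χ))) hb
    convert h1 using 1
    have hi : ((Subgroup.centralizer ({c} : Set G)).index : ℂ) ≠ 0 :=
      Nat.cast_ne_zero.2 Subgroup.index_ne_zero_of_finite
    have hd : (dg χ : ℂ) ≠ 0 := by exact_mod_cast (dg_pos χ).ne'
    rw [dg_eq]
    field_simp
    ring
  haveI : Fintype (G ⧸ X) := Fintype.ofFinite _
  have hcoset : ∀ g x : G, x ∈ X → (χ : G → ℂ) (g * x) = (χ : G → ℂ) g := fun g x hx => by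
    rw [← hρχ]
    simp only [Representation.character]
    rw [map_mul, MonoidHom.mem_ker.1 hx, mul_one]
  have hzero : ∑ q : G ⧸ X, (χ : G → ℂ) q.out = 0 := by
    have h1 := H12.sum_mul_conj_eq_card_mul (χ : G → ℂ) (H12.oneIrr G : G → ℂ)
    rw [H12.classInner_irr_ne hχ1, mul_zero] at h1
    simp only [H12.oneIrr_apply, map_one, mul_one] at h1
    rw [← Finset.sum_fiberwise Finset.univ (fun g : G => (g : G ⧸ X))] at h1
    have h2 : ∀ q : G ⧸ X, ∑ g ∈ Finset.univ.filter (fun g : G => (g : G ⧸ X) = q),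
        (χ : G → ℂ) g = (Nat.card X : ℂ) * (χ : G → ℂ) q.out := fun q => by
      rw [Finset.sum_congr rfl (g := fun _ => (χ : G → ℂ) q.out) fun g hg => by
        have hm : q.out⁻¹ * g ∈ X := QuotientGroup.eq.1
          ((QuotientGroup.out_eq' q).trans (Finset.mem_filter.1 hg).2.symm)
        conv_lhs => rw [show g = q.out * (q.out⁻¹ * g) by group]
        exact hcoset _ _ hm]
      rw [Finset.sum_const, nsmul_eq_mul]
      congr 2
      rw [← Nat.card_eq_finsetCard]
      refine Nat.card_congr ⟨fun g => ⟨q.out⁻¹ * g.1, QuotientGroup.eq.1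
          ((QuotientGroup.out_eq' q).trans (Finset.mem_filter.1 g.2).2.symm)⟩,
        fun x => ⟨q.out * x.1, Finset.mem_filter.2 ⟨Finset.mem_univ _, ?_⟩⟩,
        fun g => Subtype.ext (by simp), fun x => Subtype.ext (by simp)⟩
      rw [QuotientGroup.mk_mul, (QuotientGroup.eq_one_iff x.1).2 x.2, mul_one,
        QuotientGroup.out_eq']
    rw [Finset.sum_congr rfl fun q _ => h2 q, ← Finset.mul_sum, mul_eq_zero] at h1
    exact h1.resolve_left (Nat.cast_ne_zero.2 Nat.card_pos.ne')
  have heven : 2 ∣ (Nat.card (G ⧸ X) : ℤ) * dg χ := by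
    apply intCast_even hM
    have h1 : MemLocalIdeal M (∑ q : G ⧸ X, ((χ : G → ℂ) q.out - (χ : G → ℂ) 1)) :=
      Finset.sum_induction _ (MemLocalIdeal M) (fun _ _ => H20.memIdeal_add) H20.memIdeal_zero
        fun q _ => hcong _
    rw [Finset.sum_sub_distrib, hzero, Finset.sum_const, Finset.card_univ,
      ← Nat.card_eq_fintype_card, nsmul_eq_mul, dg_eq, zero_sub] at h1
    have h2 := H20.memIdeal_mul (H20.memRing_intCast (-1)) h1
    push_cast at h2 ⊢
    simpa using h2
  have hidx : Odd (Nat.card (G ⧸ X)) :=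
    (H85.AbTwo.odd_index P).of_dvd_nat (Subgroup.index_dvd_of_le hPX)
  obtain ⟨χ', hχ'⟩ := H21.exists_deflate X χ fun x hx => (hker x).1 hx
  have hdeg : Odd (charDegree (χ : G → ℂ)) := by
    refine hidx.of_dvd_nat ?_
    have h1 := H12.irr_degree_dvd_card χ'
    have h2 : (H12.degree (χ' : G ⧸ X → ℂ) : ℂ) = (charDegree (χ : G → ℂ) : ℂ) := by
      rw [← H12.irr_apply_one, ← H22.irr_one_eq_charDegree, ← hχ', H21.inflate_apply,
        QuotientGroup.mk_one]
    rwa [Nat.cast_injective h2] at h1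
  rw [dg] at heven
  rcases (Int.prime_two.dvd_or_dvd heven) with h1 | h1
  · exact hidx.not_two_dvd_nat (by exact_mod_cast h1)
  · exact hdeg.not_two_dvd_nat (by exact_mod_cast h1)

theorem dv_lt (hM : IsPModular 2 M) {χ : IrrCharacter G} (hχ : χ ∈ nt M G) :
    H85.AbTwo.dv s χ < dg χ := by
  refine lt_of_le_of_ne ?_ (h.dv_ne_dg hs hs2 hM hχ)
  have h1 := H12.IsCharacter.norm_le (H12.isCharacter_irr χ) s
  rw [H85.AbTwo.dv_eq hs2, Complex.norm_intCast] at h1
  have h2 : (H12.degree (χ : G → ℂ) : ℝ) = (dg χ : ℝ) := by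
    have h3 : ((H12.degree (χ : G → ℂ) : ℤ) : ℂ) = (dg χ : ℂ) := by
      rw [Int.cast_natCast, ← H12.irr_apply_one, dg_eq]
    exact_mod_cast h3
  rw [h2] at h1
  have h4 : (|H85.AbTwo.dv s χ| : ℤ) ≤ dg χ := by exact_mod_cast h1
  exact (le_abs_self _).trans h4

/-- The drop at the involution is a positive multiple of the Sylow order. -/
theorem exists_drop (hM : IsPModular 2 M) {χ : IrrCharacter G} (hχ : χ ∈ nt M G) : ∃ m : ℤ,
    1 ≤ m ∧ H85.AbTwo.dv s χ = dg χ - (Nat.card (P : Subgroup G) : ℤ) * m ∧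
      ((Nat.card (P : Subgroup G) : ℤ) - 1) * m ≤ dg χ := by
  obtain ⟨c, hc⟩ := h.exists_mult hs hs2 hM χ
  have hlt := h.dv_lt hs hs2 hM hχ
  have hq : (1 : ℤ) ≤ (Nat.card (P : Subgroup G) : ℤ) := by exact_mod_cast Nat.card_pos
  refine ⟨c - H85.AbTwo.dv s χ, ?_, by linarith, by nlinarith⟩
  by_contra hm
  nlinarith

theorem card_sylow_eq (hM : IsPModular 2 M) :
    (Nat.card (P : Subgroup G) : ℤ) = (2 ^ (Nat.card G).factorization 2 : ℕ) := by
  haveI : Fact (Nat.Prime 2) := ⟨Nat.prime_two⟩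
  rw [P.card_eq_multiplicity]

/-- The constant is the order of a Sylow subgroup, and some character has the least degree. -/
theorem main_degree (hM : IsPModular 2 M) : K = (Nat.card (P : Subgroup G) : ℤ) ∧
    (∀ χ ∈ nt M G, K - 1 ≤ dg χ) ∧
    ∃ χ ∈ nt M G, dg χ = K - 1 ∧ H85.AbTwo.dv s χ = -1 := by
  have hle : K ≤ (Nat.card (P : Subgroup G) : ℤ) := by
    rw [h.card_sylow_eq hs hs2 hM]
    exact Int.le_of_dvd (by exact_mod_cast Nat.two_pow_pos _) (h.K_dvd hM)
  have hneg : ∃ χ ∈ nt M G, dg χ - K < 0 := by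
    by_contra hcon
    push Not at hcon
    have h1 : 0 ≤ ∑ χ ∈ nt M G, (dg χ - K) := Finset.sum_nonneg hcon
    rw [Finset.sum_sub_distrib, Finset.sum_const, nsmul_eq_mul] at h1
    have h2 := h.defect_pos hM
    rw [T] at h2
    linarith
  obtain ⟨χ, hχ, hlt⟩ := hneg
  obtain ⟨m, hm1, hdv, hdm⟩ := h.exists_drop hs hs2 hM hχ
  have hq1 : (1 : ℤ) ≤ (Nat.card (P : Subgroup G) : ℤ) := by exact_mod_cast Nat.card_pos
  have hge : (Nat.card (P : Subgroup G) : ℤ) - 1 ≤ dg χ := le_trans (by nlinarith) hdm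
  have hK : K = (Nat.card (P : Subgroup G) : ℤ) := by omega
  refine ⟨hK, fun ψ hψ => ?_, χ, hχ, by omega, ?_⟩
  · obtain ⟨m', hm', -, hdm'⟩ := h.exists_drop hs hs2 hM hψ
    nlinarith
  · have hm : m = 1 := by
      by_contra hne
      have h2 : 2 ≤ m := by omega
      have := h.K_two_le hM
      nlinarith
    rw [hdv, hm, mul_one]
    omega

end Hyp

end H85.ConstDiff
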