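import Cfsg.Agent.H85.ConstDiff.Setup
import Cfsg.Agent.H85.ConstDiff.CentralEight

/-!
A constant difference `χ(1) - χ(u)`: the centralizer of the involution is solvable (helper85).
-/

set_option autoImplicit false
set_option linter.style.haveILetI false
set_option linter.unusedSectionVars false

open Cfsg Finset
open scoped ComplexConjugate

namespace H85.ConstDiff

universe u

local notation "C[" x "]" => (Subgroup.centralizer ({x} : Set _))

/-- The form attached to the chain. -/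
theorem form_pos (a b c : ℤ) (h : ¬ (a = 0 ∧ b = 0 ∧ c = 0)) :
    1 ≤ a * a + b * b + c * c - a * b - b * c := by
  have h2 : 1 ≤ a * a + (a - b) * (a - b) + (b - c) * (b - c) + c * c := by
    by_contra hcon
    apply h
    have ha := mul_self_nonneg a
    have hc := mul_self_nonneg c
    have hab := mul_self_nonneg (a - b)
    have hbc := mul_self_nonneg (b - c)
    have e1 : a = 0 := mul_self_eq_zero.1 (by omega)
    have e2 : c = 0 := mul_self_eq_zero.1 (by omega)
    have e3 : a - b = 0 := mul_self_eq_zero.1 (by omega)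
    exact ⟨e1, by omega, e2⟩
  nlinarith

/-- The values on seven characters. -/
theorem values_bound {ι : Type*} [DecidableEq ι] (s : Finset ι) (d : ι → ℤ) (D : ℤ)
    (hD : 2 ∣ D + 1) (hD0 : 0 < D) (hcard : (s.filter fun i => d i ≠ 0).card ≤ 7)
    (hge : ∀ i ∈ s, -1 ≤ d i) (hsum : ∑ i ∈ s, d i = -D)
    (hsq : ∑ i ∈ s, d i * d i = 8 * D - 1) : D = 1 := by
  set F := s.filter fun i => d i ≠ 0 with hF
  have h1 : ∑ i ∈ F, d i = -D := by rw [hF, Finset.sum_filter_ne_zero, hsum]
  have h2 : ∑ i ∈ F, d i * d i = 8 * D - 1 := by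
    rw [← hsq, hF, Finset.sum_filter]
    refine Finset.sum_congr rfl fun i _ => ?_
    split_ifs with h
    · rfl
    · simp at h; rw [h]; rfl
  have h3 : ∑ i ∈ F, (d i + 1) ^ 2 ≤ (∑ i ∈ F, (d i + 1)) ^ 2 :=
    Finset.sum_sq_le_sq_sum_of_nonneg fun i hi => by have := hge i (Finset.mem_filter.1 hi).1; omega
  have e1 : ∑ i ∈ F, (d i + 1) = (F.card : ℤ) - D := by
    rw [Finset.sum_add_distrib, h1, Finset.sum_const, nsmul_eq_mul, mul_one]; ring
  have e2 : ∑ i ∈ F, (d i + 1) ^ 2 = 6 * D - 1 + (F.card : ℤ) := by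
    have : ∀ i ∈ F, (d i + 1) ^ 2 = d i * d i + 2 * d i + 1 := fun i _ => by ring
    rw [Finset.sum_congr rfl this, Finset.sum_add_distrib, Finset.sum_add_distrib, h2,
      ← Finset.mul_sum, h1, Finset.sum_const, nsmul_eq_mul, mul_one]
    ring
  have h0 : 0 ≤ ∑ i ∈ F, (d i + 1) :=
    Finset.sum_nonneg fun i hi => by have := hge i (Finset.mem_filter.1 hi).1; omega
  rw [e1] at h0
  rw [e1, e2] at h3
  have hc : (F.card : ℤ) ≤ 7 := by exact_mod_cast hcard
  by_contra hne
  have h4 : 3 ≤ D := by omega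
  nlinarith

variable {G : Type u} [Group G] [Fintype G] {M : Ideal AlgInt} [hMp : M.IsPrime]
  {P : Sylow 2 G} {v s r : G} {K : ℤ}

namespace Setup

variable (S : Setup M P v s r K)
include S

theorem reg_outside (hM : IsPModular 2 M) (h8 : Nat.card (P : Subgroup G) = 8)
    {t : G} (ht : t ∈ (P : Subgroup G)) (ht1 : t ≠ 1) (hts : t ≠ s) {n : G} (hn : n ∈ stab P s)
    (hnt : n * t = t * n) : n ∈ Subgroup.centralizer ((P : Subgroup G) : Set G) := by
  set U := stab P s ⊓ C[t] with hU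
  set Fx := ((P : Subgroup G) ⊓ Subgroup.centralizer (U : Set G) : Subgroup G) with hFx
  have h := S.fix_pow' hM U inf_le_left
  rw [h8, ← hFx] at h
  have hsF : s ∈ Fx := ⟨S.sP, fun w hw => Subgroup.mem_centralizer_singleton_iff.1 hw.1.2⟩
  have htF : t ∈ Fx := ⟨ht, fun w hw => Subgroup.mem_centralizer_singleton_iff.1 hw.2⟩
  have hL : 3 ≤ Nat.card Fx := by
    classical
    refine le_trans ?_ (Finset.card_le_card (s := ({1, s, t} : Finset G))
      (t := (Fx : Set G).toFinset) ?_ |>.trans (le_of_eq ?_))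
    · rw [Finset.card_insert_of_notMem (by simp [Ne.symm ht1, Ne.symm S.ne_one]),
        Finset.card_insert_of_notMem (by simp [Ne.symm hts]), Finset.card_singleton]
    · intro x hx
      simp only [Finset.mem_insert, Finset.mem_singleton] at hx
      rw [Set.mem_toFinset]
      rcases hx with rfl | rfl | rfl
      · exact one_mem _
      · exact hsF
      · exact htF
    · rw [← Set.ncard_eq_toFinset_card', ← Nat.card_coe_set_eq]; rfl
  have he : (Subgroup.centralizer ((P : Subgroup G) : Set G)).relIndex U = 1 := by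
    have h0 : (Subgroup.centralizer ((P : Subgroup G) : Set G)).relIndex U ≠ 0 :=
      Subgroup.index_ne_zero_of_finite
    by_contra hne
    have h2 : Nat.card Fx ^ 2 ≤ 8 := h ▸ Nat.pow_le_pow_right (by omega) (by omega)
    nlinarith
  exact Subgroup.relIndex_eq_one.1 he ⟨hn, Subgroup.mem_centralizer_singleton_iff.2 hnt⟩

theorem cover (hM : IsPModular 2 M) (h8 : Nat.card (P : Subgroup G) = 8)
    (h3 : (Subgroup.centralizer ((P : Subgroup G) : Set G)).relIndex (stab P s) = 3)
    {t w : G} (ht : t ∈ (P : Subgroup G)) (ht1 : t ≠ 1) (hts : t ≠ s)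
    (hw : w ∈ (P : Subgroup G)) (hw1 : w ≠ 1) (hws : w ≠ s) :
    ∃ n ∈ stab P s, n * t * n⁻¹ = w ∨ n * t * n⁻¹ = w * s := by
  classical
  haveI : Fact (Nat.Prime 2) := ⟨Nat.prime_two⟩
  haveI := S.h.comm hM P
  have hss : s * s = 1 := S.h.sq_one hM P S.sP
  set K' := (Subgroup.centralizer ((P : Subgroup G) : Set G)).subgroupOf (stab P s) with hK'
  haveI : Fintype (stab P s ⧸ K') := Fintype.ofFinite _
  let φ : stab P s ⧸ K' → G := fun x => ((Quotient.out x : stab P s) : G) * t *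
    ((Quotient.out x : stab P s) : G)⁻¹
  have hmemP : ∀ n ∈ stab P s, ∀ x ∈ (P : Subgroup G), n * x * n⁻¹ ∈ (P : Subgroup G) :=
    fun n hn x hx => (Subgroup.mem_normalizer_iff.1 hn.1 x).1 hx
  have hns : ∀ n ∈ stab P s, n * s * n⁻¹ = s := fun n hn => stab_fix hn
  have hkey : ∀ a ∈ stab P s, ∀ b ∈ stab P s, a * t * a⁻¹ ≠ b * t * b⁻¹ * s := by
    intro a ha b hb e
    have hd : b⁻¹ * a ∈ stab P s := mul_mem (inv_mem hb) ha
    have e1 : b⁻¹ * a * t * (b⁻¹ * a)⁻¹ = t * s := by
      calc b⁻¹ * a * t * (b⁻¹ * a)⁻¹ = b⁻¹ * (a * t * a⁻¹) * b := by group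
        _ = b⁻¹ * (b * t * b⁻¹ * s) * b := by rw [e]
        _ = t * (b⁻¹ * s * b⁻¹⁻¹) := by group
        _ = t * s := by rw [hns b⁻¹ (inv_mem hb)]
    set d := b⁻¹ * a with hd'
    have e2 : d ^ 2 * t = t * d ^ 2 := by
      apply mul_inv_eq_iff_eq_mul.1
      calc d ^ 2 * t * (d ^ 2)⁻¹ = d * (d * t * d⁻¹) * d⁻¹ := by rw [pow_two]; group
        _ = d * (t * s) * d⁻¹ := by rw [e1]
        _ = (d * t * d⁻¹) * (d * s * d⁻¹) := by group
        _ = t * s * s := by rw [e1, hns d hd]
        _ = t := by rw [mul_assoc, hss, mul_one]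
    have h1 := H85.AbTwo.mem_cent_of_sq P hd.1 (S.reg_outside hM h8 ht ht1 hts (pow_mem hd 2) e2)
    have e3 : d * t * d⁻¹ = t := by rw [← h1 t ht, mul_inv_cancel_right]
    rw [e3] at e1
    exact S.ne_one (left_eq_mul.1 e1)
  have hinj : Function.Injective φ := by
    intro x y hxy
    rw [← QuotientGroup.out_eq' x, ← QuotientGroup.out_eq' y]
    refine QuotientGroup.eq.2 ?_
    set a : stab P s := Quotient.out x
    set b : stab P s := Quotient.out y
    show ((a⁻¹ * b : stab P s) : G) ∈ Subgroup.centralizer ((P : Subgroup G) : Set G)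
    refine S.reg_outside hM h8 ht ht1 hts (a⁻¹ * b).2 ?_
    have e : (a : G) * t * (a : G)⁻¹ = (b : G) * t * (b : G)⁻¹ := hxy
    show (a : G)⁻¹ * (b : G) * t = t * ((a : G)⁻¹ * b)
    calc (a : G)⁻¹ * (b : G) * t = (a : G)⁻¹ * ((b : G) * t * (b : G)⁻¹) * b := by group
      _ = (a : G)⁻¹ * ((a : G) * t * (a : G)⁻¹) * b := by rw [e]
      _ = _ := by group
  set O : Finset G := Finset.univ.image φ with hO
  have hOc : O.card = 3 := by
    rw [hO, Finset.card_image_of_injective _ hinj, Finset.card_univ, ← Nat.card_eq_fintype_card]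
    exact h3
  set O' : Finset G := O.image fun x => x * s with hO'
  have hdisj : Disjoint O O' := by
    rw [Finset.disjoint_left]
    intro x hx hx'
    obtain ⟨a, -, rfl⟩ := Finset.mem_image.1 hx
    obtain ⟨y, hy, hxy⟩ := Finset.mem_image.1 hx'
    obtain ⟨b, -, rfl⟩ := Finset.mem_image.1 hy
    exact hkey _ (Quotient.out a).2 _ (Quotient.out b).2 hxy.symm
  have hsub : O ∪ O' ⊆ ((P : Subgroup G) : Set G).toFinset \ ({1, s} : Finset G) := by
    have h0 : ∀ x ∈ O, x ∈ (P : Subgroup G) ∧ x ≠ 1 ∧ x ≠ s := by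
      intro x hx
      obtain ⟨a, -, rfl⟩ := Finset.mem_image.1 hx
      refine ⟨hmemP _ (Quotient.out a).2 t ht, fun e => ht1 (conj_eq_one_iff.1 e), fun e => hts ?_⟩
      exact mul_left_cancel (mul_right_cancel (e.trans (hns _ (Quotient.out a).2).symm))
    intro x hx
    rw [Finset.mem_sdiff, Set.mem_toFinset]
    simp only [Finset.mem_insert, Finset.mem_singleton, not_or]
    rcases Finset.mem_union.1 hx with hx | hx
    · exact h0 x hx
    · obtain ⟨y, hy, rfl⟩ := Finset.mem_image.1 hx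
      obtain ⟨hyP, hy1, hys⟩ := h0 y hy
      refine ⟨mul_mem hyP S.sP, fun e => hys ?_, fun e => hy1 (mul_eq_right.1 e)⟩
      rw [mul_eq_one_iff_eq_inv] at e
      rw [e, inv_eq_of_mul_eq_one_right hss]
  have heq : O ∪ O' = ((P : Subgroup G) : Set G).toFinset \ ({1, s} : Finset G) := by
    refine Finset.eq_of_subset_of_card_le hsub ?_
    rw [Finset.card_union_of_disjoint hdisj, Finset.card_image_of_injective _
      (mul_left_injective s), hOc, Finset.card_sdiff_of_subset (fun x hx => ?_),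
      Finset.card_insert_of_notMem (by simp [Ne.symm S.ne_one]), Finset.card_singleton,
      ← Set.ncard_eq_toFinset_card', ← Nat.card_coe_set_eq]
    · show Nat.card (P : Subgroup G) - 2 ≤ 6
      omega
    · simp only [Finset.mem_insert, Finset.mem_singleton] at hx
      rw [Set.mem_toFinset]
      rcases hx with rfl | rfl
      · exact one_mem _
      · exact S.sP
  have hwm : w ∈ O ∪ O' := by
    rw [heq, Finset.mem_sdiff, Set.mem_toFinset]
    exact ⟨hw, by simp [hw1, hws]⟩
  rcases Finset.mem_union.1 hwm with hx | hx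
  · obtain ⟨a, -, rfl⟩ := Finset.mem_image.1 hx
    exact ⟨_, (Quotient.out a).2, Or.inl rfl⟩
  · obtain ⟨y, hy, rfl⟩ := Finset.mem_image.1 hx
    obtain ⟨a, -, rfl⟩ := Finset.mem_image.1 hy
    exact ⟨_, (Quotient.out a).2, Or.inr (show φ a = φ a * s * s by
      rw [mul_assoc (φ a) s s, hss, mul_one])⟩

/-- At most seven nontrivial characters do not vanish at the element. -/
theorem card_support_le (hM : IsPModular 2 M) [Fintype (C[s] : Subgroup G)]
    {Q : Sylow 2 (C[s] : Subgroup G)} {z t : (C[s] : Subgroup G)}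
    (D : Central8 M Q z t) [DecidableEq (IrrCharacter G)] :
    ((nt M G).filter fun χ => dg χ - K ≠ 0).card ≤ 7 := by
  classical
  haveI : Fact (Nat.Prime 2) := ⟨Nat.prime_two⟩
  obtain ⟨h4, τ, hτ⟩ := D.halves hM
  set o := H12.oneIrr (C[s] : Subgroup G) with ho
  have hoB : o ∈ Bp M z := mem_Bp.2 ⟨H20.mem_blockOf_self (M := M) o, rfl⟩
  set ε : IrrCharacter (C[s] : Subgroup G) → ℤ := fun ψ => H85.AbTwo.dv t ψ with hε
  have hε1 : ε o = 1 := H85.AbTwo.dv_one D.t2
  have hee : ∀ ψ ∈ Bp M z, ε ψ * ε ψ = 1 := fun ψ hψ => D.value_sq hM (mem_Bp.1 hψ).1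
  set T := (Bp M z).erase o with hT
  have hT3 : T.card = 3 := by rw [hT, Finset.card_erase_of_mem hoB, h4]
  set xf : IrrCharacter (C[s] : Subgroup G) → (C[s] : Subgroup G) → ℂ :=
    fun ψ y => (ε ψ : ℂ) * (ψ : _ → ℂ) y with hxf
  have hrel : ∀ y : (C[s] : Subgroup G), ¬ 2 ∣ orderOf y → ∑ ψ ∈ T, xf ψ y = -1 := by
    intro y hy
    have h := D.relation hM hy
    rw [← Finset.add_sum_erase _ _ hoB, ← hT] at h
    change (ε o : ℂ) * (o : _ → ℂ) y + ∑ ψ ∈ T, xf ψ y = 0 at h
    rw [hε1, Int.cast_one, one_mul, ho, H12.oneIrr_apply] at h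
    linear_combination h
  -- reduce the coefficients
  have hex : ∀ χ : IrrCharacter G, ∃ w : IrrCharacter (C[s] : Subgroup G) → ℤ,
      χ ∈ principalBlock M G → ∀ y : (C[s] : Subgroup G), ¬ 2 ∣ orderOf y →
        (χ : G → ℂ) (s * (y : G)) = ∑ ψ ∈ T, (w ψ : ℂ) * xf ψ y := by
    intro χ
    by_cases hχ : χ ∈ principalBlock M G
    swap
    · exact ⟨0, fun h => absurd h hχ⟩
    obtain ⟨c, hc⟩ := S.exists_coeff hM hχ
    refine ⟨fun ψ => (c ψ + c (τ ψ)) * ε ψ - (c o + c (τ o)), fun _ y hy => ?_⟩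
    rw [hc y hy, (hτ fun ψ => (c ψ : ℂ) * (ψ : _ → ℂ) y).1, ← Finset.add_sum_erase _ _ hoB, ← hT,
      (hτ fun _ => 0).2 o y hy, ho, H12.oneIrr_apply, ← ho]
    have e : ∀ ψ ∈ T, ((c ψ : ℂ) * (ψ : _ → ℂ) y + (c (τ ψ) : ℂ) * (τ ψ : _ → ℂ) y) =
        (((c ψ + c (τ ψ)) * ε ψ - (c o + c (τ o)) : ℤ) : ℂ) * xf ψ y +
          ((c o + c (τ o) : ℤ) : ℂ) * xf ψ y := by
      intro ψ hψ
      rw [(hτ fun _ => 0).2 ψ y hy]
      have h1 : (ε ψ : ℂ) * (ε ψ : ℂ) = 1 := by exact_mod_cast hee ψ (Finset.mem_of_mem_erase hψ)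
      simp only [hxf]
      push_cast
      linear_combination (-(((c ψ : ℂ) + (c (τ ψ) : ℂ)) * (ψ : _ → ℂ) y)) * h1
    rw [Finset.sum_congr rfl e, Finset.sum_add_distrib, ← Finset.mul_sum, hrel y hy]
    push_cast
    ring
  choose w hw using hex
  set B := H22.blockFinset (principalBlock M G) with hB
  set E : IrrCharacter (C[s] : Subgroup G) → IrrCharacter (C[s] : Subgroup G) → ℤ :=
    fun i j => (∑ χ ∈ B, w χ i * w χ j) - 2 - (if i = j then 2 else 0) with hE
  have hzero : ∀ y y' : (C[s] : Subgroup G), ¬ 2 ∣ orderOf y → ¬ 2 ∣ orderOf y' →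
      ∑ i ∈ T, (∑ j ∈ T, (E i j : ℂ) * conj (xf j y')) * xf i y = 0 := by
    intro y y' hy hy'
    have h1 := H22.Sub.principal_section_orth hM S.pow_two' y y' hy hy'
    rw [(hτ fun ψ => (ψ : _ → ℂ) y * conj ((ψ : _ → ℂ) y')).1] at h1
    have h2 : ∀ ψ ∈ Bp M z, (ψ : _ → ℂ) y * conj ((ψ : _ → ℂ) y') +
        (τ ψ : _ → ℂ) y * conj ((τ ψ : _ → ℂ) y') = 2 * (xf ψ y * conj (xf ψ y')) := by
      intro ψ hψ
      rw [(hτ fun _ => 0).2 ψ y hy, (hτ fun _ => 0).2 ψ y' hy']
      have h1 : (ε ψ : ℂ) * (ε ψ : ℂ) = 1 := by exact_mod_cast hee ψ hψ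
      simp only [hxf, map_mul, map_intCast]
      linear_combination (-2 * ((ψ : _ → ℂ) y * conj ((ψ : _ → ℂ) y'))) * h1
    rw [Finset.sum_congr rfl h2, ← Finset.add_sum_erase _ _ hoB, ← hT] at h1
    have ho1 : ∀ y, xf o y = 1 := fun y => by
      simp only [hxf, hε1, Int.cast_one, one_mul]; rw [ho, H12.oneIrr_apply]
    rw [ho1, ho1, map_one, mul_one, Finset.sum_congr rfl fun χ hχ => by
      rw [hw χ (H22.mem_blockFinset.1 hχ) y hy, hw χ (H22.mem_blockFinset.1 hχ) y' hy', map_sum,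
        Finset.sum_mul_sum]] at h1
    rw [Finset.sum_comm] at h1
    have h3 : (2 : ℂ) = 2 * (∑ i ∈ T, xf i y) * conj (∑ j ∈ T, xf j y') := by
      rw [hrel y hy, hrel y' hy', map_neg, map_one]; ring
    have h4 : ∀ i ∈ T, (∑ χ ∈ B, ∑ j ∈ T, (w χ i : ℂ) * xf i y * conj ((w χ j : ℂ) * xf j y')) -
        (2 * xf i y * conj (∑ j ∈ T, xf j y')) - 2 * (xf i y * conj (xf i y')) =
          (∑ j ∈ T, (E i j : ℂ) * conj (xf j y')) * xf i y := by
      intro i hi
      rw [Finset.sum_comm, map_sum, Finset.mul_sum, ← Finset.sum_sub_distrib,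
        Finset.sum_mul,
        show 2 * (xf i y * conj (xf i y')) =
          ∑ j ∈ T, (if i = j then 2 else 0 : ℂ) * (xf i y * conj (xf j y')) by
            simp [ite_mul, hi],
        ← Finset.sum_sub_distrib]
      refine Finset.sum_congr rfl fun j _ => ?_
      rw [hE]
      push_cast
      rw [sub_mul, sub_mul, sub_mul, sub_mul, Finset.sum_mul, Finset.sum_mul]
      congr 1
      · congr 1
        · exact Finset.sum_congr rfl fun χ _ => by rw [map_mul, map_intCast]; ring
        · ring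
      · split_ifs <;> ring
    rw [← Finset.sum_congr rfl h4, Finset.sum_sub_distrib, Finset.sum_sub_distrib,
      ← Finset.sum_mul, ← Finset.mul_sum, ← Finset.mul_sum, ← h3]
    rw [← Finset.mul_sum] at h1
    linear_combination h1
  have hEzero : ∀ i ∈ T, ∀ j ∈ T, E i j = 0 := by
    intro i hi j hj
    have h1 : ∀ y' : (C[s] : Subgroup G), ¬ 2 ∣ orderOf y' →
        ∑ j ∈ T, (E i j : ℂ) * conj (xf j y') = 0 := by
      intro y' hy'
      have h2 := D.indep hM (fun i => (∑ j ∈ T, (E i j : ℂ) * conj (xf j y')) * (ε i : ℂ))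
        (fun y hy => by
          rw [← hzero y y' hy hy']
          exact Finset.sum_congr rfl fun i _ => by simp only [hxf]; ring) i hi
      exact (mul_eq_zero.1 h2).resolve_right fun h0 => by
        have := hee i (Finset.mem_of_mem_erase hi)
        rw [Int.cast_eq_zero.1 h0] at this
        norm_num at this
    have h3 := D.indep hM (fun j => (E i j : ℂ) * (ε j : ℂ)) (fun y' hy' => by
      have := congrArg conj (h1 y' hy')
      rw [map_sum, map_zero] at this
      rw [← this]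
      exact Finset.sum_congr rfl fun j _ => by
        simp only [hxf, map_mul, map_intCast, Complex.conj_conj]; ring) j hj
    rw [mul_eq_zero] at h3
    refine Int.cast_eq_zero.1 (h3.resolve_right fun h0 => ?_)
    have := hee j (Finset.mem_of_mem_erase hj)
    rw [Int.cast_eq_zero.1 h0] at this
    norm_num at this
  obtain ⟨a, b, c, hab, hac, hbc, hTabc⟩ := Finset.card_eq_three.1 hT3
  have hma : a ∈ T := by rw [hTabc]; simp
  have hmb : b ∈ T := by rw [hTabc]; simp
  have hmc : c ∈ T := by rw [hTabc]; simp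
  set f : IrrCharacter G → ℤ := fun χ => w χ a * w χ a + w χ b * w χ b + w χ c * w χ c -
    w χ a * w χ b - w χ b * w χ c with hf
  have htot : ∑ χ ∈ B, f χ = 8 := by
    have := hEzero a hma a hma
    have := hEzero b hmb b hmb
    have := hEzero c hmc c hmc
    have := hEzero a hma b hmb
    have := hEzero b hmb c hmc
    simp only [hE, if_true, if_neg hab, if_neg hbc] at *
    simp only [hf, Finset.sum_sub_distrib, Finset.sum_add_distrib]
    omega
  set Z := insert (H12.oneIrr G) ((nt M G).filter fun χ => dg χ - K ≠ 0) with hZ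
  have hZB : Z ⊆ B := by
    intro χ hχ
    rcases Finset.mem_insert.1 hχ with rfl | hχ
    · exact H22.mem_blockFinset.2 (H20.mem_blockOf_self (M := M) (H12.oneIrr G))
    · exact H22.mem_blockFinset.2 (mem_nt.1 (Finset.mem_filter.1 hχ).1).2
  have hpos : ∀ χ ∈ Z, 1 ≤ f χ := by
    intro χ hχ
    refine form_pos _ _ _ fun h0 => ?_
    have hval := hw χ (H22.mem_blockFinset.1 (hZB hχ)) S.rC S.rC_odd
    rw [hTabc, Finset.sum_insert (by simp [hab, hac]), Finset.sum_insert (by simp [hbc]),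
      Finset.sum_singleton, h0.1, h0.2.1, h0.2.2] at hval
    have hval' : (χ : G → ℂ) v = 0 := by
      rw [← S.eq]; simpa [rC] using hval
    rcases Finset.mem_insert.1 hχ with rfl | hχ
    · rw [H12.oneIrr_apply] at hval'; exact one_ne_zero hval'
    · obtain ⟨hχn, hne⟩ := Finset.mem_filter.1 hχ
      rw [S.h.eq χ hχn] at hval'
      exact hne (by exact_mod_cast hval')
  have hnn : ∀ χ ∈ B, 0 ≤ f χ := by
    intro χ _
    by_cases h0 : w χ a = 0 ∧ w χ b = 0 ∧ w χ c = 0
    · simp only [hf, h0.1, h0.2.1, h0.2.2]; norm_num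
    · exact le_trans (by norm_num) (form_pos _ _ _ h0)
  have hle : (Z.card : ℤ) ≤ 8 := by
    calc (Z.card : ℤ) = ∑ χ ∈ Z, (1 : ℤ) := by simp
      _ ≤ ∑ χ ∈ Z, f χ := Finset.sum_le_sum hpos
      _ ≤ ∑ χ ∈ B, f χ := Finset.sum_le_sum_of_subset_of_nonneg hZB fun χ h _ => hnn χ h
      _ = 8 := htot
  rw [hZ, Finset.card_insert_of_notMem fun h => (mem_nt.1 (Finset.mem_filter.1 h).1).1 rfl] at hle
  omega

/-- The centralizer of the involution is solvable. -/
theorem solvable (hM : IsPModular 2 M) : Group.IsSolvable (C[s] : Subgroup G) := by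
  classical
  haveI : Fact (Nat.Prime 2) := ⟨Nat.prime_two⟩
  haveI hc := S.h.comm hM P
  by_contra hns
  obtain ⟨h8, h3⟩ := nonsolvable_data P (fun _ hx => S.h.sq_one hM P hx) (S.trans' hM) S.sP
    S.ne_one hns
  haveI : Fintype (C[s] : Subgroup G) := Fintype.ofFinite _
  have hPC : (P : Subgroup G) ≤ C[s] := H85.AbTwo.le_cent P S.sP
  obtain ⟨t, ht, ht1, hts⟩ : ∃ t ∈ (P : Subgroup G), t ≠ 1 ∧ t ≠ s := by
    by_contra hcon
    push Not at hcon
    have hle : (P : Subgroup G) ≤ Subgroup.zpowers s := fun w hw => by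
      by_cases h1 : w = 1
      · rw [h1]; exact one_mem _
      · rw [hcon w hw h1]; exact Subgroup.mem_zpowers s
    have := Subgroup.card_le_of_le hle
    rw [Nat.card_zpowers, S.two, h8] at this
    omega
  let z : (C[s] : Subgroup G) := ⟨s, hPC S.sP⟩
  let t' : (C[s] : Subgroup G) := ⟨t, hPC ht⟩
  set Q := P.subtype hPC with hQ
  have hQc : IsMulCommutative Q := ⟨⟨fun a b => Subtype.ext (Subtype.ext
    (congrArg Subtype.val (hc.is_comm.comm ⟨_, a.2⟩ ⟨_, b.2⟩) :))⟩⟩
  have hQN : ∀ n : (C[s] : Subgroup G),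
      n ∈ Subgroup.normalizer ((Q : Subgroup (C[s] : Subgroup G)) : Set _) ↔ (n : G) ∈ stab P s := by
    intro n
    constructor
    · intro hn
      refine ⟨?_, n.2⟩
      show (n : G) ∈ Subgroup.normalizer ((P : Subgroup G) : Set G)
      rw [Subgroup.mem_normalizer_iff]
      intro x
      constructor
      · intro hx; exact (Subgroup.mem_normalizer_iff.1 hn ⟨x, hPC hx⟩).1 hx
      · intro hx
        have hxC : x ∈ (C[s] : Subgroup G) := by
          have := mul_mem (mul_mem (inv_mem n.2) (hPC hx)) n.2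
          simpa [mul_assoc] using this
        exact (Subgroup.mem_normalizer_iff.1 hn ⟨x, hxC⟩).2 hx
    · intro hn
      exact Subgroup.mem_normalizer_iff.2 fun x => Subgroup.mem_normalizer_iff.1 hn.1 (x : G)
  have D : Central8 M Q z t' :=
    { comm := hQc
      sq := fun x hx => Subtype.ext (S.h.sq_one hM P hx)
      card := by
        rw [← h8]; exact Nat.card_congr (Subgroup.subgroupOfEquivOfLe hPC).toEquiv
      zQ := S.sP
      z2 := by rw [Subgroup.orderOf_mk]; exact S.two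
      zc := Subgroup.mem_center_iff.2 fun g =>
        Subtype.ext (Subgroup.mem_centralizer_singleton_iff.1 g.2)
      tQ := ht
      t2 := by
        rw [Subgroup.orderOf_mk]
        exact S.h.orderOf_two hM (H20.FreeSylow.orderOf_eq_pow ht) ht1
      tz := fun e => hts (congrArg Subtype.val e)
      reg := fun x hx hx1 hxz n hn hnx => by
        have h1 := S.reg_outside hM h8 (t := (x : G)) hx (fun e => hx1 (Subtype.ext e))
          (fun e => hxz (Subtype.ext e)) ((hQN n).1 hn)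
          (mul_inv_eq_iff_eq_mul.1 (congrArg Subtype.val hnx :))
        exact fun y hy => Subtype.ext (h1 (y : G) hy)
      trans := fun x hx hx1 hxz => by
        obtain ⟨n, hn, h⟩ := S.cover hM h8 h3 ht ht1 hts (w := (x : G)) hx
          (fun e => hx1 (Subtype.ext e)) (fun e => hxz (Subtype.ext e))
        exact ⟨⟨n, hn.2⟩, h.imp (fun e => Subtype.ext e) fun e => Subtype.ext e⟩ }
  have hK : K = 8 := by rw [S.K_eq hM, h8]; norm_num
  subst hK
  have hcard := S.card_support_le hM D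
  have hD := values_bound (nt M G) (fun χ => dg χ - 8) _ (S.odd_defect hM) (S.h.defect_pos hM)
    (by exact hcard) (fun χ hχ => by have := S.dg_ge hM hχ; omega) S.sum_vals (S.sum_vals_sq hM)
  have hsq := S.sum_vals_sq hM
  rw [hD] at hsq
  have hdv : ∀ χ ∈ nt M G, (χ : G → ℂ) s = (χ : G → ℂ) v := by
    intro χ hχ
    have h1 : (dg χ - 8) * (dg χ - 8) ≤ ∑ φ ∈ nt M G, (dg φ - 8) * (dg φ - 8) :=
      Finset.single_le_sum (f := fun φ => (dg φ - 8) * (dg φ - 8))
        (fun φ _ => mul_self_nonneg _) hχ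
    rw [hsq] at h1
    have h2 : dg χ ≤ 10 := by nlinarith
    obtain ⟨m, hm1, hdv, hdm⟩ := S.h.exists_drop S.sP S.two hM hχ
    rw [h8] at hdv hdm
    have hm : m = 1 := by push_cast at hdm; omega
    rw [S.h.eq χ hχ, H85.AbTwo.dv_eq S.two, hdv, hm]
    norm_num
  have hsum : ∑ ψ ∈ H22.blockFinset (principalBlock M (C[s] : Subgroup G)),
      (ψ : (C[s] : Subgroup G) → ℂ) 1 * conj ((ψ : (C[s] : Subgroup G) → ℂ) 1) = ((8 : ℤ) : ℂ) := by
    rw [← S.section_norm hM 1 (by rw [orderOf_one]; norm_num)]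
    have h1 := S.h.norm_sum hM
    rw [hD, mul_one] at h1
    rw [← h1]
    refine Finset.sum_congr rfl fun χ hχ => ?_
    rw [OneMemClass.coe_one, mul_one]
    by_cases h1 : χ = H12.oneIrr G
    · rw [h1, H12.oneIrr_apply, H12.oneIrr_apply]
    · rw [hdv χ (mem_nt.2 ⟨h1, H22.mem_blockFinset.1 hχ⟩)]
  have hsum' : ∑ ψ ∈ H22.blockFinset (principalBlock M (C[s] : Subgroup G)), dg ψ * dg ψ = 8 := by
    apply Int.cast_injective (α := ℂ)
    rw [← hsum, Int.cast_sum]
    refine Finset.sum_congr rfl fun ψ _ => ?_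
    rw [dg_eq, map_intCast, Int.cast_mul]
  have hlin : ∀ ψ ∈ principalBlock M (C[s] : Subgroup G), (ψ : (C[s] : Subgroup G) → ℂ) 1 = 1 := by
    intro ψ hψ
    have hge : ∀ φ ∈ H22.blockFinset (principalBlock M (C[s] : Subgroup G)),
        (1 : ℤ) ≤ dg φ * dg φ := fun φ _ => by have := dg_pos φ; nlinarith
    have heq : ∑ φ ∈ H22.blockFinset (principalBlock M (C[s] : Subgroup G)), (1 : ℤ) =
        ∑ φ ∈ H22.blockFinset (principalBlock M (C[s] : Subgroup G)), dg φ * dg φ := by
      rw [hsum', Finset.sum_const, D.card_block hM]; norm_num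
    have := (Finset.sum_eq_sum_iff_of_le hge).1 heq ψ (H22.mem_blockFinset.2 hψ)
    have h1 := dg_pos ψ
    rw [dg_eq, show dg ψ = 1 by nlinarith, Int.cast_one]
  apply hns
  set O := pPrimeCore 2 (C[s] : Subgroup G) with hO
  haveI := H1.pPrimeCore_normal' 2 (C[s] : Subgroup G)
  have hcomm : commutator (C[s] : Subgroup G) ≤ O := by
    intro g hg
    refine H60.PLenRestrict.mem_pPrimeCore_of_kernel hM fun ψ hψ => ?_
    obtain ⟨f, hf⟩ := H12.exists_monoidHom_of_apply_one_eq_one (H12.isCharacter_irr ψ) (hlin ψ hψ)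
    have h1 : f g = 1 := (Abelianization.commutator_subset_ker f) hg
    rw [← hf]
    simp [h1]
  haveI : Group.IsSolvable O := H16.FT.oddOrder (Nat.not_even_iff_odd.1 fun he =>
    (Nat.prime_two.coprime_iff_not_dvd).1 (H1.card_pPrimeCore_coprime 2 _).symm
      (even_iff_two_dvd.1 he))
  haveI : Group.IsSolvable ((C[s] : Subgroup G) ⧸ O) := Group.isSolvable_of_comm fun a b => by
    obtain ⟨a, rfl⟩ := QuotientGroup.mk'_surjective O a
    obtain ⟨b, rfl⟩ := QuotientGroup.mk'_surjective O b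
    rw [← commutatorElement_eq_one_iff_mul_comm, ← map_commutatorElement]
    exact (QuotientGroup.eq_one_iff _).2
      (hcomm (Subgroup.commutator_mem_commutator (Subgroup.mem_top a) (Subgroup.mem_top b)))
  exact Group.isSolvable_of_ker_le_range O.subtype (QuotientGroup.mk' O)
    (by rw [QuotientGroup.ker_mk', Subgroup.range_subtype])

end Setup

end H85.ConstDiff
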