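import Cfsg.Agent.H85.AbTwo.Basic
import Cfsg.Agent.S3360
import Cfsg.Agent.H16.OddOrder
import Mathlib.FieldTheory.Fixed

/-!
Automizers of an elementary abelian Sylow 2-subgroup transitive on involutions: the fixed points
of a subgroup fixing an involution form a subfield (helper85).
-/

set_option autoImplicit false
set_option linter.style.haveILetI false
set_option linter.unusedSectionVars false

open Cfsg

namespace H85.ConstDiff

universe u

variable {G : Type u} [Group G] [Finite G]

/-- The fixed points in `P` of a group fixing `s` have order a root of `|P|` of degree the order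
of the induced group. -/
theorem fix_pow (P : Sylow 2 G) (hE : ∀ x ∈ (P : Subgroup G), x * x = 1)
    (htr : ∀ x ∈ (P : Subgroup G), ∀ y ∈ (P : Subgroup G), x ≠ 1 → y ≠ 1 →
      ∃ n ∈ Subgroup.normalizer ((P : Subgroup G) : Set G), n * x * n⁻¹ = y)
    {s : G} (hs : s ∈ (P : Subgroup G)) (hs1 : s ≠ 1) (U : Subgroup G)
    (hU : U ≤ Subgroup.normalizer ((P : Subgroup G) : Set G))
    (hUs : ∀ n ∈ U, n * s * n⁻¹ = s) :
    Nat.card ((P : Subgroup G) ⊓ Subgroup.centralizer (U : Set G) : Subgroup G) ^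
      (Subgroup.centralizer ((P : Subgroup G) : Set G)).relIndex U =
        Nat.card (P : Subgroup G) := by
  classical
  haveI : Fact (Nat.Prime 2) := ⟨Nat.prime_two⟩
  set N := Subgroup.normalizer ((P : Subgroup G) : Set G) with hN
  have hinv : ∀ x : G, x ∈ (P : Subgroup G) → x⁻¹ = x := fun x hx =>
    inv_eq_of_mul_eq_one_right (hE x hx)
  haveI hc : IsMulCommutative (P : Subgroup G) := ⟨⟨fun a b => Subtype.ext (by
    show (a : G) * b = b * a
    rw [← hinv _ (mul_mem a.2 b.2), mul_inv_rev, hinv _ a.2, hinv _ b.2])⟩⟩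
  set Q : Subgroup N := (P : Subgroup G).subgroupOf N with hQ
  haveI hQn : Q.Normal := Subgroup.normal_subgroupOf_iff Subgroup.le_normalizer |>.2
    (fun a b ha hb => (Subgroup.mem_normalizer_iff.1 hb a).1 ha)
  letI : CommGroup Q := { (inferInstance : Group Q) with
    mul_comm := fun a b => Subtype.ext (Subtype.ext
      (congrArg Subtype.val (hc.is_comm.comm ⟨_, a.2⟩ ⟨_, b.2⟩) :)) }
  letI : Module (ZMod 2) (Additive Q) := AddCommGroup.zmodModule fun x => by
    refine Additive.toMul.injective ?_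
    rw [toMul_nsmul, toMul_zero, pow_two]
    exact Subtype.ext (Subtype.ext (hE _ x.toMul.2))
  let ψ : N →* (Additive Q ≃ₗ[ZMod 2] Additive Q) :=
    { toFun := fun g => (MulEquiv.toAdditive (MulAut.conjNormal g : MulAut Q)).toLinearEquiv
        (ZMod.map_smul (MulEquiv.toAdditive (MulAut.conjNormal g : MulAut Q)))
      map_one' := by ext x; simp
      map_mul' := fun a b => by ext x; simp }
  have hψ : ∀ (g : N) (x : Additive Q),
      (((ψ g x).toMul : N) : G) = (g : G) * ((x.toMul : N) : G) * (g : G)⁻¹ := fun g x => by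
    have := congrArg Subtype.val (MulAut.conjNormal_apply g x.toMul)
    exact this
  let el : ∀ x ∈ (P : Subgroup G), Additive Q := fun x hx =>
    Additive.ofMul ⟨⟨x, Subgroup.le_normalizer hx⟩, hx⟩
  have hel0 : ∀ x hx, el x hx = 0 → x = 1 := fun x hx h =>
    congrArg (fun y : Additive Q => ((y.toMul : N) : G)) h
  haveI : Nontrivial (Additive Q) := ⟨el s hs, 0, fun h => hs1 (hel0 s hs h)⟩
  have htr' : ∀ v w : Additive Q, v ≠ 0 → w ≠ 0 → ∃ h : ψ.range, (ψ.range.subtype h) v = w := by
    intro v w hv hw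
    obtain ⟨n, hn, e⟩ := htr _ v.toMul.2 _ w.toMul.2
      (fun h => hv (Additive.toMul.injective (Subtype.ext (Subtype.ext h))))
      (fun h => hw (Additive.toMul.injective (Subtype.ext (Subtype.ext h))))
    exact ⟨⟨ψ ⟨n, hn⟩, _, rfl⟩, Additive.toMul.injective (Subtype.ext (Subtype.ext
      ((hψ ⟨n, hn⟩ v).trans e)))⟩
  haveI : Finite ψ.range := Finite.of_surjective _ ψ.rangeRestrict_surjective
  have hPC : (P : Subgroup G) ≤ Subgroup.centralizer ((P : Subgroup G) : Set G) :=
    fun w hw v hv => congrArg Subtype.val (hc.is_comm.comm ⟨v, hv⟩ ⟨w, hw⟩)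
  have hsol : Group.IsSolvable ψ.range := by
    refine H16.FT.oddOrder ?_
    have h1 : Nat.card ψ.range ∣ (P : Subgroup G).index := by
      rw [← Nat.card_congr (QuotientGroup.quotientKerEquivRange ψ).toEquiv]
      refine dvd_trans ?_ (Subgroup.relIndex_dvd_index_of_le (Subgroup.le_normalizer (H := (P : Subgroup G))))
      refine dvd_trans ?_ (Subgroup.relIndex_dvd_of_le_left N hPC)
      refine Subgroup.index_dvd_of_le fun g hg => ?_
      rw [MonoidHom.mem_ker]
      refine LinearEquiv.ext fun x => Additive.toMul.injective (Subtype.ext (Subtype.ext ?_))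
      rw [hψ]
      show (g : G) * _ * (g : G)⁻¹ = _
      rw [← (Subgroup.mem_subgroupOf.1 hg) ((x.toMul : N) : G) x.toMul.2, mul_inv_cancel_right]
      rfl
    exact (H85.AbTwo.odd_index P).of_dvd_nat h1
  have hcardQ : Nat.card (Additive Q) = Nat.card (P : Subgroup G) := by
    rw [Nat.card_congr Additive.toMul]
    exact Nat.card_congr (Subgroup.subgroupOfEquivOfLe Subgroup.le_normalizer).toEquiv
  rcases Cfsg.Agent.S3360.result 2 (G := ψ.range) hsol ψ.range.subtype Subtype.val_injective htr'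
    with ⟨F, iF, iFt, e, hsl⟩ | hexc
  rotate_left
  · exfalso
    obtain ⟨j, hj⟩ := IsPGroup.iff_card.1 P.isPGroup'
    rw [hcardQ, hj] at hexc
    rcases j with _ | j
    · simp at hexc
    · simp only [Set.mem_insert_iff, Set.mem_singleton_iff, pow_succ] at hexc
      omega
  set c := e (el s hs) with hc0
  have hc1 : c ≠ 0 := fun h => hs1 (hel0 s hs (e.map_eq_zero_iff.1 h))
  let E : Additive Q → F := fun x => e x / c
  have hEinj : Function.Injective E := fun a b h => e.injective (by
    simpa [E, div_left_inj' hc1] using h)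
  have hEsurj : Function.Surjective E := fun y => ⟨e.symm (y * c), by simp [E, hc1]⟩
  have hEs : E (el s hs) = 1 := div_self hc1
  have hex : ∀ g : U, ∃ σ : F ≃+* F, ∀ x, E (ψ ⟨g, hU g.2⟩ x) = σ (E x) := by
    intro g
    obtain ⟨a, σ, h⟩ := hsl ⟨ψ ⟨g, hU g.2⟩, _, rfl⟩
    have hfix : ψ ⟨g, hU g.2⟩ (el s hs) = el s hs :=
      Additive.toMul.injective (Subtype.ext (Subtype.ext ((hψ _ _).trans (hUs g g.2))))
    have h1 : c = a * σ c := by
      conv_lhs => rw [hc0, ← hfix]
      exact h (el s hs)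
    refine ⟨σ, fun x => ?_⟩
    have h2 : e (ψ ⟨g, hU g.2⟩ x) = a * σ (e x) := h x
    have hσc : σ c ≠ 0 := fun h0 => hc1 (σ.map_eq_zero_iff.1 h0)
    simp only [E]
    rw [h2, map_div₀, div_eq_div_iff hc1 hσc]
    nth_rewrite 2 [h1]
    ring
  choose σ hσ using hex
  have huniq : ∀ (g : U) (τ : F ≃+* F), (∀ x, E (ψ ⟨g, hU g.2⟩ x) = τ (E x)) → τ = σ g := by
    intro g τ h
    refine RingEquiv.ext fun y => ?_
    obtain ⟨x, rfl⟩ := hEsurj y
    rw [← h x, hσ]
  let Φ : U →* (F ≃+* F) := MonoidHom.mk' σ fun g h => (huniq _ _ fun x => by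
    rw [show (⟨((g * h : U) : G), hU (g * h).2⟩ : N) = ⟨g, hU g.2⟩ * ⟨h, hU h.2⟩ from rfl,
      map_mul, LinearEquiv.mul_apply, hσ, hσ]
    rfl).symm
  have hker : Φ.ker = (Subgroup.centralizer ((P : Subgroup G) : Set G)).subgroupOf U := by
    ext g
    rw [MonoidHom.mem_ker, Subgroup.mem_subgroupOf]
    constructor
    · intro hg w hw
      have h1 : σ g = 1 := hg
      have h2 := hσ g (el w hw)
      rw [h1] at h2
      have h3 := congrArg (fun y : Additive Q => ((y.toMul : N) : G))
        (hEinj (show E (ψ ⟨g, hU g.2⟩ (el w hw)) = E (el w hw) from h2))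
      rw [hψ] at h3
      exact (mul_inv_eq_iff_eq_mul.1 h3).symm
    · intro hg
      show σ g = 1
      refine (huniq g 1 fun x => ?_).symm
      rw [show ψ ⟨g, hU g.2⟩ x = x from Additive.toMul.injective (Subtype.ext (Subtype.ext
        ((hψ _ _).trans (by
          show (g : G) * _ * (g : G)⁻¹ = _
          rw [← hg ((x.toMul : N) : G) x.toMul.2, mul_inv_cancel_right]))))]
      rfl
  have hidx : (Subgroup.centralizer ((P : Subgroup G) : Set G)).relIndex U = Nat.card Φ.range := by
    rw [← Nat.card_congr (QuotientGroup.quotientKerEquivRange Φ).toEquiv]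
    show ((Subgroup.centralizer ((P : Subgroup G) : Set G)).subgroupOf U).index = Φ.ker.index
    rw [hker]
  haveI : Finite (F ≃+* F) := Finite.of_injective (fun f => (f : F → F)) DFunLike.coe_injective
  letI : Fintype Φ.range := Fintype.ofFinite _
  have hfix : Nat.card ((P : Subgroup G) ⊓ Subgroup.centralizer (U : Set G) : Subgroup G) =
      Nat.card (FixedPoints.subfield Φ.range F) := by
    refine Nat.card_eq_of_bijective (fun w => ⟨E (el w.1 w.2.1), ?_⟩) ⟨fun a b h => ?_, fun y => ?_⟩
    · rintro ⟨_, g, rfl⟩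
      show σ g (E (el w.1 w.2.1)) = _
      rw [← hσ]
      refine congrArg E (Additive.toMul.injective (Subtype.ext (Subtype.ext ((hψ _ _).trans ?_))))
      show (g : G) * (w : G) * (g : G)⁻¹ = w
      rw [w.2.2 _ g.2, mul_inv_cancel_right]
    · exact Subtype.ext
        (congrArg (fun z : Additive Q => ((z.toMul : N) : G)) (hEinj (congrArg Subtype.val h)))
    · obtain ⟨x, hx⟩ := hEsurj (y : F)
      refine ⟨⟨((x.toMul : N) : G), x.toMul.2, fun g hg => ?_⟩, Subtype.ext hx⟩
      have h1 : σ ⟨g, hg⟩ (E x) = E x := by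
        rw [hx]; exact y.2 ⟨Φ ⟨g, hg⟩, _, rfl⟩
      rw [← hσ] at h1
      have h2 := congrArg (fun z : Additive Q => ((z.toMul : N) : G)) (hEinj h1)
      rw [hψ] at h2
      exact mul_inv_eq_iff_eq_mul.1 h2
  rw [hidx, hfix, ← hcardQ, Nat.card_congr e.toEquiv, Nat.card_eq_fintype_card (α := Φ.range),
    ← FixedPoints.finrank_eq_card Φ.range F]
  exact (Module.natCard_eq_pow_finrank (K := FixedPoints.subfield Φ.range F) (V := F)).symm

end H85.ConstDiff
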