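import Cfsg.Agent.H85.ConstDiff.Reduce

/-!
The main statement on a constant difference `χ(1) - χ(u)`, with the values for `PSL₂(2ⁿ)` as
an input (helper85).
-/

set_option autoImplicit false
set_option linter.style.haveILetI false
set_option linter.unusedSectionVars false

open Cfsg Finset
open scoped ComplexConjugate

namespace H85.ConstDiff

universe u

/-- In a group of order two a nontrivial character takes the values `1` and `-1`. -/
theorem apply_sub_of_card_two {X : Type u} [Group X] [Fintype X] (h : Nat.card X = 2) {v : X}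
    (hv : v ≠ 1) {ψ : IrrCharacter X} (hψ : ψ ≠ H12.oneIrr X) :
    (ψ : X → ℂ) 1 - (ψ : X → ℂ) v = 2 := by
  classical
  have huniv : (Finset.univ : Finset X) = {1, v} := (Finset.eq_univ_of_card _ (by
    rw [Finset.card_pair hv.symm, ← Nat.card_eq_fintype_card, h])).symm
  have h0 := H12.sum_mul_conj_eq_card_mul (ψ : X → ℂ) (H12.oneIrr X : X → ℂ)
  rw [H12.classInner_irr_ne hψ, mul_zero, huniv, Finset.sum_pair hv.symm] at h0
  simp only [H12.oneIrr_apply, map_one, mul_one] at h0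
  have h1 := H12.sum_mul_conj_eq_card_mul (ψ : X → ℂ) (ψ : X → ℂ)
  rw [H12.classInner_irr_self, mul_one, h, huniv, Finset.sum_pair hv.symm,
    eq_neg_of_add_eq_zero_right h0, map_neg, neg_mul_neg] at h1
  have hd : (ψ : X → ℂ) 1 = (charDegree (ψ : X → ℂ) : ℂ) := H22.irr_one_eq_charDegree ψ
  rw [hd, Complex.conj_natCast] at h1
  have h2 : charDegree (ψ : X → ℂ) * charDegree (ψ : X → ℂ) = 1 := by
    have : ((charDegree (ψ : X → ℂ) * charDegree (ψ : X → ℂ) : ℕ) : ℂ) = ((1 : ℕ) : ℂ) := by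
      push_cast at h1 ⊢
      linear_combination h1 / 2
    exact_mod_cast this
  rw [eq_neg_of_add_eq_zero_right h0, hd, Nat.eq_one_of_mul_eq_one_left h2]
  norm_num

theorem main {G : Type u} [Group G] [Finite G] (M : Ideal Cfsg.AlgInt)
    (hM : Cfsg.IsPModular 2 M) (u : G)
    (hpsl : ∀ {X : Type u} [Group X] [Finite X] {F : Type} [Field F] [Fintype F] {n : ℕ},
      2 ≤ n → Fintype.card F = 2 ^ n →
      (X ≃* Matrix.ProjectiveSpecialLinearGroup (Fin 2) F) → ∀ x : X, x ≠ 1 → x ^ 2 = 1 →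
      ∀ χ : Cfsg.IrrCharacter X, (χ : X → ℂ) ≠ (fun _ => 1) →
        (χ : X → ℂ) 1 - (χ : X → ℂ) x = (2 ^ n : ℂ)) :
    (∃ k : ℂ, ∀ χ : Cfsg.IrrCharacter G, χ ∈ Cfsg.principalBlock M G →
        (χ : G → ℂ) ≠ (fun _ => 1) → (χ : G → ℂ) 1 - (χ : G → ℂ) u = k) ↔
      (u ∈ Cfsg.oddCore G ∨ (Nat.card (G ⧸ Cfsg.oddCore G) = 2 ∧ u ∉ Cfsg.oddCore G) ∨
        (∃ (F : Type) (_ : Field F) (_ : Fintype F) (n : ℕ), 2 ≤ n ∧ Fintype.card F = 2 ^ n ∧
          Nonempty (G ⧸ Cfsg.oddCore G ≃* Matrix.ProjectiveSpecialLinearGroup (Fin 2) F) ∧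
          u ∉ Cfsg.oddCore G ∧ u ^ 2 ∈ Cfsg.oddCore G)) := by
  classical
  haveI : Fact (Nat.Prime 2) := ⟨Nat.prime_two⟩
  haveI := H20.isPrime_of_modular hM
  letI : Fintype G := Fintype.ofFinite G
  haveI := H1.pPrimeCore_normal' 2 G
  letI : Fintype (G ⧸ Cfsg.oddCore G) := Fintype.ofFinite _
  have hN : ¬ 2 ∣ Nat.card (Cfsg.oddCore G) := H24.not_dvd_card_pPrimeCore (G := G) Nat.prime_two
  constructor
  · rintro ⟨k, hk⟩
    by_cases hu : u ∈ Cfsg.oddCore G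
    · exact Or.inl hu
    right
    have hne : (u : G ⧸ Cfsg.oddCore G) ≠ 1 := fun e => hu ((QuotientGroup.eq_one_iff u).1 e)
    have heq : ∀ ψ ∈ nt M (G ⧸ Cfsg.oddCore G),
        (ψ : G ⧸ Cfsg.oddCore G → ℂ) (u : G ⧸ Cfsg.oddCore G) = (ψ : G ⧸ Cfsg.oddCore G → ℂ) 1 - k := by
      intro ψ hψ
      obtain ⟨h1, h2⟩ := inflate_mem_nt (Cfsg.oddCore G) hM hN hψ
      have := hk _ h1 h2
      rw [H21.inflate_apply, H21.inflate_apply, QuotientGroup.mk_one] at this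
      rw [← this]
      ring
    obtain ⟨h2 | ⟨F, iF, iFt, n, hn, hF, e⟩, hsq⟩ :=
      classify_of_core hM (H1.pPrimeCore_quotient_pPrimeCore 2) hne heq
    · exact Or.inl ⟨h2, hu⟩
    · refine Or.inr ⟨F, iF, iFt, n, hn, hF, e, hu, ?_⟩
      rw [← QuotientGroup.eq_one_iff, QuotientGroup.mk_pow]
      exact hsq
  · rintro (hu | ⟨h2, hu⟩ | ⟨F, iF, iFt, n, hn, hF, ⟨e⟩, hu, hu2⟩)
    · exact ⟨0, fun χ hχ _ => by rw [H20.principal_pPrimeCore_ker hM hχ hu, sub_self]⟩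
    · refine ⟨2, fun χ hχ h1 => ?_⟩
      obtain ⟨ψ, hψ, rfl⟩ := exists_nt_deflate (Cfsg.oddCore G) hM le_rfl hN hχ h1
      rw [H21.inflate_apply, H21.inflate_apply, QuotientGroup.mk_one]
      exact apply_sub_of_card_two h2 (fun e => hu ((QuotientGroup.eq_one_iff u).1 e))
        (mem_nt.1 hψ).1
    · refine ⟨2 ^ n, fun χ hχ h1 => ?_⟩
      obtain ⟨ψ, hψ, rfl⟩ := exists_nt_deflate (Cfsg.oddCore G) hM le_rfl hN hχ h1
      rw [H21.inflate_apply, H21.inflate_apply, QuotientGroup.mk_one]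
      refine hpsl hn hF e _ (fun h => hu ((QuotientGroup.eq_one_iff u).1 h)) ?_ ψ ?_
      · rw [← QuotientGroup.mk_pow, QuotientGroup.eq_one_iff]
        exact hu2
      · intro h
        exact (mem_nt.1 hψ).1 (Subtype.ext h)

end H85.ConstDiff
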