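import Cfsg.Agent.H85.AbTwo.Signal
import Cfsg.Agent.H10.PSolvable

/-!
An elementary abelian Sylow 2-subgroup of order at least eight whose involutions have solvable
centralizers: the group is solvable or the involutions are conjugate (helper85).
-/

set_option autoImplicit false
set_option linter.style.haveILetI false
set_option linter.unusedSectionVars false

open Cfsg Finset

namespace H85.ConstDiff

universe u

local notation "C[" x "]" => (Subgroup.centralizer ({x} : Set _))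

variable {X : Type u} [Group X] [Fintype X]

/-- In a solvable group an abelian Sylow 2-subgroup covers `O_{2',2}(X)`. -/
theorem sup_normal_of_solvable [Group.IsSolvable X] (P : Sylow 2 X) [hc : IsMulCommutative P] :
    ((P : Subgroup X) ⊔ pPrimeCore 2 X).Normal := by
  haveI : Fact (Nat.Prime 2) := ⟨Nat.prime_two⟩
  haveI hn := H1.pPrimeCore_normal' 2 X
  set f := QuotientGroup.mk' (pPrimeCore 2 X) with hf
  have hfs : Function.Surjective f := QuotientGroup.mk'_surjective _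
  let Q : Sylow 2 (X ⧸ pPrimeCore 2 X) := P.mapSurjective hfs
  have hQ : (Q : Subgroup (X ⧸ pPrimeCore 2 X)) = (P : Subgroup X).map f :=
    Sylow.coe_mapSurjective hfs P
  have hps : IsPSolvable 2 (X ⧸ pPrimeCore 2 X) :=
    H10.isPSolvable_quotient H10.isPSolvable_of_isSolvable _
  have hle := H10.centralizer_pCore_le hps (H1.pPrimeCore_quotient_pPrimeCore 2)
  have hpQ := H1.pCore_le_sylow Q
  have hQle : (Q : Subgroup (X ⧸ pPrimeCore 2 X)) ≤ pCore 2 (X ⧸ pPrimeCore 2 X) := by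
    refine le_trans ?_ hle
    intro a ha b hb
    have hb' := hpQ hb
    rw [hQ] at ha hb'
    obtain ⟨a', ha', rfl⟩ := ha
    obtain ⟨b', hb'', rfl⟩ := hb'
    have hab : b' * a' = a' * b' :=
      congrArg Subtype.val (hc.is_comm.comm ⟨b', hb''⟩ ⟨a', ha'⟩)
    rw [← map_mul, ← map_mul, hab]
  have e : (P : Subgroup X) ⊔ pPrimeCore 2 X = (pCore 2 (X ⧸ pPrimeCore 2 X)).comap f := by
    rw [← le_antisymm hQle hpQ, hQ, Subgroup.comap_map_eq, hf, QuotientGroup.ker_mk']
  rw [e]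
  haveI := H1.pCore_normal' 2 (X ⧸ pPrimeCore 2 X)
  exact Subgroup.Normal.comap inferInstance f

/-- Odd subgroups normalized by an abelian Sylow 2-subgroup of a solvable group lie in the odd
core. -/
theorem le_core_of_solvable [Group.IsSolvable X] (P : Sylow 2 X) [IsMulCommutative P]
    (K : Subgroup X) (hK : ¬ 2 ∣ Nat.card K)
    (hnorm : ∀ p ∈ (P : Subgroup X), ∀ k ∈ K, p * k * p⁻¹ ∈ K) : K ≤ pPrimeCore 2 X := by
  haveI : Fact (Nat.Prime 2) := ⟨Nat.prime_two⟩
  haveI hn := H1.pPrimeCore_normal' 2 X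
  haveI hN := sup_normal_of_solvable P
  set f := QuotientGroup.mk' (pPrimeCore 2 X) with hf
  have hfs : Function.Surjective f := QuotientGroup.mk'_surjective _
  have hcent : ∀ k ∈ K, f k ∈ Subgroup.centralizer (((P : Subgroup X).map f) : Set _) := by
    intro k hk
    rintro _ ⟨p, hp, rfl⟩
    have h1 : p * k * p⁻¹ * k⁻¹ ∈ (P : Subgroup X) ⊔ pPrimeCore 2 X := by
      rw [show p * k * p⁻¹ * k⁻¹ = p * (k * p⁻¹ * k⁻¹) by group]
      exact mul_mem (Subgroup.mem_sup_left hp)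
        (hN.conj_mem _ (Subgroup.mem_sup_left (inv_mem hp)) k)
    have h2 : p * k * p⁻¹ * k⁻¹ ∈ K := mul_mem (hnorm p hp k hk) (inv_mem hk)
    have h3 : f (p * k * p⁻¹ * k⁻¹) = 1 := by
      obtain ⟨a, ha, b, hb, hab⟩ := Subgroup.mem_sup_of_normal_right.1 h1
      have h4 : f (p * k * p⁻¹ * k⁻¹) = f a := by
        rw [← hab, map_mul, show f b = 1 from (QuotientGroup.eq_one_iff b).2 hb, mul_one]
      obtain ⟨j, hj⟩ := H20.FreeSylow.orderOf_eq_pow (P := P) ha
      refine orderOf_eq_one_iff.1 (Nat.eq_one_of_dvd_coprimes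
        (k := orderOf (f (p * k * p⁻¹ * k⁻¹))) (a := 2 ^ j)
        (b := orderOf (p * k * p⁻¹ * k⁻¹)) ?_ ?_ (orderOf_map_dvd f _))
      · refine Nat.Coprime.pow_left j ((Nat.prime_two.coprime_iff_not_dvd).2 fun h => hK ?_)
        exact h.trans (Subgroup.orderOf_dvd_natCard _ h2)
      · rw [h4, ← hj]; exact orderOf_map_dvd f a
    rw [← map_mul, ← map_mul]
    refine mul_inv_eq_one.1 ?_
    rw [← map_inv, ← map_mul, ← h3]
    congr 1
    group
  let Q : Sylow 2 (X ⧸ pPrimeCore 2 X) := P.mapSurjective hfs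
  have hQ : (Q : Subgroup (X ⧸ pPrimeCore 2 X)) = (P : Subgroup X).map f :=
    Sylow.coe_mapSurjective hfs P
  have hle := H10.centralizer_pCore_le
    (H10.isPSolvable_quotient (H10.isPSolvable_of_isSolvable (G := X) (p := 2)) (pPrimeCore 2 X))
    (H1.pPrimeCore_quotient_pPrimeCore 2)
  have hpQ := H1.pCore_le_sylow Q
  intro k hk
  have h5 : f k ∈ pCore 2 (X ⧸ pPrimeCore 2 X) :=
    hle (Subgroup.centralizer_le (hQ ▸ hpQ) (hcent k hk))
  obtain ⟨j, hj⟩ := IsPGroup.iff_orderOf.1 (H1.isPGroup_pCore 2 _) ⟨f k, h5⟩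
  rw [Subgroup.orderOf_mk] at hj
  refine (QuotientGroup.eq_one_iff k).1 (orderOf_eq_one_iff.1 (Nat.eq_one_of_dvd_coprimes
    (a := 2 ^ j) (b := orderOf k) ?_ (dvd_of_eq hj) (orderOf_map_dvd f k)))
  exact Nat.Coprime.pow_left j ((Nat.prime_two.coprime_iff_not_dvd).2 fun h =>
    hK (h.trans (Subgroup.orderOf_dvd_natCard _ hk)))

variable {Y : Type u} [Group Y] [Fintype Y] (P : Sylow 2 Y) [hc : IsMulCommutative P]

open H85.AbTwo

theorem norm_mem_th {n a k : Y} (hk : k ∈ th a) : n * k * n⁻¹ ∈ th (n * a * n⁻¹) := by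
  haveI : Fact (Nat.Prime 2) := ⟨Nat.prime_two⟩
  let c := MulAut.conj n
  have hmap : C[a].map c.toMonoidHom = C[n * a * n⁻¹] := by
    ext g
    constructor
    · rintro ⟨w, hw, rfl⟩
      have hw' := Subgroup.mem_centralizer_singleton_iff.1 hw
      refine Subgroup.mem_centralizer_singleton_iff.2 ?_
      show n * w * n⁻¹ * (n * a * n⁻¹) = n * a * n⁻¹ * (n * w * n⁻¹)
      calc n * w * n⁻¹ * (n * a * n⁻¹) = n * (w * a) * n⁻¹ := by group
        _ = n * (a * w) * n⁻¹ := by rw [hw']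
        _ = _ := by group
    · intro hg
      have hg' := Subgroup.mem_centralizer_singleton_iff.1 hg
      refine ⟨n⁻¹ * g * n, Subgroup.mem_centralizer_singleton_iff.2 ?_, by simp [c, mul_assoc]⟩
      calc n⁻¹ * g * n * a = n⁻¹ * (g * (n * a * n⁻¹)) * n := by group
        _ = n⁻¹ * ((n * a * n⁻¹) * g) * n := by rw [hg']
        _ = _ := by group
  obtain ⟨k', hk', rfl⟩ := hk
  let e : C[a] ≃* C[n * a * n⁻¹] :=
    (C[a].equivMapOfInjective c.toMonoidHom c.injective).trans (MulEquiv.subgroupCongr hmap)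
  haveI := H1.pPrimeCore_normal' 2 C[a]
  haveI : ((pPrimeCore 2 C[a]).map e.toMonoidHom).Normal :=
    Subgroup.Normal.map inferInstance _ e.surjective
  have hmem : e k' ∈ pPrimeCore 2 C[n * a * n⁻¹] := by
    refine H1.le_pPrimeCore ?_ (Subgroup.mem_map.2 ⟨k', hk', rfl⟩ :
      e k' ∈ (pPrimeCore 2 C[a]).map e.toMonoidHom)
    rw [Subgroup.card_map_of_injective e.injective]
    exact H1.card_pPrimeCore_coprime 2 C[a]
  exact Subgroup.mem_map.2 ⟨e k', hmem, rfl⟩

variable (hE : ∀ x ∈ (P : Subgroup Y), x * x = 1)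
  (hS : ∀ a ∈ (P : Subgroup Y), a ≠ 1 → Group.IsSolvable C[a])
include hE hS

theorem balance {a b : Y} (ha : a ∈ (P : Subgroup Y)) (hb : b ∈ (P : Subgroup Y)) (hb1 : b ≠ 1)
    {k : Y} (hk : k ∈ th a) (hkb : k ∈ C[b]) : k ∈ th b := by
  haveI : Fact (Nat.Prime 2) := ⟨Nat.prime_two⟩
  haveI := hS b hb hb1
  haveI : Fintype C[b] := Fintype.ofFinite _
  have hPC : (P : Subgroup Y) ≤ C[b] := le_cent P hb
  haveI : IsMulCommutative (P.subtype hPC : Subgroup C[b]) :=
    ⟨⟨fun x y => Subtype.ext (Subtype.ext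
      (congrArg Subtype.val (hc.is_comm.comm ⟨_, x.2⟩ ⟨_, y.2⟩) :))⟩⟩
  have h := le_core_of_solvable (P.subtype hPC) ((th a).subgroupOf C[b]) (fun h2 => th_odd a
    (h2.trans (Subgroup.card_comap_dvd_of_injective _ _ (Subgroup.subtype_injective _))))
    (fun p hp w hw => ?_)
  · exact ⟨⟨k, hkb⟩, h (show (⟨k, hkb⟩ : C[b]) ∈ (th a).subgroupOf C[b] from hk), rfl⟩
  · show (p : Y) * (w : Y) * (p : Y)⁻¹ ∈ th a
    have h1 := norm_mem_th (n := (p : Y)) (a := a) hw
    rwa [show (p : Y) * a * (p : Y)⁻¹ = a by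
      rw [show (p : Y) * a = a * p from congrArg Subtype.val (hc.is_comm.comm ⟨_, hp⟩ ⟨a, ha⟩),
        mul_inv_cancel_right]] at h1

theorem cent_decomp {b : Y} (hb : b ∈ (P : Subgroup Y)) (hb1 : b ≠ 1) :
    C[b] ≤ Subgroup.normalizer ((P : Subgroup Y) : Set Y) ⊔ th b := by
  haveI : Fact (Nat.Prime 2) := ⟨Nat.prime_two⟩
  haveI := hS b hb hb1
  haveI : Fintype C[b] := Fintype.ofFinite _
  have hPC : (P : Subgroup Y) ≤ C[b] := le_cent P hb
  haveI : IsMulCommutative (P.subtype hPC : Subgroup C[b]) :=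
    ⟨⟨fun x y => Subtype.ext (Subtype.ext
      (congrArg Subtype.val (hc.is_comm.comm ⟨_, x.2⟩ ⟨_, y.2⟩) :))⟩⟩
  set P' := P.subtype hPC with hP'
  haveI hN := sup_normal_of_solvable P'
  have htop := Sylow.normalizer_sup_eq_top' P' (le_sup_left (b := pPrimeCore 2 C[b]))
  intro g hg
  have h1 : (⟨g, hg⟩ : C[b]) ∈
      Subgroup.normalizer ((P' : Subgroup C[b]) : Set C[b]) ⊔ ((P' : Subgroup C[b]) ⊔ pPrimeCore 2 C[b]) := by
    erw [htop]; exact Subgroup.mem_top _
  rw [← sup_assoc, sup_eq_left.2 Subgroup.le_normalizer] at h1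
  haveI := H1.pPrimeCore_normal' 2 C[b]
  obtain ⟨n, hn, o, ho, e⟩ := Subgroup.mem_sup_of_normal_right.1 h1
  rw [show g = (n : Y) * (o : Y) from (congrArg Subtype.val e).symm]
  refine mul_mem (Subgroup.mem_sup_left ?_) (Subgroup.mem_sup_right ⟨o, ho, rfl⟩)
  rw [Subgroup.mem_normalizer_iff]
  intro w
  constructor
  · intro hw
    exact (Subgroup.mem_normalizer_iff.1 hn ⟨w, hPC hw⟩).1 hw
  · intro hw
    have hwC : w ∈ C[b] := by
      have := C[b].mul_mem (C[b].mul_mem (C[b].inv_mem n.2) (hPC hw)) n.2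
      simpa [mul_assoc] using this
    exact (Subgroup.mem_normalizer_iff.1 hn ⟨w, hwC⟩).2 hw

/-- The dichotomy. -/
theorem solvable_or_one_class (h8 : 2 ^ 3 ≤ Nat.card (P : Subgroup Y)) :
    Group.IsSolvable Y ∨ ∀ a ∈ (P : Subgroup Y), ∀ b ∈ (P : Subgroup Y), a ≠ 1 → b ≠ 1 →
      ∃ n ∈ Subgroup.normalizer ((P : Subgroup Y) : Set Y), n * a * n⁻¹ = b := by
  classical
  haveI : Fact (Nat.Prime 2) := ⟨Nat.prime_two⟩
  have hea : IsElementaryAbelian 2 (P : Subgroup Y) :=
    ⟨hc, fun u hu => by rw [pow_two]; exact hE u hu⟩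
  have hθ : IsSolvableSignalizerFunctor 2 (P : Subgroup Y) (fun a => th a) := by
    refine ⟨⟨fun a _ _ => th_le a, fun a _ _ => th_odd a, fun a ha ha1 b hb k hk => ?_,
      fun a ha ha1 b hb hb1 k hk => balance P hE hS ha hb hb1 hk.1 hk.2⟩,
      fun a _ _ => H16.FT.oddOrder ?_⟩
    · have h := norm_mem_th (n := b) hk
      rwa [mem_cent_iff.1 (le_cent P ha hb), mul_inv_cancel_right] at h
    · exact Nat.not_even_iff_odd.1 fun he => th_odd a (even_iff_two_dvd.1 he)
  obtain ⟨hWs, hodd, -⟩ := H84.SFT.closure_of_complete hθ (fun h => by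
    rw [h, Subgroup.card_bot] at h8; norm_num at h8) (H7.SFT.complete hea h8 hθ)
  set W := ⨆ a : {a : Y // a ∈ (P : Subgroup Y) ∧ a ≠ 1}, th (a : Y) with hW
  set N := Subgroup.normalizer ((P : Subgroup Y) : Set Y) with hN
  set H := N ⊔ W with hH
  have hNW : N ≤ Subgroup.normalizer (W : Set Y) := by
    have key : ∀ n ∈ N, ∀ k ∈ W, n * k * n⁻¹ ∈ W := by
      intro n hn k hk
      have hle : W ≤ W.comap (MulAut.conj n).toMonoidHom := iSup_le fun a k hk =>
        le_iSup (fun c : {a : Y // a ∈ (P : Subgroup Y) ∧ a ≠ 1} => th (c : Y))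
          ⟨n * a * n⁻¹, (Subgroup.mem_normalizer_iff.1 hn a).1 a.2.1,
            fun h => a.2.2 (conj_eq_one_iff.1 h)⟩ (norm_mem_th hk)
      exact hle hk
    intro n hn
    rw [Subgroup.mem_normalizer_iff]
    refine fun k => ⟨key n hn k, fun h => ?_⟩
    have := key n⁻¹ (inv_mem hn) _ h
    simpa [mul_assoc] using this
  by_cases htop : H = ⊤
  · left
    haveI hWn : W.Normal := by
      rw [← Subgroup.normalizer_eq_top_iff, eq_top_iff, ← htop]
      exact sup_le hNW Subgroup.le_normalizer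
    obtain ⟨a, ha, ha1⟩ : ∃ a ∈ (P : Subgroup Y), a ≠ 1 := by
      refine ((P : Subgroup Y).ne_bot_iff_exists_ne_one).1 (fun h => ?_) |>.elim
        fun a ha => ⟨a, a.2, fun e => ha (Subtype.ext e)⟩
      rw [h, Subgroup.card_bot] at h8; norm_num at h8
    haveI := hS a ha ha1
    set Cp := Subgroup.centralizer ((P : Subgroup Y) : Set Y) with hCp
    haveI : Group.IsSolvable Cp :=
      Group.isSolvable_of_isSolvable_injective (Subgroup.inclusion_injective
        (show Cp ≤ C[a] from Subgroup.centralizer_le (Set.singleton_subset_iff.2 ha)))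
    haveI hKn : (Cp.subgroupOf N).Normal := by
      rw [hCp, ← Subgroup.normalizerMonoidHom_ker]
      infer_instance
    haveI : Group.IsSolvable (N ⧸ Cp.subgroupOf N) := by
      refine H16.FT.oddOrder ((odd_index P).of_dvd_nat ?_)
      show (Cp).relIndex N ∣ _
      have hPC : (P : Subgroup Y) ≤ Cp := fun w hw v hv =>
        congrArg Subtype.val (hc.is_comm.comm ⟨v, hv⟩ ⟨w, hw⟩)
      exact (Subgroup.relIndex_dvd_of_le_left N hPC).trans
          (Subgroup.relIndex_dvd_index_of_le Subgroup.le_normalizer)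
    haveI : Group.IsSolvable (Cp.subgroupOf N) :=
      Group.isSolvable_of_isSolvable_injective (f := (N.subtype.comp (Cp.subgroupOf N).subtype).codRestrict Cp
        fun x => x.2) fun x y h => Subtype.ext (Subtype.ext (congrArg Subtype.val h :))
    haveI : Group.IsSolvable N := Group.isSolvable_of_ker_le_range (Cp.subgroupOf N).subtype
      (QuotientGroup.mk' (Cp.subgroupOf N)) (by rw [QuotientGroup.ker_mk', Subgroup.range_subtype])
    haveI := hWs
    haveI : Group.IsSolvable (Y ⧸ W) := by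
      refine Group.isSolvable_of_surjective (f := (QuotientGroup.mk' W).comp N.subtype) fun y => ?_
      obtain ⟨g, rfl⟩ := QuotientGroup.mk'_surjective W y
      obtain ⟨n, hn, w, hw, rfl⟩ := Subgroup.mem_sup_of_normal_right.1
        (show g ∈ N ⊔ W by rw [← hH, htop]; exact Subgroup.mem_top g)
      refine ⟨⟨n, hn⟩, ?_⟩
      simp [hw]
    exact Group.isSolvable_of_ker_le_range W.subtype (QuotientGroup.mk' W)
      (by rw [QuotientGroup.ker_mk', Subgroup.range_subtype])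
  right
  have hPH : (P : Subgroup Y) ≤ H := Subgroup.le_normalizer.trans le_sup_left
  have h2 : ∀ u ∈ (P : Subgroup Y), u ≠ 1 → orderOf u = 2 := fun u hu hu1 =>
    orderOf_eq_prime (by rw [pow_two]; exact hE u hu) hu1
  have heven : Even (Nat.card H) := by
    rw [even_iff_two_dvd]
    refine dvd_trans ?_ (Subgroup.card_dvd_of_le hPH)
    obtain ⟨j, hj⟩ := IsPGroup.iff_card.1 P.isPGroup'
    rw [hj] at h8 ⊢
    exact dvd_pow_self 2 (fun e => by rw [e] at h8; norm_num at h8)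
  have hinto : ∀ t ∈ H, orderOf t = 2 →
      ∃ m ∈ H, ∃ u ∈ (P : Subgroup Y), u ≠ 1 ∧ m * u * m⁻¹ = t := by
    intro t ht ht2
    obtain ⟨u, hu, hc'⟩ := H20.FreeSylow.exists_isConj_mem (P := P.subtype hPH) (y := (⟨t, ht⟩ : H))
      ⟨1, by rw [Subgroup.orderOf_mk, ht2, pow_one]⟩
    obtain ⟨m, hm⟩ := _root_.isConj_iff.1 hc'.symm
    refine ⟨m, m.2, u, hu, fun h => ?_, congrArg Subtype.val hm⟩
    have e : (m : Y) * (u : Y) * (m : Y)⁻¹ = t := congrArg Subtype.val hm
    rw [h, mul_one, mul_inv_cancel] at e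
    rw [← e, orderOf_one] at ht2
    norm_num at ht2
  have hCH : ∀ u ∈ (P : Subgroup Y), u ≠ 1 → C[u] ≤ H := fun u hu hu1 =>
    (cent_decomp P hE hS hu hu1).trans (sup_le_sup_left
      (le_iSup (fun c : {a : Y // a ∈ (P : Subgroup Y) ∧ a ≠ 1} => th (c : Y)) ⟨u, hu, hu1⟩) _)
  have hse : IsStronglyEmbedded H := by
    refine (H65.se_iff_fusion htop heven).2 ⟨fun t ht ht2 => ?_, fun t ht s hs ht2 hs2 hts => ?_⟩
    · obtain ⟨m, hm, u, hu, hu1, rfl⟩ := hinto t ht ht2
      intro g hg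
      have h1 : m⁻¹ * g * m ∈ C[u] := by
        rw [mem_cent_iff]
        have := mem_cent_iff.1 hg
        calc m⁻¹ * g * m * u = m⁻¹ * (g * (m * u * m⁻¹)) * m := by group
          _ = m⁻¹ * ((m * u * m⁻¹) * g) * m := by rw [this]
          _ = _ := by group
      have := mul_mem (mul_mem hm (hCH u hu hu1 h1)) (inv_mem hm)
      simpa [mul_assoc] using this
    · obtain ⟨m, hm, u, hu, -, rfl⟩ := hinto t ht ht2
      obtain ⟨m', hm', v, hv, -, rfl⟩ := hinto s hs hs2
      have huv : IsConj u v :=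
        ((_root_.isConj_iff.2 ⟨m, rfl⟩ : IsConj u (m * u * m⁻¹)).trans hts).trans
          (_root_.isConj_iff.2 ⟨m', rfl⟩ : IsConj v (m' * v * m'⁻¹)).symm
      obtain ⟨n, hn, hnu⟩ := H85.AbTwo.exists_norm P hu hv huv
      refine ⟨m' * n * m⁻¹, mul_mem (mul_mem hm' (Subgroup.mem_sup_left hn)) (inv_mem hm), ?_⟩
      rw [← hnu]; group
  exact fun a ha b hb ha1 hb1 =>
    H85.AbTwo.exists_norm P ha hb (H67.se_isConj hse (h2 a ha ha1) (h2 b hb hb1))

end H85.ConstDiff
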