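import Cfsg.Agent.H85.ConstDiff.Eight
import Cfsg.Agent.H85.ZStarBlocks
import Cfsg.Agent.H24.PrincipalQuot

/-!
A constant difference `χ(1) - χ(u)`: the quotient of the solvable centralizer by its odd core and
the odd part of the element (helper85).
-/

set_option autoImplicit false
set_option linter.style.haveILetI false
set_option linter.unusedSectionVars false

open Cfsg Finset
open scoped ComplexConjugate

namespace H85.ConstDiff

universe u

local notation "C[" x "]" => (Subgroup.centralizer ({x} : Set _))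

variable {G : Type u} [Group G] [Fintype G] {M : Ideal AlgInt} [hMp : M.IsPrime]

theorem inflate_injective (N : Subgroup G) [N.Normal] :
    Function.Injective (H21.inflate N : IrrCharacter (G ⧸ N) → IrrCharacter G) := by
  intro a b h
  refine Subtype.ext (funext fun q => ?_)
  obtain ⟨g, rfl⟩ := QuotientGroup.mk_surjective q
  rw [← H21.inflate_apply N a g, h, H21.inflate_apply]

/-- The principal block of a solvable group is the set of all characters of the quotient by the
odd core. -/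
theorem sum_block_solvable (hM : IsPModular 2 M) [Group.IsSolvable G] [(pPrimeCore 2 G).Normal]
    [Fintype (G ⧸ pPrimeCore 2 G)] (f : IrrCharacter G → ℂ) :
    ∑ ψ ∈ H22.blockFinset (principalBlock M G), f ψ =
      ∑ φ : IrrCharacter (G ⧸ pPrimeCore 2 G), f (H21.inflate (pPrimeCore 2 G) φ) := by
  classical
  haveI : Fact (Nat.Prime 2) := ⟨Nat.prime_two⟩
  have hall : ∀ φ : IrrCharacter (G ⧸ pPrimeCore 2 G),
      φ ∈ principalBlock M (G ⧸ pPrimeCore 2 G) := fun φ =>
    H20.single_block hM (H10.isPSolvable_quotient H10.isPSolvable_of_isSolvable _)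
      (H1.pPrimeCore_quotient_pPrimeCore 2) (H12.oneIrr _) φ
  have h := H24.sum_principalBlock_quotient hM f
  rw [H22.finsum_mem_block, H22.finsum_mem_block] at h
  rw [h]
  have huniv : H22.blockFinset (principalBlock M (G ⧸ pPrimeCore 2 G)) = Finset.univ :=
    Finset.eq_univ_iff_forall.2 fun φ => H22.mem_blockFinset.2 (hall φ)
  rw [huniv]
  exact Finset.sum_congr rfl fun φ _ => congrArg f (Subtype.ext (funext fun g => rfl))

/-- The column norm in the principal block of a solvable group. -/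
theorem column_norm_solvable (hM : IsPModular 2 M) [Group.IsSolvable G] [(pPrimeCore 2 G).Normal]
    [Fintype (G ⧸ pPrimeCore 2 G)] (y : G) :
    ∑ ψ ∈ H22.blockFinset (principalBlock M G), (ψ : G → ℂ) y * conj ((ψ : G → ℂ) y) =
      (Nat.card (Subgroup.centralizer ({(y : G ⧸ pPrimeCore 2 G)} : Set _)) : ℂ) := by
  rw [sum_block_solvable hM]
  simp only [H21.inflate_apply]
  have h := H12.column_orthogonality (y : G ⧸ pPrimeCore 2 G) (y : G ⧸ pPrimeCore 2 G)
  rw [if_pos (IsConj.refl _)] at h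
  exact h

variable {P : Sylow 2 G} {v s r : G} {K : ℤ}

/-- The shape of the quotient of the centralizer. -/
structure QuotData (P : Sylow 2 G) (s : G) {X : Type u} [Group X]
    (π : (C[s] : Subgroup G) →* X) (Q : Subgroup X) : Prop where
  le : (P : Subgroup G) ≤ C[s]
  normal : Q.Normal
  cent : Subgroup.centralizer (Q : Set X) ≤ Q
  card : Nat.card Q = Nat.card (P : Subgroup G)
  odd : Odd Q.index
  mem : ∀ x, x ∈ Q ↔ ∃ w : (C[s] : Subgroup G), (w : G) ∈ (P : Subgroup G) ∧ π w = x
  inj : ∀ w : (C[s] : Subgroup G), (w : G) ∈ (P : Subgroup G) → π w = 1 → w = 1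
  cover : ∀ x, ∃ n : (C[s] : Subgroup G), (n : G) ∈ stab P s ∧ π n = x

theorem quotData (P : Sylow 2 G) [hc : IsMulCommutative P] (hs : s ∈ (P : Subgroup G))
    [Group.IsSolvable (C[s] : Subgroup G)] [(pPrimeCore 2 (C[s] : Subgroup G)).Normal] :
    ∃ Q, QuotData P s (QuotientGroup.mk' (pPrimeCore 2 (C[s] : Subgroup G))) Q := by
  classical
  haveI : Fact (Nat.Prime 2) := ⟨Nat.prime_two⟩
  have hPC : (P : Subgroup G) ≤ C[s] := H85.AbTwo.le_cent P hs
  set C := (C[s] : Subgroup G) with hCdef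
  set O := pPrimeCore 2 C with hO
  set π := QuotientGroup.mk' O with hπ
  have hπs : Function.Surjective π := QuotientGroup.mk'_surjective O
  haveI hQc : IsMulCommutative (P.subtype hPC : Subgroup C) :=
    ⟨⟨fun a b => Subtype.ext (Subtype.ext
      (congrArg Subtype.val (hc.is_comm.comm ⟨_, a.2⟩ ⟨_, b.2⟩) :))⟩⟩
  let Q' : Sylow 2 (C ⧸ O) := (P.subtype hPC).mapSurjective hπs
  have hQ' : (Q' : Subgroup (C ⧸ O)) = (P.subtype hPC : Subgroup C).map π :=
    Sylow.coe_mapSurjective hπs _
  have hinj : ∀ w : C, (w : G) ∈ (P : Subgroup G) → π w = 1 → w = 1 := by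
    intro w hw h
    have hwO : w ∈ O := (QuotientGroup.eq_one_iff w).1 h
    obtain ⟨j, hj⟩ := H20.FreeSylow.orderOf_eq_pow (P := P) hw
    rw [Subgroup.orderOf_coe] at hj
    refine orderOf_eq_one_iff.1 (Nat.eq_one_of_dvd_coprimes
      (Nat.Coprime.pow_left j (H1.card_pPrimeCore_coprime 2 C).symm) (dvd_of_eq hj)
      (Subgroup.orderOf_dvd_natCard _ hwO))
  have hle := H10.centralizer_pCore_le
    (H10.isPSolvable_quotient (H10.isPSolvable_of_isSolvable (G := C) (p := 2)) O)
    (H1.pPrimeCore_quotient_pPrimeCore 2)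
  have hpQ := H1.pCore_le_sylow Q'
  have hmem : ∀ x, x ∈ (Q' : Subgroup (C ⧸ O)) ↔ ∃ w : C, (w : G) ∈ (P : Subgroup G) ∧ π w = x := by
    intro x
    rw [hQ']
    constructor
    · rintro ⟨w, hw, rfl⟩; exact ⟨w, hw, rfl⟩
    · rintro ⟨w, hw, rfl⟩; exact ⟨w, hw, rfl⟩
  have hQeq : (Q' : Subgroup (C ⧸ O)) = pCore 2 (C ⧸ O) := by
    refine le_antisymm (le_trans ?_ hle) hpQ
    intro a ha b hb
    obtain ⟨a', ha', rfl⟩ := (hmem a).1 ha
    obtain ⟨b', hb', rfl⟩ := (hmem b).1 (hpQ hb)
    have hab : b' * a' = a' * b' :=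
      Subtype.ext (congrArg Subtype.val (hc.is_comm.comm ⟨_, hb'⟩ ⟨_, ha'⟩) :)
    rw [← map_mul, ← map_mul, hab]
  haveI hQn : (Q' : Subgroup (C ⧸ O)).Normal := hQeq ▸ H1.pCore_normal' 2 (C ⧸ O)
  refine ⟨(Q' : Subgroup (C ⧸ O)), hPC, hQn, ?_, ?_, H85.AbTwo.odd_index Q', hmem, hinj, ?_⟩
  · calc Subgroup.centralizer ((Q' : Subgroup (C ⧸ O)) : Set (C ⧸ O)) ≤ pCore 2 (C ⧸ O) :=
          le_trans (Subgroup.centralizer_le hpQ) hle
      _ = (Q' : Subgroup (C ⧸ O)) := hQeq.symm
  · rw [hQ']
    have hi : Function.Injective (π.comp (P.subtype hPC : Subgroup C).subtype) := by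
      rw [injective_iff_map_eq_one]
      exact fun w hw => Subtype.ext (hinj _ w.2 hw)
    rw [← Nat.card_congr (Subgroup.subgroupOfEquivOfLe hPC).toEquiv,
      show (P : Subgroup G).subgroupOf C = (P.subtype hPC : Subgroup C) from rfl,
      Nat.card_congr (MonoidHom.ofInjective hi).toEquiv, MonoidHom.range_comp,
      Subgroup.range_subtype]
  · intro x
    have htop : (Subgroup.normalizer ((P.subtype hPC : Subgroup C) : Set C)).map π = ⊤ := by
      rw [H25.RealOdd.map_normalizer_sylow 2 π hπs (P.subtype hPC)]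
      have : Subgroup.normalizer (((P.subtype hPC : Subgroup C).map π) : Set (C ⧸ O)) = ⊤ := by
        rw [← hQ']; exact Subgroup.normalizer_eq_top_iff.2 hQn
      exact this
    obtain ⟨n, hn, rfl⟩ := (htop ▸ Subgroup.mem_top x :
      x ∈ (Subgroup.normalizer ((P.subtype hPC : Subgroup C) : Set C)).map π)
    refine ⟨n, ⟨?_, n.2⟩, rfl⟩
    show (n : G) ∈ Subgroup.normalizer ((P : Subgroup G) : Set G)
    rw [Subgroup.mem_normalizer_iff]
    intro w
    constructor
    · intro hw; exact (Subgroup.mem_normalizer_iff.1 hn ⟨w, hPC hw⟩).1 hw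
    · intro hw
      have hwC : w ∈ C := by
        have := mul_mem (mul_mem (inv_mem n.2) (hPC hw)) n.2
        simpa [mul_assoc] using this
      exact (Subgroup.mem_normalizer_iff.1 hn ⟨w, hwC⟩).2 hw

namespace QuotData

variable {X : Type u} [Group X] [Finite X] {π : (C[s] : Subgroup G) →* X} {Q : Subgroup X}
  [hc' : IsMulCommutative P] (D : QuotData P s π Q)
include D

/-- The index is the order of the induced group. -/
theorem index_eq : Q.index =
    (Subgroup.centralizer ((P : Subgroup G) : Set G)).relIndex (stab P s) := by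
  haveI := D.normal
  let g : stab P s →* X ⧸ Q :=
    (QuotientGroup.mk' Q).comp (π.comp (Subgroup.inclusion inf_le_right))
  have hgs : Function.Surjective g := by
    intro y
    obtain ⟨x, rfl⟩ := QuotientGroup.mk'_surjective Q y
    obtain ⟨n, hn, rfl⟩ := D.cover x
    exact ⟨⟨n, hn⟩, rfl⟩
  have hker : g.ker = (Subgroup.centralizer ((P : Subgroup G) : Set G)).subgroupOf (stab P s) := by
    ext n
    rw [MonoidHom.mem_ker, Subgroup.mem_subgroupOf]
    show ((π (Subgroup.inclusion inf_le_right n) : X) : X ⧸ Q) = 1 ↔ _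
    rw [QuotientGroup.eq_one_iff]
    set n' : (C[s] : Subgroup G) := Subgroup.inclusion inf_le_right n with hn'
    constructor
    · intro hn w hw
      let w' : (C[s] : Subgroup G) := ⟨w, D.le hw⟩
      obtain ⟨a, ha, hπa⟩ := (D.mem _).1 hn
      have hconj : ((n' * w' * n'⁻¹ * w'⁻¹ : (C[s] : Subgroup G)) : G) ∈ (P : Subgroup G) :=
        mul_mem ((Subgroup.mem_normalizer_iff.1 n.2.1 w).1 hw) (inv_mem hw)
      have haw : a * w' = w' * a := Subtype.ext
        (congrArg Subtype.val (hc'.is_comm.comm ⟨(a : G), ha⟩ ⟨w, hw⟩) :)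
      have h1 : π (n' * w' * n'⁻¹ * w'⁻¹) = 1 := by
        rw [map_mul, map_mul, map_mul, map_inv, map_inv, ← hπa, ← map_mul, haw, map_mul,
          mul_inv_cancel_right, mul_inv_cancel]
      have h2 := congrArg Subtype.val (D.inj _ hconj h1)
      change (n : G) * w * (n : G)⁻¹ * w⁻¹ = 1 at h2
      exact (mul_inv_eq_iff_eq_mul.1 (mul_inv_eq_one.1 h2)).symm
    · intro hn
      refine D.cent fun x hx => ?_
      obtain ⟨w, hw, rfl⟩ := (D.mem x).1 hx
      rw [← map_mul, ← map_mul]
      congr 1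
      exact Subtype.ext (hn _ hw)
  rw [Subgroup.relIndex, ← hker, Subgroup.index_ker, MonoidHom.range_eq_top.2 hgs,
    Subgroup.card_top]
  rfl

/-- A subgroup of order divisible by the Sylow order contains the Sylow subgroup. -/
theorem le_of_dvd (H : Subgroup X) (h : Nat.card (P : Subgroup G) ∣ Nat.card H) : Q ≤ H := by
  haveI := D.normal
  have hodd : Odd (Q.relIndex H) :=
    D.odd.of_dvd_nat (Subgroup.relIndex_dvd_index_of_normal _ _)
  have hmul : Nat.card (Q.subgroupOf H) * Q.relIndex H = Nat.card H :=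
    Subgroup.card_mul_index (Q.subgroupOf H)
  obtain ⟨j, hj⟩ := IsPGroup.iff_card.1 P.isPGroup'
  rw [← hmul, hj] at h
  have h1 := (Nat.Coprime.pow_left j ((Nat.coprime_two_left).2 hodd)).dvd_of_dvd_mul_right h
  have h2 : Nat.card (Q.subgroupOf H) = Nat.card (H ⊓ Q : Subgroup X) := by
    rw [← Subgroup.inf_subgroupOf_left Q H]
    exact Nat.card_congr (Subgroup.subgroupOfEquivOfLe inf_le_left).toEquiv
  rw [h2, ← hj, ← D.card] at h1
  have h3 : H ⊓ Q = Q := Subgroup.eq_of_le_of_card_ge inf_le_right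
    (Nat.le_of_dvd Nat.card_pos h1)
  exact h3 ▸ inf_le_left

theorem card_le (H : Subgroup X) :
    Nat.card H ≤ Nat.card (H ⊓ Q : Subgroup X) * Q.index := by
  haveI := D.normal
  have hmul : Nat.card (Q.subgroupOf H) * Q.relIndex H = Nat.card H :=
    Subgroup.card_mul_index (Q.subgroupOf H)
  have h2 : Nat.card (Q.subgroupOf H) = Nat.card (H ⊓ Q : Subgroup X) := by
    rw [← Subgroup.inf_subgroupOf_left Q H]
    exact Nat.card_congr (Subgroup.subgroupOfEquivOfLe inf_le_left).toEquiv
  rw [← hmul, h2]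
  exact Nat.mul_le_mul_left _
    (Nat.le_of_dvd (Nat.pos_of_ne_zero Subgroup.index_ne_zero_of_finite)
      (Subgroup.relIndex_dvd_index_of_normal _ _))

end QuotData

namespace Setup

variable (S : Setup M P v s r K)
include S

/-- The odd part lies in the odd core of the centralizer. -/
theorem rC_mem (hM : IsPModular 2 M) :
    S.rC ∈ pPrimeCore 2 (C[s] : Subgroup G) := by
  classical
  haveI : Fact (Nat.Prime 2) := ⟨Nat.prime_two⟩
  haveI := S.h.comm hM P
  haveI := S.solvable hM
  haveI : Fintype (C[s] : Subgroup G) := Fintype.ofFinite _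
  haveI := H1.pPrimeCore_normal' 2 (C[s] : Subgroup G)
  haveI : Fintype ((C[s] : Subgroup G) ⧸ pPrimeCore 2 (C[s] : Subgroup G)) := Fintype.ofFinite _
  obtain ⟨Q, D⟩ := quotData P S.sP
  set π := QuotientGroup.mk' (pPrimeCore 2 (C[s] : Subgroup G)) with hπ
  have h1 := S.section_v hM
  rw [column_norm_solvable hM] at h1
  have h2 : (Nat.card (Subgroup.centralizer ({π S.rC} : Set _)) : ℤ) =
      K * (K * (nt M G).card - T M G) := by exact_mod_cast h1
  have hle := D.le_of_dvd (Subgroup.centralizer ({π S.rC} : Set _)) (by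
    rw [← Int.natCast_dvd_natCast, h2, ← S.K_eq hM]; exact dvd_mul_right _ _)
  have hQ : π S.rC ∈ Q := D.cent fun x hx =>
    Subgroup.mem_centralizer_singleton_iff.1 (hle hx)
  obtain ⟨w, hw, hwr⟩ := (D.mem _).1 hQ
  obtain ⟨j, hj⟩ := H20.FreeSylow.orderOf_eq_pow (P := P) hw
  rw [Subgroup.orderOf_coe] at hj
  have h3 : orderOf (π S.rC) = 1 := Nat.eq_one_of_dvd_coprimes
    (Nat.Coprime.pow_left j ((Nat.prime_two.coprime_iff_not_dvd).2 S.rC_odd))
    (by rw [← hwr, ← hj]; exact orderOf_map_dvd π w) (orderOf_map_dvd π S.rC)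
  exact (QuotientGroup.eq_one_iff _).1 (orderOf_eq_one_iff.1 h3)

/-- Principal block characters agree at the element and at its 2-part. -/
theorem apply_v (hM : IsPModular 2 M) {χ : IrrCharacter G} (hχ : χ ∈ principalBlock M G) :
    (χ : G → ℂ) v = (χ : G → ℂ) s := by
  have h := H20.principal_shift_core hM S.pow_two'
    (v := r) (Subgroup.mem_map.2 ⟨S.rC, S.rC_mem hM, rfl⟩) hχ
  rwa [S.eq] at h

end Setup

end H85.ConstDiff
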