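import Cfsg.Agent.H85.ConstDiff.Simple
import Cfsg.Agent.H12.Integral
import Cfsg.Agent.H24.PrincipalQuot

/-!
A constant difference `χ(1) - χ(u)`: reduction to an integer constant and to trivial odd core
(helper85).
-/

set_option autoImplicit false
set_option linter.style.haveILetI false
set_option linter.unusedSectionVars false

open Cfsg Finset

namespace H85.ConstDiff

universe u

variable {G : Type u} [Group G] [Fintype G] {M : Ideal AlgInt} [hMp : M.IsPrime]

/-- The constant is a rational integer. -/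
theorem exists_int (hM : IsPModular 2 M) {v : G} {k : ℂ} (hcore : pPrimeCore 2 G = ⊥)
    (hne : v ≠ 1) (heq : ∀ χ ∈ nt M G, (χ : G → ℂ) v = (χ : G → ℂ) 1 - k) :
    ∃ K : ℤ, Hyp M v K := by
  haveI : Fact (Nat.Prime 2) := ⟨Nat.prime_two⟩
  have hk : k ≠ 0 := by
    rintro rfl
    apply hne
    rw [← Subgroup.mem_bot, ← hcore]
    refine H60.PLenRestrict.mem_pPrimeCore_of_kernel hM fun χ hχ => ?_
    by_cases h1 : χ = H12.oneIrr G
    · rw [h1, H12.oneIrr_apply, H12.oneIrr_apply]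
    · rw [heq χ (mem_nt.2 ⟨h1, hχ⟩), sub_zero]
  have h2 : 2 ∣ Nat.card G := by
    by_contra h2
    apply hne
    have htop : (⊤ : Subgroup G) ≤ pPrimeCore 2 G := le_sSup ⟨inferInstance, by
      rw [Subgroup.card_top]; exact ((Nat.prime_two.coprime_iff_not_dvd).2 h2).symm⟩
    rw [hcore] at htop
    exact Subgroup.mem_bot.1 (htop (Subgroup.mem_top v))
  have hp : H20.pPart 2 v ≠ 1 := by
    intro hv1
    obtain ⟨w, hw⟩ := exists_prime_orderOf_dvd_card' 2 h2
    have hw1 : w ≠ 1 := fun e => by rw [e, orderOf_one] at hw; norm_num at hw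
    have hw2 : ∃ j : ℕ, orderOf w = 2 ^ j := ⟨1, by rw [hw, pow_one]⟩
    have hnc : ¬ IsConj (1 : G) (H20.pPart 2 w) := by
      rw [H20.pPart_eq_self hw2, isConj_one_right]
      exact hw1
    have hA := orth (M := M) hM (g := v) (h := w) (by rwa [hv1])
    have hB := orth (M := M) hM (g := (1 : G)) (h := w) (by rwa [pPart_one'])
    rw [sum_block_eq, H12.oneIrr_apply, H12.oneIrr_apply, one_mul] at hA hB
    have e : ∑ χ ∈ nt M G, (χ : G → ℂ) v * (χ : G → ℂ) w⁻¹ =
        ∑ χ ∈ nt M G, (χ : G → ℂ) 1 * (χ : G → ℂ) w⁻¹ -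
          k * ∑ χ ∈ nt M G, (χ : G → ℂ) w⁻¹ := by
      rw [Finset.mul_sum, ← Finset.sum_sub_distrib]
      exact Finset.sum_congr rfl fun χ hχ => by rw [heq χ hχ]; ring
    have h0 : k * ∑ χ ∈ nt M G, (χ : G → ℂ) w⁻¹ = 0 := by
      rw [e] at hA
      linear_combination hB - hA
    have hw' : ∃ j : ℕ, orderOf w⁻¹ = 2 ^ j := by rwa [orderOf_inv]
    have hT : 2 ∣ T M G := by
      have := sum_congr_one hM hw' (nt M G) (fun _ => 1)
        (by simpa using (mul_eq_zero.1 h0).resolve_left hk)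
      simpa [T] using this
    have hT' := odd_T_of_two_elt hM hw' (inv_ne_one.2 hw1) (M := M)
    omega
  have hT : 2 ∣ T M G + 1 := odd_T_of_two_elt hM (H20.exists_orderOf_pPart v) hp
  have hT0 : T M G ≠ 0 := fun e => by rw [e] at hT; omega
  -- orthogonality with the identity makes the constant rational
  have hA := orth (M := M) hM (g := v) (h := (1 : G)) (by
    rw [pPart_one']
    exact fun hc => hp (isConj_one_left.1 hc))
  rw [sum_block_eq, H12.oneIrr_apply, inv_one, H12.oneIrr_apply, one_mul] at hA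
  have e : ∑ χ ∈ nt M G, (χ : G → ℂ) v * (χ : G → ℂ) 1 = (S M G : ℂ) - k * (T M G : ℂ) := by
    rw [S, T, Int.cast_sum, Int.cast_sum, Finset.mul_sum, ← Finset.sum_sub_distrib]
    refine Finset.sum_congr rfl fun χ hχ => ?_
    rw [heq χ hχ, dg_eq]
    push_cast
    ring
  rw [e] at hA
  have hq : k = (((1 + S M G : ℤ) : ℚ) / (T M G : ℚ) : ℚ) := by
    have : (T M G : ℂ) ≠ 0 := by exact_mod_cast hT0
    push_cast
    rw [eq_div_iff this]
    linear_combination -hA
  obtain ⟨χ, hχ⟩ : (nt M G).Nonempty := by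
    rw [Finset.nonempty_iff_ne_empty]
    intro he
    exact hT0 (by rw [T, he, Finset.sum_empty])
  have hint : IsIntegral ℤ k := by
    rw [show k = (χ : G → ℂ) 1 - (χ : G → ℂ) v by rw [heq χ hχ]; ring]
    exact IsIntegral.sub (H12.IsCharacter.isIntegral (H12.isCharacter_irr χ) _)
      (H12.IsCharacter.isIntegral (H12.isCharacter_irr χ) _)
  obtain ⟨K, hK⟩ := H12.exists_int_of_isIntegral_rat (hq ▸ hint)
  refine ⟨K, hcore, hne, fun ψ hψ => ?_⟩
  rw [heq ψ hψ, dg_eq, hq, ← hK]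
  push_cast
  ring

/-- The classification for a trivial odd core. -/
theorem classify_of_core (hM : IsPModular 2 M) {v : G} {k : ℂ} (hcore : pPrimeCore 2 G = ⊥)
    (hne : v ≠ 1) (heq : ∀ χ ∈ nt M G, (χ : G → ℂ) v = (χ : G → ℂ) 1 - k) :
    (Nat.card G = 2 ∨ ∃ (F : Type) (_ : Field F) (_ : Fintype F) (n : ℕ), 2 ≤ n ∧
      Fintype.card F = 2 ^ n ∧
      Nonempty (G ≃* Matrix.ProjectiveSpecialLinearGroup (Fin 2) F)) ∧ v ^ 2 = 1 := by
  haveI : Fact (Nat.Prime 2) := ⟨Nat.prime_two⟩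
  obtain ⟨K, h⟩ := exists_int hM hcore hne heq
  obtain ⟨P⟩ : Nonempty (Sylow 2 G) := inferInstance
  obtain ⟨c, s, r, S⟩ := exists_setup hM P h
  refine ⟨S.classify hM, ?_⟩
  have h2 := S.sq_v hM
  rw [conj_pow, conj_eq_one_iff] at h2
  exact h2

section Quotient

variable (N : Subgroup G) [N.Normal] [Fintype (G ⧸ N)]

/-- The nontrivial principal characters of the quotient by an odd normal subgroup, inflated. -/
theorem inflate_mem_nt (hM : IsPModular 2 M) (hN : ¬ 2 ∣ Nat.card N) {ψ : IrrCharacter (G ⧸ N)}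
    (hψ : ψ ∈ nt M (G ⧸ N)) :
    H21.inflate N ψ ∈ principalBlock M G ∧ (H21.inflate N ψ : G → ℂ) ≠ fun _ => 1 := by
  haveI : Fact (Nat.Prime 2) := ⟨Nat.prime_two⟩
  obtain ⟨h1, h2⟩ := mem_nt.1 hψ
  refine ⟨(H24.inflate_mem_principalBlock_iff N hM hN ψ).2 h2, fun e => h1 ?_⟩
  refine Subtype.ext (funext fun q => ?_)
  obtain ⟨g, rfl⟩ := QuotientGroup.mk_surjective q
  rw [← H21.inflate_apply, e, H12.oneIrr_apply]

/-- The nontrivial principal characters are inflated from the quotient by the odd core. -/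
theorem exists_nt_deflate (hM : IsPModular 2 M) (hN : N ≤ pPrimeCore 2 G)
    (hN' : ¬ 2 ∣ Nat.card N) {χ : IrrCharacter G} (hχ : χ ∈ principalBlock M G)
    (h1 : (χ : G → ℂ) ≠ fun _ => 1) :
    ∃ ψ ∈ nt M (G ⧸ N), H21.inflate N ψ = χ := by
  haveI : Fact (Nat.Prime 2) := ⟨Nat.prime_two⟩
  obtain ⟨ψ, rfl⟩ := H21.exists_deflate N χ
    fun n hn => H20.principal_pPrimeCore_ker hM hχ (hN hn)
  refine ⟨ψ, mem_nt.2 ⟨fun e => h1 (funext fun g => ?_),
    (H24.inflate_mem_principalBlock_iff N hM hN' ψ).1 hχ⟩, rfl⟩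
  rw [H21.inflate_apply, e, H12.oneIrr_apply]

end Quotient

end H85.ConstDiff
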