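import Cfsg.Agent.H85.ConstDiff.Quot
import Cfsg.Agent.H85.ConstDiff.Counting

/-!
A constant difference `χ(1) - χ(u)`: every involution of the Sylow subgroup is regular (helper85).
-/

set_option autoImplicit false
set_option linter.style.haveILetI false
set_option linter.unusedSectionVars false

open Cfsg Finset
open scoped ComplexConjugate

namespace H85.ConstDiff

universe u

local notation "C[" x "]" => (Subgroup.centralizer ({x} : Set _))

/-- A combination of characters with integral coefficients restricts to a cyclic group with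
integral norm. -/
theorem norm_cyclic_ge {X : Type u} [Group X] [Fintype X] {ι : Type*} (s : Finset ι) (c : ι → ℤ)
    (f : ι → X → ℂ) (hf : ∀ i ∈ s, IsCharacter X (f i)) (Z : Subgroup X) [Fintype Z]
    (h1 : ∑ i ∈ s, (c i : ℂ) * f i 1 ≠ 0) :
    (Nat.card Z : ℝ) ≤ ∑ x : Z, Complex.normSq (∑ i ∈ s, (c i : ℂ) * f i x) := by
  classical
  set F : Z → ℂ := fun x => ∑ i ∈ s, (c i : ℂ) * f i x with hF
  have hnat : ∀ i : s, ∀ j : s, ∃ n : ℕ,
      classInner (fun x : Z => f i x) (fun x : Z => f j x) = (n : ℂ) := fun i j =>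
    H12.IsCharacter.classInner_nat (H12.IsCharacter.res (hf i i.2) Z)
      (H12.IsCharacter.res (hf j j.2) Z)
  choose n hn using hnat
  set I : ℤ := ∑ i : s, ∑ j : s, c i * c j * (n i j : ℤ) with hI
  have hsum : ((∑ x : Z, Complex.normSq (F x) : ℝ) : ℂ) = ((Nat.card Z : ℂ)) * (I : ℂ) := by
    rw [Complex.ofReal_sum, hI]
    simp only [← Complex.mul_conj, hF, map_sum, map_mul, map_intCast, Finset.sum_mul_sum]
    push_cast
    rw [Finset.sum_comm, Finset.mul_sum, ← Finset.sum_coe_sort s]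
    refine Finset.sum_congr rfl fun i _ => ?_
    rw [Finset.sum_comm, Finset.mul_sum, ← Finset.sum_coe_sort s]
    refine Finset.sum_congr rfl fun j _ => ?_
    rw [← hn i j]
    rw [show (Nat.card Z : ℂ) * ((c i : ℂ) * (c j : ℂ) *
        classInner (fun x : Z => f i x) (fun x : Z => f j x)) = (c i : ℂ) * (c j : ℂ) *
        ((Nat.card Z : ℂ) * classInner (fun x : Z => f i x) (fun x : Z => f j x)) by ring,
      ← H12.sum_mul_conj_eq_card_mul, Finset.mul_sum]
    exact Finset.sum_congr rfl fun x _ => by ring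
  have hpos : 0 < ∑ x : Z, Complex.normSq (F x) := by
    refine lt_of_lt_of_le (Complex.normSq_pos.2 ?_)
      (Finset.single_le_sum (f := fun x => Complex.normSq (F x))
        (fun x _ => Complex.normSq_nonneg _) (Finset.mem_univ (1 : Z)))
    simpa [hF] using h1
  have hreal : ∑ x : Z, Complex.normSq (F x) = (Nat.card Z : ℝ) * (I : ℝ) := by exact_mod_cast hsum
  rw [hreal] at hpos
  have hZ : (0 : ℝ) < (Nat.card Z : ℝ) := by exact_mod_cast Nat.card_pos
  have hI0 : (0 : ℝ) < (I : ℝ) := pos_of_mul_pos_right hpos hZ.le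
  have hI1 : (1 : ℝ) ≤ (I : ℝ) := by
    have : (0 : ℤ) < I := by exact_mod_cast hI0
    exact_mod_cast this
  calc (Nat.card Z : ℝ) = (Nat.card Z : ℝ) * 1 := (mul_one _).symm
    _ ≤ (Nat.card Z : ℝ) * (I : ℝ) := mul_le_mul_of_nonneg_left hI1 hZ.le
    _ = _ := hreal.symm

variable {G : Type u} [Group G] [Fintype G] {M : Ideal AlgInt} [hMp : M.IsPrime]
  {P : Sylow 2 G} {v s r : G} {K : ℤ}

namespace Setup

variable (S : Setup M P v s r K)
include S

theorem exists_prime_data (hM : IsPModular 2 M) {X : Type u} [Group X] [Fintype X]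
    {π : (C[s] : Subgroup G) →* X} {Q : Subgroup X} (D : QuotData P s π Q) {r₀ : ℕ}
    (hr : r₀.Prime) (hdvd : r₀ ∣ Q.index) :
    ∃ (z : (C[s] : Subgroup G)) (q₀ : ℕ), ¬ 2 ∣ orderOf z ∧ orderOf (π z) = r₀ ∧
      q₀ ^ r₀ = Nat.card (P : Subgroup G) ∧
      ∀ x ∈ Subgroup.zpowers (π z), x ≠ 1 →
        Nat.card (Subgroup.centralizer ({x} : Set X)) ≤ q₀ * Q.index := by
  classical
  haveI : Fact (Nat.Prime 2) := ⟨Nat.prime_two⟩
  haveI hc := S.h.comm hM P
  haveI : Fact r₀.Prime := ⟨hr⟩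
  have hr2 : ¬ 2 ∣ r₀ := fun h => D.odd.not_two_dvd_nat (h.trans hdvd)
  obtain ⟨x, hx⟩ := exists_prime_orderOf_dvd_card' r₀ (hdvd.trans (Subgroup.index_dvd_card Q))
  obtain ⟨y, hy, hyx⟩ := D.cover x
  set z := H20.qPart 2 y with hz
  have hzy : z ∈ Subgroup.zpowers y := H20.mem_zpowers_qPart y
  have hzU : (z : G) ∈ stab P s := by
    obtain ⟨k, hk⟩ := Subgroup.mem_zpowers_iff.1 hzy
    rw [← hk, Subgroup.coe_zpow]
    exact Subgroup.zpow_mem _ hy k
  have hzx : π z = x := by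
    obtain ⟨j, hj⟩ := H20.exists_orderOf_pPart (p := 2) y
    have h1 : orderOf (π (H20.pPart 2 y)) ∣ r₀ := by
      obtain ⟨k, hk⟩ := Subgroup.mem_zpowers_iff.1 (H20.mem_zpowers_pPart (p := 2) y)
      refine orderOf_dvd_of_pow_eq_one ?_
      rw [← hk, map_zpow, hyx, ← zpow_natCast, ← zpow_mul, mul_comm, zpow_mul, zpow_natCast, ← hx,
        pow_orderOf_eq_one, one_zpow]
    have h2 : π (H20.pPart 2 y) = 1 := orderOf_eq_one_iff.1 (Nat.eq_one_of_dvd_coprimes
      (Nat.Coprime.pow_left j ((Nat.prime_two.coprime_iff_not_dvd).2 hr2))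
      (hj ▸ orderOf_map_dvd π _) h1)
    conv_rhs => rw [← hyx, ← H20.pPart_mul_qPart (p := 2) y, map_mul, h2, one_mul]
  set U := Subgroup.zpowers (z : G) with hU
  have hUs : U ≤ stab P s := Subgroup.zpowers_le.2 hzU
  set CP := Subgroup.centralizer ((P : Subgroup G) : Set G) with hCP
  have hpow := S.fix_pow' hM U hUs
  rw [← hCP] at hpow
  have hxQ : x ∉ Q := by
    intro h
    obtain ⟨j, hj⟩ := IsPGroup.iff_card.1 P.isPGroup'
    have h1 : r₀ ∣ 2 ^ j := by
      rw [← hj, ← D.card, ← hx]; exact Subgroup.orderOf_dvd_natCard _ h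
    exact hr2 ((Nat.prime_dvd_prime_iff_eq hr Nat.prime_two).1 (hr.dvd_of_dvd_pow h1) ▸ dvd_rfl)
  have hrel : CP.relIndex U = r₀ := by
    haveI : Fintype U := Fintype.ofFinite _
    let g : U →* X :=
      π.comp (Subgroup.inclusion (show U ≤ (C[s] : Subgroup G) from hUs.trans inf_le_right))
    haveI := D.normal
    let g' : U →* X ⧸ Q := (QuotientGroup.mk' Q).comp g
    have hgen : g' ⟨(z : G), Subgroup.mem_zpowers _⟩ = (x : X ⧸ Q) := by
      show ((π z : X) : X ⧸ Q) = _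
      rw [hzx]
    have hrange : g'.range = Subgroup.zpowers (x : X ⧸ Q) := by
      refine le_antisymm ?_ (Subgroup.zpowers_le.2 ⟨_, hgen⟩)
      rintro _ ⟨⟨w, hw⟩, rfl⟩
      obtain ⟨k, rfl⟩ := Subgroup.mem_zpowers_iff.1 hw
      refine Subgroup.mem_zpowers_iff.2 ⟨k, ?_⟩
      rw [← hgen, ← map_zpow]
      congr 1
    have hox : orderOf (x : X ⧸ Q) = r₀ := by
      refine orderOf_eq_prime ?_ fun h => hxQ ((QuotientGroup.eq_one_iff x).1 h)
      rw [← QuotientGroup.mk_pow, ← hx, pow_orderOf_eq_one]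
      rfl
    have hker : g'.ker = CP.subgroupOf U := by
      ext w
      rw [MonoidHom.mem_ker, Subgroup.mem_subgroupOf]
      show ((π _ : X) : X ⧸ Q) = 1 ↔ _
      rw [QuotientGroup.eq_one_iff]
      set w' : (C[s] : Subgroup G) :=
        Subgroup.inclusion (hUs.trans inf_le_right) w with hw'
      constructor
      · intro hw b hb
        let b' : (C[s] : Subgroup G) := ⟨b, D.le hb⟩
        obtain ⟨a, ha, hπa⟩ := (D.mem _).1 hw
        have hab : a * b' = b' * a := Subtype.ext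
          (congrArg Subtype.val (hc.is_comm.comm ⟨(a : G), ha⟩ ⟨b, hb⟩) :)
        have hconj : ((w' * b' * w'⁻¹ * b'⁻¹ : (C[s] : Subgroup G)) : G) ∈ (P : Subgroup G) :=
          mul_mem ((Subgroup.mem_normalizer_iff.1 (hUs w.2).1 b).1 hb) (inv_mem hb)
        have h1 : π (w' * b' * w'⁻¹ * b'⁻¹) = 1 := by
          rw [map_mul, map_mul, map_mul, map_inv, map_inv, ← hπa, ← map_mul, hab, map_mul,
            mul_inv_cancel_right, mul_inv_cancel]
        have h2 := congrArg Subtype.val (D.inj _ hconj h1)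
        change (w : G) * b * (w : G)⁻¹ * b⁻¹ = 1 at h2
        exact (mul_inv_eq_iff_eq_mul.1 (mul_inv_eq_one.1 h2)).symm
      · intro hw
        refine D.cent fun b hb => ?_
        obtain ⟨b', hb', rfl⟩ := (D.mem b).1 hb
        rw [← map_mul, ← map_mul]
        congr 1
        exact Subtype.ext (hw _ hb')
    rw [Subgroup.relIndex, ← hker, Subgroup.index_ker, hrange, Nat.card_zpowers, hox]
  rw [hrel] at hpow
  refine ⟨z, Nat.card ((P : Subgroup G) ⊓ Subgroup.centralizer (U : Set G) : Subgroup G),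
    H20.not_dvd_orderOf_qPart y, hzx ▸ hx, hpow, fun w hw hw1 => ?_⟩
  have hgen : Subgroup.zpowers w = Subgroup.zpowers (π z) := by
    refine Subgroup.eq_of_le_of_card_ge (Subgroup.zpowers_le.2 hw) ?_
    rw [Nat.card_zpowers, Nat.card_zpowers, hzx, hx]
    have h1 : orderOf w ∣ r₀ := by
      rw [← hx, ← hzx, ← Nat.card_zpowers (π z)]; exact Subgroup.orderOf_dvd_natCard _ hw
    rcases (Nat.dvd_prime hr).1 h1 with h | h
    · exact absurd (orderOf_eq_one_iff.1 h) hw1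
    · exact h.ge
  have hceq : Subgroup.centralizer ({w} : Set X) = Subgroup.centralizer ({π z} : Set X) := by
    rw [← Subgroup.centralizer_closure, ← Subgroup.zpowers_eq_closure, hgen,
      Subgroup.zpowers_eq_closure, Subgroup.centralizer_closure]
  rw [hceq]
  refine (D.card_le _).trans (Nat.mul_le_mul_right _ (le_of_eq ?_))
  symm
  have hUC : ∀ b : (C[s] : Subgroup G), (b : G) ∈ (P : Subgroup G) →
      ((b : G) ∈ Subgroup.centralizer (U : Set G) ↔ π b * π z = π z * π b) := by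
    intro b hb
    rw [hU, Subgroup.zpowers_eq_closure, Subgroup.centralizer_closure,
      Subgroup.mem_centralizer_singleton_iff]
    constructor
    · intro h
      rw [← map_mul, ← map_mul, show b * z = z * b from Subtype.ext h]
    · intro h
      have hconj : ((z * b * z⁻¹ * b⁻¹ : (C[s] : Subgroup G)) : G) ∈ (P : Subgroup G) :=
        mul_mem ((Subgroup.mem_normalizer_iff.1 hzU.1 (b : G)).1 hb) (inv_mem hb)
      have h1 : π (z * b * z⁻¹ * b⁻¹) = 1 := by
        rw [map_mul, map_mul, map_mul, map_inv, map_inv, ← h, mul_inv_cancel_right, mul_inv_cancel]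
      have h2 := congrArg Subtype.val (D.inj _ hconj h1)
      change (z : G) * (b : G) * (z : G)⁻¹ * (b : G)⁻¹ = 1 at h2
      exact (mul_inv_eq_iff_eq_mul.1 (mul_inv_eq_one.1 h2)).symm
  let φ : ((P : Subgroup G) ⊓ Subgroup.centralizer (U : Set G) : Subgroup G) →
      (Subgroup.centralizer ({π z} : Set X) ⊓ Q : Subgroup X) := fun b =>
    ⟨π ⟨b, D.le b.2.1⟩, Subgroup.mem_centralizer_singleton_iff.2
      ((hUC ⟨b, D.le b.2.1⟩ b.2.1).1 b.2.2), (D.mem _).2 ⟨_, b.2.1, rfl⟩⟩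
  refine Nat.card_eq_of_bijective φ ⟨fun a b h => ?_, fun x => ?_⟩
  · have h1 : π (⟨a, D.le a.2.1⟩ * ⟨b, D.le b.2.1⟩⁻¹) = 1 := by
      rw [map_mul, map_inv, show π ⟨a, D.le a.2.1⟩ = π ⟨b, D.le b.2.1⟩ from congrArg Subtype.val h,
        mul_inv_cancel]
    exact Subtype.ext (mul_inv_eq_one.1
      (congrArg Subtype.val (D.inj _ (show (a : G) * (b : G)⁻¹ ∈ (P : Subgroup G) from
        mul_mem a.2.1 (inv_mem b.2.1)) h1)))
  · obtain ⟨b, hb, hbx⟩ := (D.mem _).1 x.2.2
    refine ⟨⟨b, hb, (hUC b hb).2 ?_⟩, Subtype.ext hbx⟩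
    rw [hbx]
    exact Subgroup.mem_centralizer_singleton_iff.1 x.2.1

/-- The normalizer elements fixing the involution centralize the Sylow subgroup. -/
theorem stab_le (hM : IsPModular 2 M) :
    stab P s ≤ Subgroup.centralizer ((P : Subgroup G) : Set G) := by
  classical
  haveI : Fact (Nat.Prime 2) := ⟨Nat.prime_two⟩
  haveI := S.h.comm hM P
  haveI := S.solvable hM
  haveI : Fintype (C[s] : Subgroup G) := Fintype.ofFinite _
  haveI := H1.pPrimeCore_normal' 2 (C[s] : Subgroup G)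
  haveI : Fintype ((C[s] : Subgroup G) ⧸ pPrimeCore 2 (C[s] : Subgroup G)) := Fintype.ofFinite _
  obtain ⟨Q, D⟩ := quotData P S.sP
  set X := (C[s] : Subgroup G) ⧸ pPrimeCore 2 (C[s] : Subgroup G)
  set π := QuotientGroup.mk' (pPrimeCore 2 (C[s] : Subgroup G)) with hπ
  set f := Q.index with hf
  by_contra hne
  have hf0 : 0 < f := Nat.pos_of_ne_zero Subgroup.index_ne_zero_of_finite
  have hf1 : f ≠ 1 := fun h => hne (Subgroup.relIndex_eq_one.1 (D.index_eq ▸ h))
  obtain ⟨r₀, hr, hrf⟩ := Nat.exists_prime_and_dvd hf1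
  have hr3 : 3 ≤ r₀ := by
    rcases Nat.lt_or_ge r₀ 3 with h | h
    · have h2 := hr.two_le
      exact absurd (show 2 ∣ f from (show r₀ = 2 by omega) ▸ hrf) D.odd.not_two_dvd_nat
    · exact h
  obtain ⟨z, q₀, hzodd, hzr, hq₀, hcent⟩ := S.exists_prime_data hM D hr (by rw [← hf]; exact hrf)
  obtain ⟨n, hn⟩ := IsPGroup.iff_card.1 P.isPGroup'
  -- the whole group of field automorphisms is small
  have hfle : 2 ^ f ≤ 2 ^ n := by
    have h := S.fix_pow' hM (stab P s) le_rfl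
    rw [← D.index_eq, ← hf, hn] at h
    rw [← h]
    refine Nat.pow_le_pow_left ?_ _
    haveI : Nontrivial ((P : Subgroup G) ⊓ Subgroup.centralizer (stab P s : Set G) : Subgroup G) :=
      ⟨⟨⟨s, S.sP, fun w hw => Subgroup.mem_centralizer_singleton_iff.1 hw.2⟩, 1,
        fun e => S.ne_one (congrArg Subtype.val e)⟩⟩
    exact Finite.one_lt_card
  have hfn : f ≤ n := (Nat.pow_le_pow_iff_right (by norm_num)).1 hfle
  obtain ⟨m, hm⟩ : ∃ m, q₀ = 2 ^ m := by
    have : q₀ ∣ 2 ^ n := hn ▸ hq₀ ▸ dvd_pow_self q₀ hr.ne_zero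
    obtain ⟨m, -, hm⟩ := (Nat.dvd_prime_pow Nat.prime_two).1 this
    exact ⟨m, hm⟩
  have hnm : n = r₀ * m := by
    rw [hm, ← pow_mul, hn] at hq₀
    exact (Nat.pow_right_injective le_rfl hq₀).symm.trans (mul_comm _ _)
  -- values at `v` are values at `s`
  set d : IrrCharacter G → ℤ := fun χ => dg χ - K with hd
  have hds : ∀ χ ∈ nt M G, (χ : G → ℂ) s = (d χ : ℂ) := fun χ hχ => by
    rw [← S.apply_v hM (mem_nt.1 hχ).2, S.h.eq χ hχ]
  have hqK := S.K_eq hM
  have h1 : ∀ y : (C[s] : Subgroup G), ¬ 2 ∣ orderOf y →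
      ∑ χ ∈ H22.blockFinset (principalBlock M G),
        (χ : G → ℂ) (s * (y : G)) * conj ((χ : G → ℂ) (s * (y : G))) =
      (Nat.card (Subgroup.centralizer ({π y} : Set X)) : ℂ) := fun y hy => by
    rw [S.section_norm hM y hy, column_norm_solvable (G := (C[s] : Subgroup G)) hM]
    rfl
  have hdef : (K * (nt M G).card - T M G) = (f : ℤ) := by
    have h := S.section_norm hM 1 (by rw [orderOf_one]; norm_num)
    rw [OneMemClass.coe_one, mul_one, column_norm_solvable (G := (C[s] : Subgroup G)) hM, QuotientGroup.mk_one,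
      show Subgroup.centralizer ({(1 : X)} : Set X) = ⊤ from
        (Subgroup.eq_top_iff' _).2 fun x => Subgroup.mem_centralizer_singleton_iff.2 (by simp),
      Subgroup.card_top] at h
    have h2 := S.h.norm_sum hM
    rw [Finset.sum_congr rfl fun χ hχ => by rw [S.apply_v hM (H22.mem_blockFinset.1 hχ)], h] at h2
    have h3 : (Nat.card X : ℤ) = K * (K * (nt M G).card - T M G) := by exact_mod_cast h2
    rw [← Subgroup.card_mul_index Q, D.card, Nat.cast_mul, ← hqK] at h3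
    exact (mul_left_cancel₀ (ne_of_gt (S.h.K_pos hM)) h3).symm
  have hsum : ∑ χ ∈ nt M G, d χ = -(f : ℤ) := by rw [← hdef]; exact S.sum_vals
  have hsq : ∑ χ ∈ nt M G, d χ * d χ = (Nat.card (P : Subgroup G) : ℤ) * f - 1 := by
    rw [← hdef, ← hqK]; exact S.sum_vals_sq hM
  have hge : ∀ χ ∈ nt M G, -1 ≤ d χ := fun χ hχ => by
    have := S.dg_ge hM hχ; simp only [hd]; omega
  -- the negative values
  set Ng := (nt M G).filter fun χ => d χ = -1 with hNg
  haveI : Fintype (Subgroup.zpowers (π z)) := Fintype.ofFinite _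
  set Z := Subgroup.zpowers (π z) with hZ
  have hlift : ∀ x : Z, ∃ y : (C[s] : Subgroup G), ¬ 2 ∣ orderOf y ∧ π y = (x : X) := by
    intro x
    obtain ⟨k, hk⟩ := Subgroup.mem_zpowers_iff.1 x.2
    refine ⟨z ^ k, fun h => hzodd (h.trans ?_), by rw [map_zpow, hk]⟩
    exact orderOf_dvd_of_mem_zpowers (Subgroup.mem_zpowers_iff.2 ⟨k, rfl⟩)
  choose y hy hπy using hlift
  have hy1 : ∀ χ ∈ principalBlock M G, (χ : G → ℂ) (s * (y 1 : G)) = (χ : G → ℂ) s := by
    intro χ hχ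
    refine H20.principal_shift_core hM S.pow_two'
      (Subgroup.mem_map.2 ⟨y 1, ?_, rfl⟩) hχ
    exact (QuotientGroup.eq_one_iff _).1 (hπy 1)
  set Φ : IrrCharacter G → Z → ℝ := fun χ x =>
    Complex.normSq ((χ : G → ℂ) (s * (y x : G))) with hΦ
  have hlow : ∀ χ ∈ Ng, (r₀ : ℝ) ≤ ∑ x : Z, Φ χ x := by
    intro χ hχ
    obtain ⟨hχn, hd1⟩ := Finset.mem_filter.1 hχ
    obtain ⟨c, hc⟩ := S.exists_coeff hM (mem_nt.1 hχn).2
    have hval : ∀ x : Z, (χ : G → ℂ) (s * (y x : G)) = ∑ φ : IrrCharacter X,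
        (c (H21.inflate (pPrimeCore 2 (C[s] : Subgroup G)) φ) : ℂ) * (φ : X → ℂ) x := fun x => by
      rw [hc _ (hy x), sum_block_solvable hM]
      refine Finset.sum_congr rfl fun φ _ => ?_
      rw [H21.inflate_apply, ← hπy x]
      rfl
    have h2 := norm_cyclic_ge (Finset.univ : Finset (IrrCharacter X))
      (fun φ => c (H21.inflate (pPrimeCore 2 (C[s] : Subgroup G)) φ))
      (fun φ => (φ : X → ℂ)) (fun φ _ => H12.isCharacter_irr φ) Z (by
        rw [← OneMemClass.coe_one Z, ← hval 1, hy1 χ (mem_nt.1 hχn).2, hds χ hχn, hd1]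
        norm_num)
    rw [show Nat.card Z = r₀ from (Nat.card_zpowers _).trans hzr] at h2
    refine h2.trans (le_of_eq (Finset.sum_congr rfl fun x _ => ?_))
    simp only [hΦ, hval]
  have hupp : ∀ x ∈ (Finset.univ : Finset Z).erase 1,
      ∑ χ ∈ nt M G, Φ χ x ≤ ((q₀ * f : ℕ) : ℝ) - 1 := by
    intro x hx
    have h := h1 (y x) (hy x)
    rw [hπy, sum_block_eq, H12.oneIrr_apply, map_one, mul_one] at h
    simp only [Complex.mul_conj, ← Complex.ofReal_sum] at h
    have h2 : (1 : ℝ) + ∑ χ ∈ nt M G, Φ χ x =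
        (Nat.card (Subgroup.centralizer ({(x : X)} : Set X)) : ℝ) := by exact_mod_cast h
    have h3 : (Nat.card (Subgroup.centralizer ({(x : X)} : Set X)) : ℝ) ≤ ((q₀ * f : ℕ) : ℝ) := by
      exact_mod_cast hcent (x : X) x.2 fun e => (Finset.mem_erase.1 hx).1 (Subtype.ext e)
    linarith
  have hZc : ((Finset.univ : Finset Z).erase 1).card = r₀ - 1 := by
    rw [Finset.card_erase_of_mem (Finset.mem_univ _), Finset.card_univ, ← Nat.card_eq_fintype_card,
      hZ, Nat.card_zpowers, hzr]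
  have hr1 : (0 : ℝ) < (r₀ : ℝ) - 1 := by
    have : (3 : ℝ) ≤ (r₀ : ℝ) := by exact_mod_cast hr3
    linarith
  have hA : (Ng.card : ℝ) * ((r₀ : ℝ) - 1) ≤ ((r₀ : ℝ) - 1) * (((q₀ * f : ℕ) : ℝ) - 1) := by
    calc (Ng.card : ℝ) * ((r₀ : ℝ) - 1) = ∑ _χ ∈ Ng, ((r₀ : ℝ) - 1) := by
          rw [Finset.sum_const, nsmul_eq_mul]
      _ ≤ ∑ χ ∈ Ng, ∑ x ∈ (Finset.univ : Finset Z).erase 1, Φ χ x := by
          refine Finset.sum_le_sum fun χ hχ => ?_
          obtain ⟨hχn, hd1⟩ := Finset.mem_filter.1 hχ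
          have h := hlow χ hχ
          rw [← Finset.add_sum_erase _ _ (Finset.mem_univ (1 : Z))] at h
          have h0 : Φ χ 1 = 1 := by
            simp only [hΦ]
            rw [hy1 χ (mem_nt.1 hχn).2, hds χ hχn, hd1]
            norm_num
          linarith
      _ ≤ ∑ χ ∈ nt M G, ∑ x ∈ (Finset.univ : Finset Z).erase 1, Φ χ x :=
          Finset.sum_le_sum_of_subset_of_nonneg (Finset.filter_subset _ _)
            fun χ _ _ => Finset.sum_nonneg fun x _ => Complex.normSq_nonneg _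
      _ = ∑ x ∈ (Finset.univ : Finset Z).erase 1, ∑ χ ∈ nt M G, Φ χ x := Finset.sum_comm
      _ ≤ ∑ x ∈ (Finset.univ : Finset Z).erase 1, (((q₀ * f : ℕ) : ℝ) - 1) := Finset.sum_le_sum hupp
      _ = _ := by rw [Finset.sum_const, hZc, nsmul_eq_mul, Nat.cast_sub hr.one_le, Nat.cast_one]
  have hA' : (Ng.card : ℝ) ≤ ((q₀ * f : ℕ) : ℝ) - 1 := by nlinarith
  have hA'' : (Ng.card : ℤ) ≤ ((q₀ * f : ℕ) : ℤ) - 1 := by
    have : (Ng.card : ℝ) + 1 ≤ ((q₀ * f : ℕ) : ℝ) := by linarith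
    have h2 : Ng.card + 1 ≤ q₀ * f := by exact_mod_cast this
    have h3 : ((Ng.card : ℤ) + 1) ≤ ((q₀ * f : ℕ) : ℤ) := by exact_mod_cast h2
    linarith
  have hm1 : 1 ≤ m := by
    by_contra h
    have : m = 0 := by omega
    rw [this, mul_zero] at hnm
    omega
  have hfA : (f : ℤ) ≤ ((q₀ * f : ℕ) : ℤ) - 1 := by
    have : 2 ≤ q₀ := hm ▸ Nat.le_self_pow (by omega) 2
    have h3 : 2 * f ≤ q₀ * f := Nat.mul_le_mul_right f this
    have h4 : ((2 * f : ℕ) : ℤ) ≤ ((q₀ * f : ℕ) : ℤ) := by exact_mod_cast h3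
    push_cast at h4 ⊢
    omega
  have hb := count_bound (nt M G) d hge hsum hsq hA'' hfA
  refine count_absurd hr3 hm1 hf0 (hnm ▸ hfn) ?_
  rw [hn, hnm, hm] at hb
  push_cast at hb ⊢
  linarith

/-- Every involution of the Sylow subgroup is regular. -/
theorem reg (hM : IsPModular 2 M) {x : G} (hx : x ∈ (P : Subgroup G)) (hx1 : x ≠ 1) :
    H85.AbTwo.Reg (P : Subgroup G) x := by
  intro n hn hnx
  obtain ⟨g, hg, hgs⟩ := S.trans' hM x hx s S.sP hx1 S.ne_one
  have h1 : g * n * g⁻¹ ∈ stab P s := by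
    refine ⟨show g * n * g⁻¹ ∈ Subgroup.normalizer ((P : Subgroup G) : Set G) from
      mul_mem (mul_mem hg hn) (inv_mem hg), Subgroup.mem_centralizer_singleton_iff.2 ?_⟩
    refine mul_inv_eq_iff_eq_mul.1 ?_
    rw [← hgs]
    calc g * n * g⁻¹ * (g * x * g⁻¹) * (g * n * g⁻¹)⁻¹ = g * (n * x * n⁻¹) * g⁻¹ := by group
      _ = _ := by rw [hnx]
  intro w hw
  have h2 := S.stab_le hM h1 (g * w * g⁻¹) ((Subgroup.mem_normalizer_iff.1 hg w).1 hw)
  exact mul_left_cancel (a := g) (mul_right_cancel (b := g⁻¹) (by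
    calc g * (w * n) * g⁻¹ = g * w * g⁻¹ * (g * n * g⁻¹) := by group
      _ = g * n * g⁻¹ * (g * w * g⁻¹) := h2
      _ = g * (n * w) * g⁻¹ := by group))

end Setup

end H85.ConstDiff
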