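import Cfsg.Agent.H85.ConstDiff.Solvable
import Cfsg.Agent.H85.AbTwo.Central
import Cfsg.Agent.H17.CharTools

/-!
A constant difference `χ(1) - χ(u)`: the setting with the 2-part in a fixed Sylow subgroup, and
the section of the involution (helper85).
-/

set_option autoImplicit false
set_option linter.style.haveILetI false
set_option linter.unusedSectionVars false

open Cfsg Finset
open scoped ComplexConjugate

namespace H85.ConstDiff

universe u

local notation "C[" x "]" => (Subgroup.centralizer ({x} : Set _))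

variable {G : Type u} [Group G] [Fintype G] {M : Ideal AlgInt} [hMp : M.IsPrime]

/-- The element is `s * r` with `s` an involution of the Sylow subgroup. -/
structure Setup (M : Ideal AlgInt) (P : Sylow 2 G) (v s r : G) (K : ℤ) : Prop where
  h : Hyp M v K
  sP : s ∈ (P : Subgroup G)
  two : orderOf s = 2
  eq : s * r = v
  cm : r * s = s * r
  odd : ¬ 2 ∣ orderOf r

variable {P : Sylow 2 G} {v s r : G} {K : ℤ}

theorem exists_setup (hM : IsPModular 2 M) (P : Sylow 2 G) (h : Hyp M v K) :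
    ∃ c s r : G, Setup M P (c * v * c⁻¹) s r K := by
  haveI : Fact (Nat.Prime 2) := ⟨Nat.prime_two⟩
  obtain ⟨x, hx, hconj⟩ := H20.FreeSylow.exists_isConj_mem (P := P)
    (H20.exists_orderOf_pPart (p := 2) v)
  obtain ⟨c, hc⟩ := _root_.isConj_iff.1 hconj
  refine ⟨c, x, c * H20.qPart 2 v * c⁻¹, ⟨⟨h.core, fun e => h.ne (conj_eq_one_iff.1 e),
    fun χ hχ => ?_⟩, hx, ?_, ?_, ?_, ?_⟩⟩
  · rw [H12.irr_isClassFunction χ v c]; exact h.eq χ hχ
  · rw [← hc, H20.orderOf_conj', h.orderOf_pPart hM]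
  · rw [← hc]
    calc c * H20.pPart 2 v * c⁻¹ * (c * H20.qPart 2 v * c⁻¹) =
          c * (H20.pPart 2 v * H20.qPart 2 v) * c⁻¹ := by group
      _ = _ := by rw [H20.pPart_mul_qPart]
  · rw [← hc]
    calc c * H20.qPart 2 v * c⁻¹ * (c * H20.pPart 2 v * c⁻¹) =
          c * (H20.qPart 2 v * H20.pPart 2 v) * c⁻¹ := by group
      _ = c * (H20.pPart 2 v * H20.qPart 2 v) * c⁻¹ := by
          rw [(H20.commute_pPart_qPart (p := 2) v).eq]
      _ = _ := by group
  · rw [H20.orderOf_conj']; exact H20.not_dvd_orderOf_qPart v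

namespace Setup

variable (S : Setup M P v s r K)
include S

theorem ne_one : s ≠ 1 := fun e => by
  have := S.two
  rw [e, orderOf_one] at this
  norm_num at this

theorem pow_two' : ∃ k : ℕ, orderOf s = 2 ^ k := ⟨1, by rw [S.two, pow_one]⟩

/-- The odd part, in the centralizer. -/
def rC (_S : Setup M P v s r K) : (C[s] : Subgroup G) :=
  ⟨r, Subgroup.mem_centralizer_singleton_iff.2 _S.cm⟩

theorem rC_odd : ¬ 2 ∣ orderOf S.rC := by
  rw [rC, Subgroup.orderOf_mk]; exact S.odd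

theorem trans' (hM : IsPModular 2 M) : ∀ x ∈ (P : Subgroup G), ∀ y ∈ (P : Subgroup G), x ≠ 1 →
    y ≠ 1 → ∃ n ∈ Subgroup.normalizer ((P : Subgroup G) : Set G), n * x * n⁻¹ = y :=
  fun _ hx _ hy hx1 hy1 => S.h.exists_norm hM P hx hy hx1 hy1

theorem fix_pow' (hM : IsPModular 2 M) (U : Subgroup G) (hU : U ≤ stab P s) :
    Nat.card ((P : Subgroup G) ⊓ Subgroup.centralizer (U : Set G) : Subgroup G) ^
      (Subgroup.centralizer ((P : Subgroup G) : Set G)).relIndex U =
        Nat.card (P : Subgroup G) :=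
  fix_pow P (fun _ hx => S.h.sq_one hM P hx) (S.trans' hM) S.sP S.ne_one U
    (hU.trans inf_le_left) (fun _ hn => stab_fix (hU hn))

theorem K_eq (hM : IsPModular 2 M) : K = (Nat.card (P : Subgroup G) : ℤ) :=
  (S.h.main_degree S.sP S.two hM).1

theorem dg_ge (hM : IsPModular 2 M) {χ : IrrCharacter G} (hχ : χ ∈ nt M G) : K - 1 ≤ dg χ :=
  (S.h.main_degree S.sP S.two hM).2.1 χ hχ

/-- The sum of the negatives of the nontrivial values. -/
theorem sum_vals : ∑ χ ∈ nt M G, (dg χ - K) = -(K * (nt M G).card - T M G) := by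
  rw [T, Finset.sum_sub_distrib, Finset.sum_const, nsmul_eq_mul]
  ring

theorem sum_vals_sq (hM : IsPModular 2 M) :
    ∑ χ ∈ nt M G, (dg χ - K) * (dg χ - K) = K * (K * (nt M G).card - T M G) - 1 := by
  have h1 := S.h.norm_sum hM
  rw [sum_block_eq, H12.oneIrr_apply, map_one, mul_one] at h1
  have e : ∀ χ ∈ nt M G, (χ : G → ℂ) v * conj ((χ : G → ℂ) v) =
      (((dg χ - K) * (dg χ - K) : ℤ) : ℂ) := fun χ hχ => by
    rw [S.h.eq χ hχ, map_intCast]; push_cast; ring
  rw [Finset.sum_congr rfl e, ← Int.cast_sum, ← Int.cast_one, ← Int.cast_add] at h1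
  have h2 : 1 + ∑ χ ∈ nt M G, (dg χ - K) * (dg χ - K) = K * (K * (nt M G).card - T M G) := by
    exact_mod_cast h1
  linarith

theorem odd_defect (hM : IsPModular 2 M) : 2 ∣ (K * (nt M G).card - T M G) + 1 := by
  have h1 := S.h.odd_T hM
  have h2 := dvd_mul_of_dvd_left (S.h.even_K hM) ((nt M G).card : ℤ)
  omega

/-- The section of `s`. -/
theorem section_norm (hM : IsPModular 2 M) [Fintype (C[s] : Subgroup G)]
    (y : (C[s] : Subgroup G)) (hy : ¬ 2 ∣ orderOf y) :
    ∑ χ ∈ H22.blockFinset (principalBlock M G),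
        (χ : G → ℂ) (s * (y : G)) * conj ((χ : G → ℂ) (s * (y : G))) =
      ∑ ψ ∈ H22.blockFinset (principalBlock M (C[s] : Subgroup G)),
        (ψ : _ → ℂ) y * conj ((ψ : _ → ℂ) y) := by
  haveI : Fact (Nat.Prime 2) := ⟨Nat.prime_two⟩
  exact H22.Sub.principal_section_orth hM S.pow_two' y y hy hy

theorem section_v (hM : IsPModular 2 M) [Fintype (C[s] : Subgroup G)] :
    ∑ ψ ∈ H22.blockFinset (principalBlock M (C[s] : Subgroup G)),
        (ψ : _ → ℂ) S.rC * conj ((ψ : _ → ℂ) S.rC) =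
      ((K * (K * (nt M G).card - T M G) : ℤ) : ℂ) := by
  rw [← S.section_norm hM S.rC S.rC_odd, ← S.h.norm_sum hM]
  simp only [rC, S.eq]

/-- The coefficients of a character on the section, for a central involution. -/
theorem exists_coeff (hM : IsPModular 2 M) [Fintype (C[s] : Subgroup G)] {χ : IrrCharacter G}
    (hχ : χ ∈ principalBlock M G) :
    ∃ c : IrrCharacter (C[s] : Subgroup G) → ℤ, ∀ y : (C[s] : Subgroup G), ¬ 2 ∣ orderOf y →
      (χ : G → ℂ) (s * (y : G)) =
        ∑ ψ ∈ H22.blockFinset (principalBlock M (C[s] : Subgroup G)), (c ψ : ℂ) * (ψ : _ → ℂ) y := by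
  classical
  haveI : Fact (Nat.Prime 2) := ⟨Nat.prime_two⟩
  let z : (C[s] : Subgroup G) := ⟨s, Subgroup.mem_centralizer_singleton_iff.2 rfl⟩
  have hz : z ∈ Subgroup.center (C[s] : Subgroup G) := Subgroup.mem_center_iff.2 fun g =>
    Subtype.ext (Subgroup.mem_centralizer_singleton_iff.1 g.2)
  have hzz : z * z = 1 := Subtype.ext (S.h.sq_one hM P S.sP)
  have hint : ∀ ψ : IrrCharacter (C[s] : Subgroup G), ∃ a : ℤ,
      classInner (fun c : (C[s] : Subgroup G) => (χ : G → ℂ) (s * (c : G))) (ψ : _ → ℂ) = (a : ℂ) := by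
    intro ψ
    obtain ⟨ω, hω⟩ := H17.exists_central_char ψ.2 (Subgroup.center (C[s] : Subgroup G)) le_rfl
    obtain ⟨a, ha⟩ := H12.IsCharacter.classInner_nat
      (H12.IsCharacter.res (H12.isCharacter_irr χ) (C[s] : Subgroup G)) (H12.isCharacter_irr ψ)
    have hw : (ω ⟨z, hz⟩ : ℂ) * (ω ⟨z, hz⟩ : ℂ) = 1 := by
      rw [← Units.val_mul, ← map_mul,
        show (⟨z, hz⟩ : Subgroup.center (C[s] : Subgroup G)) * ⟨z, hz⟩ = 1 from Subtype.ext hzz,
        map_one, Units.val_one]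
    obtain ⟨e, he⟩ : ∃ e : ℤ, (ω ⟨z, hz⟩ : ℂ) = (e : ℂ) := by
      rcases mul_self_eq_one_iff.1 hw with h | h
      · exact ⟨1, by rw [h, Int.cast_one]⟩
      · exact ⟨-1, by rw [h]; push_cast; ring⟩
    refine ⟨e * a, ?_⟩
    have hval : ∑ c : (C[s] : Subgroup G), (χ : G → ℂ) (s * (c : G)) * conj ((ψ : _ → ℂ) c) =
        (e : ℂ) * ∑ c : (C[s] : Subgroup G), (χ : G → ℂ) (c : G) * conj ((ψ : _ → ℂ) c) := by
      rw [Finset.mul_sum]
      refine Fintype.sum_equiv (Equiv.mulLeft z) _ _ fun c => ?_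
      show _ = (e : ℂ) * ((χ : G → ℂ) (s * (c : G)) * conj ((ψ : _ → ℂ) (z * c)))
      rw [show (ψ : _ → ℂ) (z * c) = (e : ℂ) * (ψ : _ → ℂ) c from (hω ⟨z, hz⟩ c).trans (by rw [he]),
        map_mul, map_intCast]
      have hee : (e : ℂ) * (e : ℂ) = 1 := by rw [← he]; exact hw
      linear_combination (-((χ : G → ℂ) (s * (c : G)) * conj ((ψ : _ → ℂ) c))) * hee
    rw [classInner, hval, Int.cast_mul, Int.cast_natCast, ← ha, classInner]
    ring
  choose a ha using hint
  refine ⟨a, fun y hy => ?_⟩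
  rw [H20.principal_shift hM S.pow_two' hχ y hy, H20.blockPart_eq_sum, H22.blockFinset,
    Finset.sum_filter]
  refine Finset.sum_congr rfl fun ψ _ => ?_
  split_ifs with hψ
  · rw [ha]
  · rfl

end Setup

end H85.ConstDiff
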