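import Cfsg.Agent.H85.ConstDiff.Centralizers
import Cfsg.Agent.S0348
import Cfsg.Agent.H37.SmallIso
import Cfsg.Agent.H37.PSL34
import Cfsg.Agent.H59.CIT.SimpleFacts
import Cfsg.Agent.H28.CITGraph.Families

/-!
A constant difference `χ(1) - χ(u)`: the group is of order two or `PSL₂(2ⁿ)` (helper85).
-/

set_option autoImplicit false
set_option linter.style.haveILetI false
set_option linter.unusedSectionVars false

open Cfsg Finset

namespace H85.ConstDiff

universe u

local notation "C[" x "]" => (Subgroup.centralizer ({x} : Set _))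

theorem factorization_two {a b : ℕ} (hb : ¬ 2 ∣ b) : (2 ^ a * b).factorization 2 = a := by
  rw [Nat.factorization_mul (Nat.two_pow_pos a).ne' (by rintro rfl; exact hb (dvd_zero 2)),
    Finsupp.add_apply, Nat.prime_two.factorization_pow, Finsupp.single_eq_same,
    Nat.factorization_eq_zero_of_not_dvd hb, add_zero]

variable {G : Type u} [Group G] [Fintype G] {M : Ideal AlgInt} [hMp : M.IsPrime]
  {P : Sylow 2 G} {v s r : G} {K : ℤ}

namespace Setup

variable (S : Setup M P v s r K)
include S

/-- The normalizer of the Sylow subgroup. -/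
theorem card_normalizer (hM : IsPModular 2 M) :
    Nat.card (Subgroup.normalizer ((P : Subgroup G) : Set G)) =
      Nat.card (P : Subgroup G) * (Nat.card (P : Subgroup G) - 1) := by
  classical
  haveI : Fact (Nat.Prime 2) := ⟨Nat.prime_two⟩
  set N := Subgroup.normalizer ((P : Subgroup G) : Set G) with hN
  haveI := S.h.comm hM P
  let φ : N → {y : G // y ∈ (P : Subgroup G) ∧ y ≠ 1} := fun n => ⟨(n : G) * s * (n : G)⁻¹,
    (Subgroup.mem_normalizer_iff.1 n.2 s).1 S.sP, fun e => S.ne_one (conj_eq_one_iff.1 e)⟩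
  set K' := (P : Subgroup G).subgroupOf N with hK'
  have hfib : ∀ a b : N, φ a = φ b ↔ a⁻¹ * b ∈ K' := by
    intro a b
    have hm : ∀ x : G, x ∈ (P : Subgroup G) ↔ x * s = s * x := fun x => by
      rw [← Subgroup.mem_centralizer_singleton_iff, S.centralizer_eq hM S.sP S.ne_one]
    rw [hK', Subgroup.mem_subgroupOf, hm, Subtype.ext_iff]
    show (a : G) * s * (a : G)⁻¹ = (b : G) * s * (b : G)⁻¹ ↔
      (a : G)⁻¹ * (b : G) * s = s * ((a : G)⁻¹ * b)
    constructor
    · intro e
      calc (a : G)⁻¹ * (b : G) * s = (a : G)⁻¹ * ((b : G) * s * (b : G)⁻¹) * b := by group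
        _ = (a : G)⁻¹ * ((a : G) * s * (a : G)⁻¹) * b := by rw [e]
        _ = _ := by group
    · intro e
      calc (a : G) * s * (a : G)⁻¹ = (a : G) * (s * ((a : G)⁻¹ * b)) * (b : G)⁻¹ := by group
        _ = (a : G) * ((a : G)⁻¹ * (b : G) * s) * (b : G)⁻¹ := by rw [e]
        _ = _ := by group
  let ψ : N ⧸ K' → {y : G // y ∈ (P : Subgroup G) ∧ y ≠ 1} :=
    Quotient.lift φ fun a b h => (hfib a b).2 (QuotientGroup.leftRel_apply.1 h)
  have hbij : Function.Bijective ψ := by
    refine ⟨fun x y h => ?_, fun y => ?_⟩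
    · induction x using QuotientGroup.induction_on
      induction y using QuotientGroup.induction_on
      exact QuotientGroup.eq.2 ((hfib _ _).1 h)
    · obtain ⟨n, hn, e⟩ := S.trans' hM s S.sP y.1 y.2.1 S.ne_one y.2.2
      exact ⟨QuotientGroup.mk ⟨n, hn⟩, Subtype.ext e⟩
  have h1 : K'.index = Nat.card (P : Subgroup G) - 1 := by
    rw [Subgroup.index_eq_card, Nat.card_eq_of_bijective ψ hbij]
    have h3 := Set.ncard_sdiff_add_ncard_of_subset
      (show ({1} : Set G) ⊆ ((P : Subgroup G) : Set G) by simp)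
    rw [Set.ncard_singleton] at h3
    simp only [← Nat.card_coe_set_eq] at h3
    have h4 : Nat.card {y : G // y ∈ (P : Subgroup G) ∧ y ≠ 1} + 1 = Nat.card (P : Subgroup G) := h3
    omega
  rw [← K'.card_mul_index, h1, hK',
    Nat.card_congr (Subgroup.subgroupOfEquivOfLe Subgroup.le_normalizer).toEquiv]

theorem card_two (hM : IsPModular 2 M) (h2 : Nat.card (P : Subgroup G) = 2) : Nat.card G = 2 := by
  classical
  haveI : Fact (Nat.Prime 2) := ⟨Nat.prime_two⟩
  haveI := S.h.comm hM P
  have hN : Subgroup.normalizer ((P : Subgroup G) : Set G) = (P : Subgroup G) := by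
    refine (Subgroup.eq_of_le_of_card_ge Subgroup.le_normalizer (le_of_eq ?_)).symm
    rw [S.card_normalizer hM, h2]
  haveI := solvable_of_normalizer_le P (hN.le.trans (S.h.le_centralizer P hM))
  have hn := sup_normal_of_solvable (X := G) P
  rw [S.h.core, sup_bot_eq, ← Subgroup.normalizer_eq_top_iff, hN] at hn
  rw [← Subgroup.card_top (G := G), ← hn, h2]

theorem isSimple (hM : IsPModular 2 M) : IsSimpleGroup G := by
  classical
  haveI : Fact (Nat.Prime 2) := ⟨Nat.prime_two⟩
  haveI : Nontrivial G := ⟨⟨s, 1, S.ne_one⟩⟩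
  refine ⟨fun R hR => ?_⟩
  haveI := hR
  by_cases h2 : 2 ∣ Nat.card R
  swap
  · exact Or.inl (le_bot_iff.1 (S.h.core ▸ H1.le_pPrimeCore
      ((Nat.prime_two.coprime_iff_not_dvd).2 h2).symm))
  right
  obtain ⟨i, hi⟩ := exists_prime_orderOf_dvd_card' 2 h2
  rw [← Subgroup.orderOf_coe] at hi
  obtain ⟨y, hy, hyc⟩ := H20.FreeSylow.exists_isConj_mem (P := P) (y := (i : G))
    ⟨1, by rw [hi, pow_one]⟩
  obtain ⟨c, hc⟩ := _root_.isConj_iff.1 hyc
  have hy1 : y ≠ 1 := fun e => by
    rw [← H20.orderOf_conj' c (i : G), hc, e, orderOf_one] at hi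
    norm_num at hi
  have hyR : y ∈ R := hc ▸ hR.conj_mem _ i.2 c
  refine S.h.eq_top_of_centralizer_le P hM R fun g hg => ?_
  have hgP : g ∈ (P : Subgroup G) := by
    rw [← S.centralizer_eq hM S.sP S.ne_one]
    exact Subgroup.mem_centralizer_singleton_iff.2 (hg s S.sP).symm
  rcases eq_or_ne g 1 with rfl | hg1
  · exact one_mem _
  · obtain ⟨n, -, hn⟩ := S.trans' hM y hy g hgP hy1 hg1
    exact hn ▸ hR.conj_mem _ hyR n

theorem cit (hM : IsPModular 2 M) (t : G) (ht : orderOf t = 2) :
    IsPGroup 2 (C[t] : Subgroup G) := by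
  haveI : Fact (Nat.Prime 2) := ⟨Nat.prime_two⟩
  obtain ⟨y, hy, hyc⟩ := H20.FreeSylow.exists_isConj_mem (P := P) (y := t)
    ⟨1, by rw [ht, pow_one]⟩
  obtain ⟨c, hc⟩ := _root_.isConj_iff.1 hyc
  have hy1 : y ≠ 1 := fun e => by
    rw [← H20.orderOf_conj' c t, hc, e, orderOf_one] at ht
    norm_num at ht
  intro g
  have hg : c * (g : G) * c⁻¹ ∈ (P : Subgroup G) := by
    rw [← S.centralizer_eq hM hy hy1]
    refine Subgroup.mem_centralizer_singleton_iff.2 ?_
    rw [← hc]
    have := Subgroup.mem_centralizer_singleton_iff.1 g.2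
    calc c * (g : G) * c⁻¹ * (c * t * c⁻¹) = c * ((g : G) * t) * c⁻¹ := by group
      _ = c * (t * (g : G)) * c⁻¹ := by rw [this]
      _ = _ := by group
  obtain ⟨j, hj⟩ := H20.FreeSylow.orderOf_eq_pow (P := P) hg
  refine ⟨j, Subtype.ext ?_⟩
  rw [H20.orderOf_conj'] at hj
  rw [Subgroup.coe_pow, ← hj, pow_orderOf_eq_one]
  rfl

/-- Every prime divisor of the order is at most the index of the normalizer. -/
theorem prime_le_index (hM : IsPModular 2 M) (h4 : 4 ≤ Nat.card (P : Subgroup G)) {l : ℕ}
    (hl : l.Prime) (hdvd : l ∣ Nat.card G) :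
    l ≤ (Subgroup.normalizer ((P : Subgroup G) : Set G)).index := by
  classical
  haveI : Fact (Nat.Prime 2) := ⟨Nat.prime_two⟩
  haveI := S.isSimple hM
  set N := Subgroup.normalizer ((P : Subgroup G) : Set G) with hN
  have hNne : N ≠ ⊤ := by
    intro h
    rw [hN, Subgroup.normalizer_eq_top_iff] at h
    rcases h.eq_bot_or_eq_top with h' | h'
    · rw [h', Subgroup.card_bot] at h4; omega
    · haveI := S.h.comm hM P
      have hcomm : ∀ a b : G, a * b = b * a := fun a b => congrArg Subtype.val
        ((S.h.comm hM P).is_comm.comm ⟨a, h' ▸ Subgroup.mem_top a⟩ ⟨b, h' ▸ Subgroup.mem_top b⟩)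
      letI : CommGroup G := { (inferInstance : Group G) with mul_comm := hcomm }
      have hp : (Nat.card G).Prime := IsSimpleGroup.prime_card
      rw [show Nat.card (P : Subgroup G) = Nat.card G by rw [h', Subgroup.card_top]] at h4
      obtain ⟨j, hj⟩ := IsPGroup.iff_card.1 P.isPGroup'
      rw [h', Subgroup.card_top] at hj
      rw [hj] at hp h4
      have h5 := (Nat.Prime.pow_eq_iff hp).1 rfl
      rw [h5.2] at h4
      norm_num at h4
  have hker : (MulAction.toPermHom G (G ⧸ N)).ker = ⊥ := by
    rcases (MonoidHom.normal_ker (MulAction.toPermHom G (G ⧸ N))).eq_bot_or_eq_top with h | h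
    · exact h
    · exfalso
      apply hNne
      rw [← top_le_iff, ← h, ← Subgroup.normalCore_eq_ker]
      exact Subgroup.normalCore_le N
  have h1 := Subgroup.card_dvd_of_injective _ ((MonoidHom.ker_eq_bot_iff _).1 hker)
  rw [Nat.card_perm, ← Subgroup.index_eq_card] at h1
  exact (Nat.Prime.dvd_factorial hl).1 (hdvd.trans h1)

theorem card_sylow_of_card (hM : IsPModular 2 M) {a b : ℕ} (hG : Nat.card G = 2 ^ a * b)
    (hb : ¬ 2 ∣ b) : Nat.card (P : Subgroup G) = 2 ^ a := by
  haveI : Fact (Nat.Prime 2) := ⟨Nat.prime_two⟩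
  rw [P.card_eq_multiplicity, hG, factorization_two hb]

theorem card_factor (hM : IsPModular 2 M) {a b : ℕ} (hG : Nat.card G = 2 ^ a * b)
    (hb : ¬ 2 ∣ b) :
    (2 ^ a - 1) * (Subgroup.normalizer ((P : Subgroup G) : Set G)).index = b := by
  have h := (Subgroup.normalizer ((P : Subgroup G) : Set G)).card_mul_index
  rw [S.card_normalizer hM, S.card_sylow_of_card hM hG hb, hG, mul_assoc] at h
  exact Nat.eq_of_mul_eq_mul_left (Nat.two_pow_pos a) h

/-- The group is of order two or a linear group in characteristic two. -/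
theorem classify (hM : IsPModular 2 M) : Nat.card G = 2 ∨
    ∃ (F : Type) (_ : Field F) (_ : Fintype F) (n : ℕ), 2 ≤ n ∧ Fintype.card F = 2 ^ n ∧
      Nonempty (G ≃* Matrix.ProjectiveSpecialLinearGroup (Fin 2) F) := by
  classical
  haveI : Fact (Nat.Prime 2) := ⟨Nat.prime_two⟩
  have hq2 := S.two_le_card hM
  obtain ⟨a, ha⟩ := IsPGroup.iff_card.1 P.isPGroup'
  rcases a with _ | _ | a
  · rw [ha] at hq2; norm_num at hq2
  · exact Or.inl (S.card_two hM (by rw [ha]; norm_num))
  right
  have h4 : 4 ≤ Nat.card (P : Subgroup G) := by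
    rw [ha, pow_succ, pow_succ]
    have := Nat.two_pow_pos a
    omega
  haveI := S.isSimple hM
  have hnc : ∃ x y : G, x * y ≠ y * x := by
    by_contra hcomm
    push Not at hcomm
    letI : CommGroup G := { (inferInstance : Group G) with mul_comm := hcomm }
    have hp : (Nat.card G).Prime := IsSimpleGroup.prime_card
    have hd : Nat.card (P : Subgroup G) ∣ Nat.card G := Subgroup.card_subgroup_dvd_card _
    rcases (Nat.dvd_prime hp).1 hd with h | h
    · omega
    · rw [← h, ha] at hp
      have h5 := (Nat.Prime.pow_eq_iff hp).1 rfl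
      omega
  rcases Cfsg.Agent.S0348.result hnc (fun t ht => S.cit hM t ht) with
    ⟨F, iF, iFt, hF, ⟨e⟩⟩ | ⟨F, iF, iFt, hF, ⟨e⟩⟩ | hSz
  · have hcard := H37.card_PSL_two (F := F)
    rw [← Nat.card_congr e.toEquiv, Nat.card_eq_fintype_card (α := F)] at hcard
    rcases hF with h9 | ⟨n, hn⟩ | ⟨hp, k, hk⟩
    · exfalso
      rw [h9] at hcard
      norm_num [-Nat.card_eq_fintype_card] at hcard
      have h := S.card_factor hM (a := 3) (b := 45) (by norm_num [-Nat.card_eq_fintype_card]; omega) (by norm_num)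
      norm_num at h
      omega
    · rcases n with _ | _ | n
      · exact absurd hn (by have := Fintype.one_lt_card (α := F); norm_num; omega)
      · exfalso
        rw [hn] at hcard
        norm_num [-Nat.card_eq_fintype_card] at hcard
        have := S.card_sylow_of_card hM (a := 1) (b := 3) (by norm_num [-Nat.card_eq_fintype_card]; omega) (by norm_num)
        omega
      · exact ⟨F, iF, iFt, n + 2, by omega, hn, ⟨e⟩⟩
    · rcases hk with hk | hk
      · -- `p = 2 ^ k + 1`
        rcases k with _ | _ | k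
        · exfalso
          rw [hk] at hcard
          norm_num [-Nat.card_eq_fintype_card] at hcard
          have := S.card_sylow_of_card hM (a := 1) (b := 3) (by norm_num [-Nat.card_eq_fintype_card]; omega) (by norm_num)
          omega
        · exfalso
          rw [hk] at hcard
          norm_num [-Nat.card_eq_fintype_card] at hcard
          have hG : Nat.card G = 12 := by omega
          have h := S.prime_le_index hM h4 (l := 3) (by norm_num) (by rw [hG]; norm_num)
          have h' := S.card_factor hM (a := 2) (b := 3) (by norm_num [-Nat.card_eq_fintype_card]; omega) (by norm_num)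
          omega
        · have hodd : ¬ 2 ∣ (2 ^ (k + 2) + 1) * (2 ^ (k + 1) + 1) := by
            rw [Nat.prime_two.dvd_mul]
            rintro (h | h)
            · have : 2 ∣ 2 ^ (k + 2) := dvd_pow_self 2 (by omega)
              omega
            · have : 2 ∣ 2 ^ (k + 1) := dvd_pow_self 2 (by omega)
              omega
          have hgcd : Nat.gcd 2 (Fintype.card F - 1) = 2 :=
            Nat.gcd_eq_left (by rw [hk, Nat.add_sub_cancel]; exact dvd_pow_self 2 (Nat.succ_ne_zero _))
          rw [hgcd, hk] at hcard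
          have hG : Nat.card G = 2 ^ (k + 2) * ((2 ^ (k + 2) + 1) * (2 ^ (k + 1) + 1)) := by
            have e2 : (2 ^ (k + 2) + 1) ^ 2 - 1 = 2 * (2 ^ (k + 2) * (2 ^ (k + 1) + 1)) := by
              rw [Nat.sub_eq_iff_eq_add (Nat.one_le_pow 2 (2 ^ (k + 2) + 1) (Nat.succ_pos _))]
              simp only [pow_succ]
              ring
            rw [e2] at hcard
            apply Nat.eq_of_mul_eq_mul_left (show 0 < 2 by omega)
            rw [hcard]; ring
          have h := S.card_factor hM hG hodd
          have hcop : Nat.Coprime (2 ^ (k + 2) - 1) (2 ^ (k + 2) + 1) := by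
            obtain ⟨w, hw⟩ : ∃ w, 2 ^ (k + 2) = w + 1 :=
              ⟨2 ^ (k + 2) - 1, by have := Nat.two_pow_pos (k + 2); omega⟩
            rw [hw, Nat.add_sub_cancel, show w + 1 + 1 = 2 + w by omega, Nat.coprime_add_self_right,
              Nat.coprime_two_right, Nat.odd_iff]
            have : 2 ∣ 2 ^ (k + 2) := dvd_pow_self 2 (by omega)
            omega
          have hd : 2 ^ (k + 2) - 1 ∣ 2 ^ (k + 1) + 1 :=
            hcop.dvd_of_dvd_mul_left (Dvd.intro _ h)
          have hle := Nat.le_of_dvd (by omega) hd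
          have hk0 : k = 0 := by
            rcases k with _ | k
            · rfl
            · exfalso
              simp only [pow_succ] at hle
              have := Nat.two_pow_pos k
              omega
          subst hk0
          norm_num at hk
          obtain ⟨e5⟩ := H37.PSL2_five_mulEquiv_alternating (F := F) hk
          obtain ⟨e4⟩ := H37.PSL2_four_mulEquiv_alternating (F := H37.K4) H37.card_K4
          refine ⟨H37.K4, inferInstance, inferInstance, 2, le_rfl, ?_,
            ⟨(e.trans e5).trans e4.symm⟩⟩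
          rw [← Nat.card_eq_fintype_card, H37.card_K4]
          norm_num
      · -- `p + 1 = 2 ^ k`
        exfalso
        have hp2 := hp.two_le
        rcases k with _ | _ | k
        · norm_num at hk <;> omega
        · norm_num at hk <;> omega
        have hodd : ¬ 2 ∣ Fintype.card F * (2 ^ (k + 1) - 1) := by
          rw [Nat.prime_two.dvd_mul]
          have h1 : 2 ∣ 2 ^ (k + 2) := dvd_pow_self 2 (by omega)
          have h2 : 2 ∣ 2 ^ (k + 1) := dvd_pow_self 2 (by omega)
          have h3 := Nat.two_pow_pos (k + 1)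
          rintro (h | h) <;> omega
        have hgcd : Nat.gcd 2 (Fintype.card F - 1) = 2 := by
          have h1 : 2 ∣ 2 ^ (k + 2) := dvd_pow_self 2 (by omega)
          exact Nat.gcd_eq_left (by omega)
        rw [hgcd] at hcard
        obtain ⟨w, hw⟩ : ∃ w, 2 ^ (k + 1) = w + 1 :=
          ⟨2 ^ (k + 1) - 1, by have := Nat.two_pow_pos (k + 1); omega⟩
        have hF' : Fintype.card F = 2 * w + 1 := by
          rw [pow_succ, hw] at hk; omega
        have hG : Nat.card G = 2 ^ (k + 2) * (Fintype.card F * (2 ^ (k + 1) - 1)) := by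
          have e2 : Fintype.card F ^ 2 - 1 = 2 * (2 * (w + 1) * w) := by
            rw [Nat.sub_eq_iff_eq_add (Nat.one_le_pow _ _ (by omega)), hF']
            ring
          rw [e2] at hcard
          apply Nat.eq_of_mul_eq_mul_left (show 0 < 2 by omega)
          rw [hcard, pow_succ 2 (k + 1), hw, Nat.add_sub_cancel]; ring
        have h := S.card_factor hM hG hodd
        rw [show 2 ^ (k + 2) - 1 = Fintype.card F by
          have : 2 ^ (k + 2) = 4 * 2 ^ k := by ring
          omega] at h
        have hm := Nat.eq_of_mul_eq_mul_left hp.pos h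
        have hle := S.prime_le_index hM h4 (l := Fintype.card F) hp (by
          rw [hG]; exact (dvd_mul_right _ _).mul_left _)
        omega
  · exfalso
    have hG : Nat.card G = 2 ^ 6 * 315 := by
      rw [Nat.card_congr e.toEquiv, H59.CIT.card_psl34 hF]; norm_num
    have h := S.card_factor hM hG (by norm_num)
    have hle := S.prime_le_index hM h4 (l := 7) (by norm_num) (by rw [hG]; norm_num)
    omega
  · exfalso
    obtain ⟨-, m, hm, hG⟩ := hSz
    set Q := 2 ^ (2 * m + 1) with hQ
    have hQ2 : 2 ≤ Q := Nat.le_self_pow (by omega) 2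
    have hQe : 2 ∣ Q := dvd_pow_self 2 (by omega)
    have hb : ¬ 2 ∣ (Q ^ 2 + 1) * (Q - 1) := by
      rw [Nat.prime_two.dvd_mul]
      have h1 : 2 ∣ Q ^ 2 := dvd_pow hQe (by norm_num)
      rintro (h | h) <;> omega
    have h := S.card_factor hM (a := 2 * (2 * m + 1)) (b := (Q ^ 2 + 1) * (Q - 1))
      (by rw [hG, show 2 ^ (2 * (2 * m + 1)) = Q ^ 2 by rw [hQ, ← pow_mul, mul_comm], mul_assoc]) hb
    rw [show 2 ^ (2 * (2 * m + 1)) = Q ^ 2 by rw [hQ, ← pow_mul, mul_comm],
      show Q ^ 2 - 1 = (Q - 1) * (Q + 1) by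
        obtain ⟨w, hw⟩ : ∃ w, Q = w + 1 := ⟨Q - 1, by omega⟩
        rw [hw, Nat.sub_eq_iff_eq_add (Nat.one_le_pow _ _ (by omega)), Nat.add_sub_cancel]
        ring,
      mul_comm (Q ^ 2 + 1), mul_assoc] at h
    have h2 := Nat.eq_of_mul_eq_mul_left (show 0 < Q - 1 by omega) h
    obtain ⟨w, hw⟩ : ∃ w, Q = w + 1 := ⟨Q - 1, by omega⟩
    rw [hw] at h2
    have hd : w + 2 ∣ w * (w + 2) + 2 :=
      ⟨(Subgroup.normalizer ((P : Subgroup G) : Set G)).index, by linarith⟩
    have := Nat.le_of_dvd (by omega) ((Nat.dvd_add_right (dvd_mul_left _ _)).1 hd)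
    omega

end Setup

end H85.ConstDiff
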