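import Cfsg.Agent.H85.ConstDiff.Degree
import Cfsg.Agent.H85.ConstDiff.OneClass
import Cfsg.Agent.H85.ConstDiff.Frame

/-!
A constant difference `χ(1) - χ(u)`: the centralizer of the involution is solvable unless the
Sylow subgroup has order eight (helper85).
-/

set_option autoImplicit false
set_option linter.style.haveILetI false
set_option linter.unusedSectionVars false

open Cfsg Finset

namespace H85.ConstDiff

universe u

local notation "C[" x "]" => (Subgroup.centralizer ({x} : Set _))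

variable {G : Type u} [Group G] [Fintype G]

/-- If the normalizer only induces the identity on an abelian Sylow 2-subgroup, the group is
solvable. -/
theorem solvable_of_normalizer_le (P : Sylow 2 G) [IsMulCommutative P]
    (h : Subgroup.normalizer ((P : Subgroup G) : Set G) ≤
      Subgroup.centralizer ((P : Subgroup G) : Set G)) : Group.IsSolvable G := by
  haveI : Fact (Nat.Prime 2) := ⟨Nat.prime_two⟩
  have hc := H85.AbTwo.complement_of_reg P (one_mem _) fun n hn _ => h hn
  have hP : (P : Subgroup G) ≤ Subgroup.centralizer ({(1 : G)} : Set G) :=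
    fun w _ => H85.AbTwo.mem_cent_iff.2 (by rw [mul_one, one_mul])
  obtain ⟨N, hN, hNc⟩ := (H5.hasNormalPComplement_iff_exists (P.subtype hP)).1 hc
  haveI := hN
  haveI : Group.IsSolvable N := by
    refine H16.FT.oddOrder ((H85.AbTwo.odd_index (P.subtype hP)).of_dvd_nat (dvd_of_eq ?_))
    exact Nat.eq_of_mul_eq_mul_right Nat.card_pos
      (hNc.card_mul.trans (Subgroup.index_mul_card _).symm)
  haveI : Group.IsSolvable (C[(1 : G)] ⧸ N) := by
    haveI : Group.IsSolvable (P.subtype hP : Subgroup C[(1 : G)]) :=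
      Group.isSolvable_of_comm fun a b => Subtype.ext (Subtype.ext
        (congrArg Subtype.val ((inferInstance : IsMulCommutative (P : Subgroup G)).is_comm.comm
          ⟨_, a.2⟩ ⟨_, b.2⟩) :))
    refine Group.isSolvable_of_surjective
      (f := (QuotientGroup.mk' N).comp (P.subtype hP : Subgroup C[(1 : G)]).subtype) fun y => ?_
    obtain ⟨g, rfl⟩ := QuotientGroup.mk'_surjective N y
    obtain ⟨⟨k, q⟩, hkq⟩ := hNc.2 g
    refine ⟨q, ?_⟩
    rw [← hkq]
    show QuotientGroup.mk' N (q : C[(1 : G)]) = QuotientGroup.mk' N ((k : C[(1 : G)]) * q)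
    rw [map_mul, show QuotientGroup.mk' N (k : C[(1 : G)]) = 1 from
      (QuotientGroup.eq_one_iff (k : C[(1 : G)])).2 k.2, one_mul]
  haveI : Group.IsSolvable C[(1 : G)] :=
    Group.isSolvable_of_ker_le_range N.subtype (QuotientGroup.mk' N)
      (by rw [QuotientGroup.ker_mk', Subgroup.range_subtype])
  exact Group.isSolvable_of_surjective (f := C[(1 : G)].subtype)
    fun g => ⟨⟨g, H85.AbTwo.mem_cent_iff.2 (by rw [mul_one, one_mul])⟩, rfl⟩

/-- The normalizer elements fixing `s`. -/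
abbrev stab (P : Sylow 2 G) (s : G) : Subgroup G :=
  Subgroup.normalizer ((P : Subgroup G) : Set G) ⊓ Subgroup.centralizer ({s} : Set G)

theorem stab_fix {P : Sylow 2 G} {s : G} {n : G} (hn : n ∈ stab P s) : n * s * n⁻¹ = s :=
  mul_inv_eq_iff_eq_mul.2 (Subgroup.mem_centralizer_singleton_iff.1 hn.2)

/-- If the centralizer of an involution is not solvable the Sylow subgroup has order eight. -/
theorem nonsolvable_data (P : Sylow 2 G) [hc : IsMulCommutative P]
    (hE : ∀ x ∈ (P : Subgroup G), x * x = 1)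
    (htr : ∀ x ∈ (P : Subgroup G), ∀ y ∈ (P : Subgroup G), x ≠ 1 → y ≠ 1 →
      ∃ n ∈ Subgroup.normalizer ((P : Subgroup G) : Set G), n * x * n⁻¹ = y)
    {s : G} (hs : s ∈ (P : Subgroup G)) (hs1 : s ≠ 1) (hns : ¬ Group.IsSolvable C[s]) :
    Nat.card (P : Subgroup G) = 8 ∧
      (Subgroup.centralizer ((P : Subgroup G) : Set G)).relIndex (stab P s) = 3 := by
  classical
  haveI : Fact (Nat.Prime 2) := ⟨Nat.prime_two⟩
  set T : Set (Subgroup G) := {A | A ≤ (P : Subgroup G) ∧ s ∈ A ∧
    ¬ Group.IsSolvable (Subgroup.centralizer (A : Set G))} with hT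
  have hz : Subgroup.centralizer ((Subgroup.zpowers s : Subgroup G) : Set G) = C[s] := by
    rw [Subgroup.zpowers_eq_closure, Subgroup.centralizer_closure]
  have hTne : T.Nonempty :=
    ⟨Subgroup.zpowers s, Subgroup.zpowers_le.2 hs, Subgroup.mem_zpowers s, by rwa [hz]⟩
  obtain ⟨A, hAmax⟩ := Set.Finite.exists_maximal (Set.toFinite T) hTne
  obtain ⟨⟨hAP, hsA, hAns⟩, hAmax⟩ := hAmax
  set X := Subgroup.centralizer (A : Set G) with hX
  have hPX : (P : Subgroup G) ≤ X := fun w hw a ha =>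
    congrArg Subtype.val (hc.is_comm.comm ⟨a, hAP ha⟩ ⟨w, hw⟩)
  set U := Subgroup.normalizer ((P : Subgroup G) : Set G) ⊓ X with hU
  set CP := Subgroup.centralizer ((P : Subgroup G) : Set G) with hCP
  set e := CP.relIndex U with he
  set L := Nat.card ((P : Subgroup G) ⊓ Subgroup.centralizer (U : Set G) : Subgroup G) with hL
  have hUs : ∀ n ∈ U, n * s * n⁻¹ = s := fun n hn =>
    mul_inv_eq_iff_eq_mul.2 (hn.2 s hsA).symm
  have hpow : L ^ e = Nat.card (P : Subgroup G) := fix_pow P hE htr hs hs1 U inf_le_left hUs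
  have hAL : Nat.card A ≤ L := Subgroup.card_le_of_le (le_inf hAP fun a ha n hn => (hn.2 a ha).symm)
  haveI : IsMulCommutative (P.subtype hPX : Subgroup X) :=
    ⟨⟨fun a b => Subtype.ext (Subtype.ext
      (congrArg Subtype.val (hc.is_comm.comm ⟨_, a.2⟩ ⟨_, b.2⟩) :))⟩⟩
  haveI : Fintype X := Fintype.ofFinite _
  have heodd : Odd e := by
    refine (H85.AbTwo.odd_index P).of_dvd_nat ?_
    have hP : (P : Subgroup G) ≤ CP := fun w hw v hv =>
      congrArg Subtype.val (hc.is_comm.comm ⟨v, hv⟩ ⟨w, hw⟩)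
    exact (Subgroup.relIndex_dvd_of_le_left U hP).trans
      (Subgroup.relIndex_dvd_index_of_le (le_inf Subgroup.le_normalizer hPX))
  have he3 : 3 ≤ e := by
    rcases Nat.lt_or_ge e 3 with h | h
    swap
    · exact h
    exfalso
    have h1 : e = 1 := by obtain ⟨k, hk⟩ := heodd; omega
    apply hAns
    refine solvable_of_normalizer_le (P.subtype hPX) fun n hn w hw => ?_
    have hnU : (n : G) ∈ U := by
      refine ⟨?_, n.2⟩
      show (n : G) ∈ Subgroup.normalizer ((P : Subgroup G) : Set G)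
      rw [Subgroup.mem_normalizer_iff]
      intro v
      constructor
      · intro hv
        exact (Subgroup.mem_normalizer_iff.1 hn ⟨v, hPX hv⟩).1 hv
      · intro hv
        have hvX : v ∈ X := by
          have := X.mul_mem (X.mul_mem (X.inv_mem n.2) (hPX hv)) n.2
          simpa [mul_assoc] using this
        exact (Subgroup.mem_normalizer_iff.1 hn ⟨v, hvX⟩).2 hv
    exact Subtype.ext ((Subgroup.relIndex_eq_one.1 h1 hnU) (w : G) hw)
  have hbound : Nat.card (P : Subgroup G) ≤ Nat.card A * (e + 1) := by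
    obtain ⟨j, hj⟩ := IsPGroup.iff_card.1 P.isPGroup'
    obtain ⟨i, hi⟩ := IsPGroup.iff_card.1 (P.isPGroup'.to_le hAP)
    by_cases hsmall : j ≤ i + 2
    · rw [hj, hi]
      calc 2 ^ j ≤ 2 ^ (i + 2) := Nat.pow_le_pow_right (by norm_num) hsmall
        _ = 2 ^ i * 4 := by rw [pow_add]; norm_num
        _ ≤ _ := Nat.mul_le_mul_left _ (by omega)
    push Not at hsmall
    set A' := A.subgroupOf X with hA'
    haveI hA'n : A'.Normal := ⟨fun a ha g => by
      rw [hA', Subgroup.mem_subgroupOf] at ha ⊢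
      show (g : G) * (a : G) * (g : G)⁻¹ ∈ A
      rw [← g.2 _ ha, mul_inv_cancel_right]
      exact ha⟩
    let f := QuotientGroup.mk' A'
    have hf : Function.Surjective f := QuotientGroup.mk'_surjective A'
    haveI : Fintype (X ⧸ A') := Fintype.ofFinite _
    let Q : Sylow 2 (X ⧸ A') := (P.subtype hPX).mapSurjective hf
    have hQ : (Q : Subgroup (X ⧸ A')) = (P.subtype hPX : Subgroup X).map f :=
      Sylow.coe_mapSurjective hf _
    haveI : IsMulCommutative Q := ⟨⟨fun a b => Subtype.ext (by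
      obtain ⟨a', ha', ea⟩ := (hQ ▸ a.2 : (a : X ⧸ A') ∈ (P.subtype hPX : Subgroup X).map f)
      obtain ⟨b', hb', eb⟩ := (hQ ▸ b.2 : (b : X ⧸ A') ∈ (P.subtype hPX : Subgroup X).map f)
      show (a : X ⧸ A') * b = b * a
      have e' : a' * b' = b' * a' := Subtype.ext
        (congrArg Subtype.val (hc.is_comm.comm ⟨_, ha'⟩ ⟨_, hb'⟩) :)
      rw [← ea, ← eb, ← map_mul, ← map_mul, e'])⟩⟩
    have hQE : ∀ x ∈ (Q : Subgroup (X ⧸ A')), x * x = 1 := by
      intro x hx
      rw [hQ] at hx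
      obtain ⟨x', hx', rfl⟩ := hx
      rw [← map_mul, show x' * x' = 1 from Subtype.ext (hE _ hx'), map_one]
    have hQS : ∀ a ∈ (Q : Subgroup (X ⧸ A')), a ≠ 1 → Group.IsSolvable C[a] := by
      intro a ha ha1
      rw [hQ] at ha
      obtain ⟨t, ht, rfl⟩ := ha
      have htA : (t : G) ∉ A := fun h => ha1 ((QuotientGroup.eq_one_iff t).2 h)
      have hBsolv : Group.IsSolvable (Subgroup.centralizer ((A ⊔ Subgroup.zpowers (t : G) : Subgroup G) : Set G)) := by
        by_contra hcon
        exact htA ((hAmax ⟨sup_le hAP (Subgroup.zpowers_le.2 ht), Subgroup.mem_sup_left hsA, hcon⟩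
          le_sup_left) (Subgroup.mem_sup_right (Subgroup.mem_zpowers _)))
      haveI := hBsolv
      let S : Subgroup X := Subgroup.comap f C[f t]
      have hS : ∀ g : S, ((g : X) : G) * (t : G) * ((g : X) : G)⁻¹ * (t : G)⁻¹ ∈ A := fun g => by
        have h1 := Subgroup.mem_centralizer_singleton_iff.1 g.2
        have h2 : f ((g : X) * t * (g : X)⁻¹ * t⁻¹) = 1 := by
          rw [map_mul, map_mul, map_mul, h1, map_inv, map_inv, mul_inv_cancel_right, mul_inv_cancel]
        exact Subgroup.mem_subgroupOf.1 ((QuotientGroup.eq_one_iff (N := A') _).1 h2)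
      haveI hAc : IsMulCommutative A := ⟨⟨fun a b => Subtype.ext
        (congrArg Subtype.val (hc.is_comm.comm ⟨_, hAP a.2⟩ ⟨_, hAP b.2⟩) :)⟩⟩
      let φ : S →* A := MonoidHom.mk' (fun g => ⟨_, hS g⟩) fun g h => Subtype.ext (by
        show ((g : X) : G) * ((h : X) : G) * (t : G) * (((g : X) : G) * ((h : X) : G))⁻¹ * (t : G)⁻¹ =
          ((g : X) : G) * (t : G) * ((g : X) : G)⁻¹ * (t : G)⁻¹ *
            (((h : X) : G) * (t : G) * ((h : X) : G)⁻¹ * (t : G)⁻¹)
        have hcg : (((h : X) : G) * (t : G) * ((h : X) : G)⁻¹ * (t : G)⁻¹) * ((g : X) : G) =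
            ((g : X) : G) * (((h : X) : G) * (t : G) * ((h : X) : G)⁻¹ * (t : G)⁻¹) :=
          (g : X).2 _ (hS h)
        have hca : (((g : X) : G) * (t : G) * ((g : X) : G)⁻¹ * (t : G)⁻¹) *
              (((h : X) : G) * (t : G) * ((h : X) : G)⁻¹ * (t : G)⁻¹) =
            (((h : X) : G) * (t : G) * ((h : X) : G)⁻¹ * (t : G)⁻¹) *
              (((g : X) : G) * (t : G) * ((g : X) : G)⁻¹ * (t : G)⁻¹) :=
          congrArg Subtype.val (hAc.is_comm.comm ⟨_, hS g⟩ ⟨_, hS h⟩)
        rw [hca, ← mul_assoc, ← mul_assoc, ← mul_assoc, hcg]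
        group)
      haveI : Group.IsSolvable A := Group.isSolvable_of_comm hAc.is_comm.comm
      haveI : Group.IsSolvable φ.ker := by
        let ι : φ.ker →* Subgroup.centralizer ((A ⊔ Subgroup.zpowers (t : G) : Subgroup G) : Set G) :=
          ((X.subtype.comp S.subtype).comp φ.ker.subtype).codRestrict _ fun g => by
            rw [Subgroup.mem_centralizer_iff]
            intro w hw
            have hle : A ⊔ Subgroup.zpowers (t : G) ≤
                Subgroup.centralizer ({((((g : S) : X)) : G)} : Set G) := by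
              refine sup_le (fun a ha => ?_) (Subgroup.zpowers_le.2 ?_)
              · exact Subgroup.mem_centralizer_singleton_iff.2 (((g : S) : X).2 a ha)
              · refine Subgroup.mem_centralizer_singleton_iff.2 ?_
                have h1 := congrArg Subtype.val (MonoidHom.mem_ker.1 g.2)
                change (((g : S) : X) : G) * (t : G) * (((g : S) : X) : G)⁻¹ * (t : G)⁻¹ = 1 at h1
                exact (mul_inv_eq_iff_eq_mul.1 (mul_inv_eq_one.1 h1)).symm
            exact Subgroup.mem_centralizer_singleton_iff.1 (hle hw)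
        exact Group.isSolvable_of_isSolvable_injective (f := ι) fun g h he =>
          Subtype.ext (Subtype.ext (Subtype.ext (congrArg Subtype.val he :)))
      haveI : Group.IsSolvable S := Group.isSolvable_of_ker_le_range φ.ker.subtype φ
        (by rw [Subgroup.range_subtype])
      exact Group.isSolvable_of_surjective (f := f.subgroupComap C[f t]) fun y => by
        obtain ⟨g, hg⟩ := hf (y : X ⧸ A')
        exact ⟨⟨g, show f g ∈ C[f t] by rw [hg]; exact y.2⟩, Subtype.ext hg⟩
    have hcardQ : Nat.card (Q : Subgroup (X ⧸ A')) * Nat.card A = Nat.card (P : Subgroup G) := by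
      rw [hQ]
      have h1 := Subgroup.card_mul_index ((f.comp (P.subtype hPX : Subgroup X).subtype).ker)
      rw [Subgroup.index_ker, MonoidHom.range_comp, Subgroup.range_subtype] at h1
      have h2 : Nat.card (f.comp (P.subtype hPX : Subgroup X).subtype).ker = Nat.card A := by
        refine Nat.card_congr ⟨fun w => ⟨_, Subgroup.mem_subgroupOf.1
            ((QuotientGroup.eq_one_iff (N := A') _).1 (MonoidHom.mem_ker.1 w.2))⟩,
          fun a => ⟨⟨⟨a, hPX (hAP a.2)⟩, hAP a.2⟩, MonoidHom.mem_ker.2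
            ((QuotientGroup.eq_one_iff _).2 a.2)⟩, fun w => rfl, fun a => rfl⟩
      rw [h2] at h1
      have h3 : Nat.card (P.subtype hPX : Subgroup X) = Nat.card (P : Subgroup G) :=
        Nat.card_congr (Subgroup.subgroupOfEquivOfLe hPX).toEquiv
      rw [← h3, ← h1, mul_comm]
    have h8 : 2 ^ 3 ≤ Nat.card (Q : Subgroup (X ⧸ A')) := by
      by_contra hcon
      push Not at hcon
      rw [hi, hj] at hcardQ
      obtain ⟨k, hk⟩ := IsPGroup.iff_card.1 Q.isPGroup'
      rw [hk] at hcon hcardQ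
      rw [← pow_add] at hcardQ
      have := (Nat.pow_right_injective le_rfl hcardQ)
      have := (Nat.pow_lt_pow_iff_right (by norm_num : 1 < 2)).1 hcon
      omega
    rcases solvable_or_one_class Q hQE hQS h8 with hsol | hone
    · exfalso
      apply hAns
      haveI := hsol
      haveI : Group.IsSolvable A' := Group.isSolvable_of_comm fun a b => Subtype.ext (Subtype.ext
        (congrArg Subtype.val (hc.is_comm.comm ⟨_, hAP a.2⟩ ⟨_, hAP b.2⟩) :))
      exact Group.isSolvable_of_ker_le_range A'.subtype f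
        (by rw [QuotientGroup.ker_mk', Subgroup.range_subtype])
    obtain ⟨t₀, ht₀, ht₀A⟩ : ∃ t₀ ∈ (P : Subgroup G), t₀ ∉ A := by
      refine SetLike.exists_of_lt (lt_of_le_of_ne hAP fun hne => ?_)
      rw [hne, hj] at hi
      have := Nat.pow_right_injective le_rfl hi
      omega
    have hcover : ∀ v ∈ (P : Subgroup G), v ∉ A →
        ∃ n ∈ U, n * t₀ * n⁻¹ * v⁻¹ ∈ A := by
      intro v hv hvA
      obtain ⟨m, hm, hmt⟩ := hone (f ⟨t₀, hPX ht₀⟩) (hQ ▸ ⟨_, ht₀, rfl⟩) (f ⟨v, hPX hv⟩)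
        (hQ ▸ ⟨_, hv, rfl⟩) (fun h => ht₀A (Subgroup.mem_subgroupOf.1 ((QuotientGroup.eq_one_iff (N := A') _).1 h)))
        (fun h => hvA (Subgroup.mem_subgroupOf.1 ((QuotientGroup.eq_one_iff (N := A') _).1 h)))
      obtain ⟨n, rfl⟩ := hf m
      have hnP : ∀ w ∈ (P : Subgroup G), (n : G) * w * (n : G)⁻¹ ∈ (P : Subgroup G) := by
        intro w hw
        have h1 := (Subgroup.mem_normalizer_iff.1 hm (f ⟨w, hPX hw⟩)).1 (hQ ▸ ⟨_, hw, rfl⟩)
        rw [hQ, ← map_inv, ← map_mul, ← map_mul] at h1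
        obtain ⟨w', hw', e'⟩ := h1
        have h2 : w'⁻¹ * (n * ⟨w, hPX hw⟩ * n⁻¹) ∈ A' := QuotientGroup.eq.1 e'
        have h3 := mul_mem (show ((w' : X) : G) ∈ (P : Subgroup G) from hw')
          (hAP (Subgroup.mem_subgroupOf.1 h2))
        rw [show ((w' : X) : G) * ((w'⁻¹ * (n * ⟨w, hPX hw⟩ * n⁻¹) : X) : G) =
          (n : G) * w * (n : G)⁻¹ by simp [mul_assoc]] at h3
        exact h3
      refine ⟨n, ⟨?_, n.2⟩, ?_⟩
      · refine (Subgroup.mem_normalizer_iff).2 fun w => ⟨hnP w, fun hw => ?_⟩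
        have hinj : Function.Injective (fun w : (P : Subgroup G) => (⟨_, hnP w w.2⟩ : (P : Subgroup G))) :=
          fun a b hab => Subtype.ext (mul_left_cancel (mul_right_cancel
            (show (n : G) * (a : G) * (n : G)⁻¹ = (n : G) * (b : G) * (n : G)⁻¹ from
              congrArg Subtype.val hab)))
        obtain ⟨w', hw'⟩ := Finite.injective_iff_surjective.1 hinj ⟨_, hw⟩
        have h4 : (w' : G) = w := mul_left_cancel (mul_right_cancel
          (show (n : G) * (w' : G) * (n : G)⁻¹ = (n : G) * w * (n : G)⁻¹ from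
            congrArg Subtype.val hw'))
        rw [← h4]
        exact w'.2
      · rw [← map_inv, ← map_mul, ← map_mul] at hmt
        have h2 : f (n * ⟨t₀, hPX ht₀⟩ * n⁻¹ * ⟨v, hPX hv⟩⁻¹) = 1 := by
          rw [map_mul, hmt, map_inv, mul_inv_cancel]
        exact Subgroup.mem_subgroupOf.1 ((QuotientGroup.eq_one_iff (N := A') _).1 h2)
    let K := CP.subgroupOf U
    have hsur : ∀ v : {v : G // v ∈ (P : Subgroup G) ∧ v ∉ A}, ∃ x : (U ⧸ K) × A,
        ((Quotient.out x.1 : U) : G) * t₀ * ((Quotient.out x.1 : U) : G)⁻¹ * (x.2 : G) = v := by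
      intro v
      obtain ⟨n, hn, hnA⟩ := hcover v v.2.1 v.2.2
      set o : U := Quotient.out (QuotientGroup.mk ⟨n, hn⟩ : U ⧸ K) with ho
      have ho' : (o⁻¹ * ⟨n, hn⟩ : U) ∈ K :=
        QuotientGroup.eq.1 (QuotientGroup.out_eq' (QuotientGroup.mk ⟨n, hn⟩ : U ⧸ K))
      have h1 : (o : G) * t₀ * (o : G)⁻¹ = n * t₀ * n⁻¹ := by
        have h2 : t₀ * ((o : G)⁻¹ * n) = (o : G)⁻¹ * n * t₀ := ho' t₀ ht₀
        calc (o : G) * t₀ * (o : G)⁻¹ = (o : G) * (t₀ * ((o : G)⁻¹ * n)) * n⁻¹ := by group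
          _ = _ := by rw [h2]; group
      refine ⟨(QuotientGroup.mk ⟨n, hn⟩, ⟨(n * t₀ * n⁻¹)⁻¹ * v, ?_⟩), ?_⟩
      · rw [show (n * t₀ * n⁻¹)⁻¹ * (v : G) = (n * t₀ * n⁻¹)⁻¹ * (n * t₀ * n⁻¹ * (v : G)⁻¹)⁻¹ *
          (n * t₀ * n⁻¹) by group]
        have hw : n * t₀ * n⁻¹ ∈ (P : Subgroup G) := (Subgroup.mem_normalizer_iff.1 hn.1 _).1 ht₀
        have hcm : (n * t₀ * n⁻¹ * (v : G)⁻¹)⁻¹ * (n * t₀ * n⁻¹) =
            (n * t₀ * n⁻¹) * (n * t₀ * n⁻¹ * (v : G)⁻¹)⁻¹ :=
          congrArg Subtype.val (hc.is_comm.comm ⟨_, hAP (inv_mem hnA)⟩ ⟨_, hw⟩)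
        rw [mul_assoc, hcm, inv_mul_cancel_left]
        exact inv_mem hnA
      · show (o : G) * t₀ * (o : G)⁻¹ * ((n * t₀ * n⁻¹)⁻¹ * v) = v
        rw [h1, mul_inv_cancel_left]
    choose g hg using hsur
    have h1 := Nat.card_le_card_of_injective g fun a b hab => Subtype.ext (by
      rw [← hg a, ← hg b, hab])
    rw [Nat.card_prod] at h1
    change _ ≤ e * _ at h1
    have h2 : Nat.card (P : Subgroup G) =
        Nat.card {v : G // v ∈ (P : Subgroup G) ∧ v ∉ A} + Nat.card A := by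
      have hsub : (A : Set G) ⊆ ((P : Subgroup G) : Set G) := hAP
      have h3 := Set.ncard_sdiff_add_ncard_of_subset hsub
      simp only [← Nat.card_coe_set_eq] at h3
      exact h3.symm
    rw [mul_comm e] at h1
    rw [h2, mul_add, mul_one]
    omega
  have hA2 : 2 ≤ Nat.card A := by
    haveI : Nontrivial A := ⟨⟨⟨s, hsA⟩, 1, fun h => hs1 (congrArg Subtype.val h)⟩⟩
    exact Finite.one_lt_card
  obtain ⟨e', he'⟩ : ∃ e', e = e' + 1 := ⟨e - 1, by omega⟩
  have hL2 : 2 ≤ L := hA2.trans hAL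
  have h5 : L ^ e' ≤ e + 1 := by
    refine Nat.le_of_mul_le_mul_left ?_ (show 0 < L by omega)
    calc L * L ^ e' = L ^ e := by rw [he', pow_succ, mul_comm]
      _ ≤ Nat.card A * (e + 1) := hpow ▸ hbound
      _ ≤ L * (e + 1) := Nat.mul_le_mul_right _ hAL
  have h6 : e' ≤ 2 := by
    by_contra hcon
    push Not at hcon
    have h7 : e' + 2 < 2 ^ e' := by
      obtain ⟨d, rfl⟩ : ∃ d, e' = d + 3 := ⟨e' - 3, by omega⟩
      have := Nat.lt_two_pow_self (n := d)
      rw [pow_add]
      omega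
    have := Nat.pow_le_pow_left hL2 e'
    omega
  have he3' : e = 3 := by omega
  have hL : L = 2 := by
    have : L ^ 2 ≤ 4 := by
      rw [show e' = 2 by omega, he3'] at h5
      exact h5
    nlinarith
  refine ⟨by rw [← hpow, hL, he3']; norm_num, ?_⟩
  have hA : A = Subgroup.zpowers s := by
    refine (Subgroup.eq_of_le_of_card_ge (Subgroup.zpowers_le.2 hsA) ?_).symm
    rw [Nat.card_zpowers, orderOf_eq_prime (p := 2) (by rw [pow_two]; exact hE s hs) hs1]
    omega
  rw [← he3', he, hU, hX, hA, hz]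

end H85.ConstDiff
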